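import Mathlib
import Cfsg.Prelude.Def_TwoFusion
import Cfsg.Agent.ThreePrime.ACFacts
import Cfsg.Agent.S0215
import Cfsg.Agent.TwoFusion.S4FreeFunctor
import Cfsg.Agent.TwoFusion.IsolatedCenter
import Cfsg.Agent.ThreePrime.Pump
import Cfsg.Agent.ThreePrime.CoreConj
import Cfsg.Agent.PLocal.PConstrained
import Cfsg.Agent.SignalizersComponents.CoprimeGen
import Cfsg.Agent.ThreePrime.Transfer
import Cfsg.Agent.S0205
import Cfsg.Agent.S1174
import Cfsg.Agent.SignalizersComponents.SolFunctorTwo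
import Cfsg.Agent.StrongEmb.Strong
import Cfsg.Agent.ThreePrime.OrderThree
import Cfsg.Prelude.Def_Exceptional
import Cfsg.Agent.S1137
import Cfsg.Agent.S1141
import Cfsg.Agent.ThreePrime.SzDataExists
import Cfsg.Agent.Solvable.UniqueOrderP
import Cfsg.Agent.FastGrp
import Cfsg.Agent.Prune
set_option linter.all false

section
prune_inst 0x7ffcfef9afb8bddeffff7e7fffdddfffbdfcffffffdffbfbfffcebffffff6b0ef9e5fbadffebd8ff4ef7e2b630f87b53f9ffca3fef6bdd7ffffd5ff45ffbff9fffffbf8d51fea8be1ffc6ffffbf97fce7f3fffffffffffffffffffffffffffbeffffffffffff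

-- part: ThreePrime/Main
section
prune_inst 0x200000400000000000040000011000000000610210000200040000a00010000200008000000000009000000002000020040000000000220c001000000010000006801180c00000000000000000000000000041000000000000
set_option linter.all false
open scoped Cfsg.Agent.FastGrp

-- part: ThreePrime/GData
section
/-!
# Data on minimal strongly closed elementary abelian 2-subgroups
-/

set_option autoImplicit false
set_option linter.dupNamespace false

namespace Cfsg.Agent.ThreePrime.GData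

open Subgroup
open Cfsg.Agent.ThreePrime.Chain

universe u

variable {G : Type u} [Group G]

/-- Standing hypothesis on the elementary abelian 2-subgroup `A` of `G`. -/
structure GData (A : Subgroup G) : Prop where
  three : ¬ 3 ∣ Nat.card G
  sq : ∀ x ∈ A, x * x = 1
  comm : ∀ x ∈ A, ∀ y ∈ A, x * y = y * x
  ne : A ≠ ⊥
  sc : ∀ P : Subgroup G, IsPGroup 2 P → A ≤ P → ∀ x ∈ A, ∀ g : G, g * x * g⁻¹ ∈ P → g * x * g⁻¹ ∈ A
  irr : Irr A
  card : 8 ≤ Nat.card A
  ctrl : ∀ x ∈ A, ∀ g : G, g * x * g⁻¹ ∈ A →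
    ∃ n ∈ normalizer (A : Set G), n * x * n⁻¹ = g * x * g⁻¹

theorem isPGroup_of_sq {A : Subgroup G} (hsq : ∀ x ∈ A, x * x = 1) : IsPGroup 2 A := by
  intro x
  refine ⟨1, ?_⟩
  rw [pow_one, pow_two]
  exact Subtype.ext (hsq x x.2)

theorem mem_normalizer_of_forall [Finite G] {A : Subgroup G} {g : G} (h : ∀ x ∈ A, g * x * g⁻¹ ∈ A) :
    g ∈ normalizer (A : Set G) := by
  rw [Subgroup.mem_normalizer_iff_map_conj_eq]
  have hle : A.map (MulAut.conj g).toMonoidHom ≤ A := by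
    rintro _ ⟨x, hx, rfl⟩
    exact h x hx
  apply Subgroup.eq_of_le_of_card_ge hle
  rw [card_map_of_injective (MulAut.conj g).injective]

/-- Strong closure in a Sylow 2-subgroup gives strong closure in every 2-subgroup. -/
theorem sc_of_stronglyClosed [Finite G] {A : Subgroup G} (S : Sylow 2 G)
    (hA : Cfsg.IsStronglyClosed A (S : Subgroup G)) (P : Subgroup G) (hP : IsPGroup 2 P) (hAP : A ≤ P)
    (x : G) (hx : x ∈ A) (h : G) (hh : h * x * h⁻¹ ∈ P) : h * x * h⁻¹ ∈ A := by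
  obtain ⟨Q, hQ⟩ := hP.exists_le_sylow
  obtain ⟨g, hg⟩ := MulAction.exists_smul_eq G Q S
  have hmem : ∀ p ∈ P, g * p * g⁻¹ ∈ (S : Subgroup G) := by
    intro p hp
    have h1 : p ∈ (Q : Subgroup G) := hQ hp
    rw [← hg]
    have h2 : g * p * g⁻¹ ∈ (g • Q : Sylow 2 G) := by
      rw [← SetLike.mem_coe, Sylow.coe_smul]
      exact ⟨p, h1, rfl⟩
    exact h2
  have hgA : ∀ y ∈ A, g * y * g⁻¹ ∈ A := fun y hy => hA.2 y hy g (hmem y (hAP hy))
  have hgN := mem_normalizer_of_forall hgA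
  have h1 := hmem _ hh
  have h2 : (g * h) * x * (g * h)⁻¹ ∈ A := by
    apply hA.2 x hx
    have e : (g * h) * x * (g * h)⁻¹ = g * (h * x * h⁻¹) * g⁻¹ := by group
    rw [e]
    exact h1
  have h3 := (mem_normalizer_iff.1 (inv_mem hgN) _).1 h2
  have e : g⁻¹ * (g * h * x * (g * h)⁻¹) * g⁻¹⁻¹ = h * x * h⁻¹ := by group
  rwa [e] at h3

/-- `N_G(A)` controls fusion in `A`. -/
theorem exists_ctrl [Finite G] {A : Subgroup G} (hsq : ∀ x ∈ A, x * x = 1)
    (hcomm : ∀ x ∈ A, ∀ y ∈ A, x * y = y * x)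
    (hsc : ∀ P : Subgroup G, IsPGroup 2 P → A ≤ P → ∀ x ∈ A, ∀ g : G, g * x * g⁻¹ ∈ P →
      g * x * g⁻¹ ∈ A) (x : G) (hx : x ∈ A) (g : G) (hg : g * x * g⁻¹ ∈ A) :
    ∃ n ∈ normalizer (A : Set G), n * x * n⁻¹ = g * x * g⁻¹ := by
  set y := g * x * g⁻¹ with hy
  set C := centralizer ({y} : Set G) with hC
  have hAC : A ≤ C := by
    intro a ha
    rw [mem_centralizer_singleton_iff]
    exact hcomm a ha y hg
  set A' := A.map (MulAut.conj g).toMonoidHom with hA'
  have hA'C : A' ≤ C := by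
    rintro _ ⟨a, ha, rfl⟩
    rw [mem_centralizer_singleton_iff]
    have h1 := hcomm a ha x hx
    change g * a * g⁻¹ * (g * x * g⁻¹) = g * x * g⁻¹ * (g * a * g⁻¹)
    calc g * a * g⁻¹ * (g * x * g⁻¹) = g * (a * x) * g⁻¹ := by group
      _ = g * (x * a) * g⁻¹ := by rw [h1]
      _ = _ := by group
  have hA2 := isPGroup_of_sq hsq
  have hA2' : IsPGroup 2 A' := hA2.map _
  obtain ⟨P, hP⟩ := (hA2.comap_of_injective C.subtype C.subtype_injective).exists_le_sylow
  obtain ⟨Q, hQ⟩ := (hA2'.comap_of_injective C.subtype C.subtype_injective).exists_le_sylow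
  obtain ⟨c, hc⟩ := MulAction.exists_smul_eq C Q P
  have hPG : IsPGroup 2 ((P : Subgroup C).map C.subtype) := P.isPGroup'.map _
  have hAP : A ≤ (P : Subgroup C).map C.subtype := by
    intro a ha
    exact ⟨⟨a, hAC ha⟩, hP ha, rfl⟩
  have hn : ∀ a ∈ A, ((c : G) * g) * a * ((c : G) * g)⁻¹ ∈ A := by
    intro a ha
    apply hsc _ hPG hAP a ha
    have h1 : g * a * g⁻¹ ∈ A' := ⟨a, ha, rfl⟩
    have h2 : (⟨g * a * g⁻¹, hA'C h1⟩ : C) ∈ (Q : Subgroup C) := hQ h1
    have h3 : c * ⟨g * a * g⁻¹, hA'C h1⟩ * c⁻¹ ∈ (P : Subgroup C) := by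
      rw [← hc]
      have h2 : c * ⟨g * a * g⁻¹, hA'C h1⟩ * c⁻¹ ∈ (c • Q : Sylow 2 C) := by
        rw [← SetLike.mem_coe, Sylow.coe_smul]
        exact ⟨_, h2, rfl⟩
      exact h2
    refine ⟨_, h3, ?_⟩
    simp only [coe_subtype, Subgroup.coe_mul, Subgroup.coe_inv]
    group
  refine ⟨(c : G) * g, mem_normalizer_of_forall hn, ?_⟩
  have hcc := mem_centralizer_singleton_iff.1 c.2
  calc (c : G) * g * x * ((c : G) * g)⁻¹ = c * y * (c : G)⁻¹ := by rw [hy]; group
    _ = y := by rw [hcc]; group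

/-- A 3'-group acts trivially on an elementary abelian group of order at most 4 on which it acts
irreducibly. -/
theorem centralizes_of_small [Finite G] (h3 : ¬ 3 ∣ Nat.card G) {A : Subgroup G}
    (hsq : ∀ x ∈ A, x * x = 1) (hne : A ≠ ⊥) (hirr : Irr A) (hc : Nat.card A < 8) (n : G)
    (hn : n ∈ normalizer (A : Set G)) (x : G) (hx : x ∈ A) : n * x * n⁻¹ = x := by
  classical
  have hA := isPGroup_of_sq hsq
  have hcard : Nat.card A ∣ 4 := by
    obtain ⟨k, hk⟩ := IsPGroup.iff_card.1 hA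
    have hk3 : k < 3 := by
      by_contra hcon
      have h1 : 2 ^ 3 ≤ 2 ^ k := Nat.pow_le_pow_right (by norm_num) (by omega)
      omega
    rw [hk]
    exact pow_dvd_pow 2 (show k ≤ 2 by omega)
  set ρ : normalizer (A : Set G) →* MulAut A := A.normalizerMonoidHom with hρ
  -- the permutation representation on `A - 1`
  let ψ : MulAut A →* Equiv.Perm {a : A // a ≠ 1} :=
    { toFun := fun φ =>
        { toFun := fun a => ⟨φ a, fun h => a.2 (φ.injective (by rw [h, map_one]))⟩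
          invFun := fun a => ⟨φ.symm a, fun h => a.2 (φ.symm.injective (by rw [h, map_one]))⟩
          left_inv := fun a => by simp
          right_inv := fun a => by simp }
      map_one' := by ext a; rfl
      map_mul' := by intro f g; ext a; rfl }
  have hψ : Function.Injective ψ := by
    intro f g hfg
    ext a
    by_cases ha : a = 1
    · rw [ha, map_one, map_one]
    · have h1 := congrArg (fun p : Equiv.Perm {a : A // a ≠ 1} => ((p ⟨a, ha⟩ : {a : A // a ≠ 1}) : A))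
        hfg
      exact congrArg Subtype.val h1
  have h6 : ∀ p : Equiv.Perm {a : A // a ≠ 1}, p ^ 6 = 1 := by
    intro p
    have : Fintype A := Fintype.ofFinite A
    have h1 : Nat.card {a : A // a ≠ 1} ≤ 3 := by
      have h2 : Nat.card A ≤ 4 := Nat.le_of_dvd (by norm_num) hcard
      have h4 := Fintype.card_subtype_compl (fun a : A => a = 1)
      rw [Fintype.card_subtype_eq] at h4
      rw [Nat.card_eq_fintype_card] at h2
      rw [Nat.card_eq_fintype_card]
      have h5 : Fintype.card {a : A // a ≠ 1} = Fintype.card {x : A // ¬ x = 1} := rfl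
      omega
    have h2 : Nat.card (Equiv.Perm {a : A // a ≠ 1}) ∣ 6 := by
      rw [Nat.card_perm]
      interval_cases Nat.card {a : A // a ≠ 1} <;> decide
    obtain ⟨m, hm⟩ := h2
    rw [hm, pow_mul, pow_card_eq_one', one_pow]
  have hK : IsPGroup 2 ρ.range := by
    rintro ⟨_, m, rfl⟩
    refine ⟨1, ?_⟩
    apply Subtype.ext
    change (ρ m) ^ (2 ^ 1) = 1
    have h1 : (ρ m) ^ 6 = 1 := hψ (by rw [map_pow, h6, map_one])
    have h2 : orderOf (ρ m) ∣ 6 := orderOf_dvd_of_pow_eq_one h1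
    have h3' : orderOf (ρ m) ∣ Nat.card G :=
      (orderOf_map_dvd ρ m).trans ((_root_.orderOf_dvd_natCard m).trans (card_subgroup_dvd_card _))
    have hcop : Nat.Coprime (orderOf (ρ m)) 3 := by
      rw [Nat.coprime_comm, Nat.Prime.coprime_iff_not_dvd Nat.prime_three]
      exact fun h => h3 (h.trans h3')
    have h4 : orderOf (ρ m) ∣ 2 := by
      have : orderOf (ρ m) ∣ 3 * 2 := h2
      exact hcop.dvd_of_dvd_mul_left this
    rw [pow_one]
    exact orderOf_dvd_iff_pow_eq_one.1 h4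
  have hbot := range_core hA hne hirr ρ.range hK (by
    rintro m k hk
    exact mul_mem (mul_mem ⟨m, rfl⟩ hk) (inv_mem ⟨m, rfl⟩))
  have h1 : ρ ⟨n, hn⟩ ∈ ρ.range := ⟨_, rfl⟩
  rw [hbot, mem_bot] at h1
  exact congrArg (fun φ : MulAut A => ((φ ⟨x, hx⟩ : A) : G)) h1

end Cfsg.Agent.ThreePrime.GData
end

-- part: ThreePrime/GDataExists
section
/-!
# Minimal strongly closed elementary abelian subgroups of simple groups of order prime to 3
-/

set_option autoImplicit false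

namespace Cfsg.Agent.ThreePrime.GDataExists

open Subgroup
open Cfsg.Agent.ThreePrime.Chain
open Cfsg.Agent.ThreePrime.GData

universe u

variable {G : Type u} [Group G]

/-- Existence of `A`. -/
theorem exists_gdata [Finite G] [IsSimpleGroup G] (hna : ∃ a b : G, a * b ≠ b * a)
    (h3 : ¬ 3 ∣ Nat.card G) (heven : Even (Nat.card G)) : ∃ A : Subgroup G, GData A := by
  obtain ⟨S⟩ : Nonempty (Sylow 2 G) := inferInstance
  have hS : (S : Subgroup G) ≠ ⊥ := by
    have := Sylow.ne_bot_of_dvd_card S (even_iff_two_dvd.1 heven)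
    exact this
  obtain ⟨A₀, hA1, hA2, hA3⟩ :=
    Cfsg.Agent.TwoFusion.S4FreeFunctor.exists_stronglyClosed h3 S hS
  -- the involutions of `A₀`
  let A₁ : Subgroup G :=
    { carrier := {x | x ∈ A₀ ∧ x * x = 1}
      mul_mem' := by
        rintro x y ⟨hx, hx2⟩ ⟨hy, hy2⟩
        refine ⟨mul_mem hx hy, ?_⟩
        have h1 : x * y = y * x := congrArg Subtype.val (hA2.is_comm.comm (⟨x, hx⟩ : A₀) ⟨y, hy⟩)
        calc x * y * (x * y) = x * (y * x) * y := by group
          _ = x * (x * y) * y := by rw [h1]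
          _ = (x * x) * (y * y) := by group
          _ = 1 := by rw [hx2, hy2, one_mul]
      one_mem' := ⟨one_mem _, one_mul 1⟩
      inv_mem' := by
        rintro x ⟨hx, hx2⟩
        refine ⟨inv_mem hx, ?_⟩
        rw [← mul_inv_rev, hx2, inv_one] }
  have hA₁S : Cfsg.IsStronglyClosed A₁ (S : Subgroup G) := by
    refine ⟨fun x hx => hA3.1 hx.1, ?_⟩
    rintro x ⟨hx, hx2⟩ g hg
    refine ⟨hA3.2 x hx g hg, ?_⟩
    calc g * x * g⁻¹ * (g * x * g⁻¹) = g * (x * x) * g⁻¹ := by group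
      _ = 1 := by rw [hx2]; group
  have hA₁ : A₁ ≠ ⊥ := by
    intro hbot
    apply hA1
    have h2 : IsPGroup 2 A₀ := S.isPGroup'.to_le hA3.1
    rw [eq_bot_iff]
    intro x hx
    rw [mem_bot]
    by_contra hx1
    obtain ⟨k, hk⟩ := h2 ⟨x, hx⟩
    have hk' : x ^ 2 ^ k = 1 := congrArg Subtype.val hk
    have hex : ∃ k, x ^ 2 ^ k = 1 := ⟨k, hk'⟩
    classical
    set m := Nat.find hex with hm
    have h3 : x ^ 2 ^ m = 1 := Nat.find_spec hex
    rcases Nat.eq_zero_or_pos m with h0 | h0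
    · rw [h0, pow_zero, pow_one] at h3
      exact hx1 h3
    · obtain ⟨l, hl⟩ : ∃ l, m = l + 1 := ⟨m - 1, by omega⟩
      have h4 : x ^ 2 ^ l ≠ 1 := Nat.find_min hex (by omega)
      apply h4
      have h5 : x ^ 2 ^ l ∈ A₁ := by
        refine ⟨pow_mem hx _, ?_⟩
        rw [← pow_two, ← pow_mul, ← pow_succ, ← hl]
        exact h3
      rw [hbot, mem_bot] at h5
      exact h5
  -- a minimal one
  have hfin : ({B : Subgroup G | B ≤ A₁ ∧ B ≠ ⊥ ∧ Cfsg.IsStronglyClosed B (S : Subgroup G)}).Finite :=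
    Set.toFinite _
  obtain ⟨A, hAmin⟩ := hfin.exists_minimal ⟨A₁, le_rfl, hA₁, hA₁S⟩
  obtain ⟨⟨hAle, hAne, hAsc⟩, hmin⟩ := hAmin
  have hsq : ∀ x ∈ A, x * x = 1 := fun x hx => (hAle hx).2
  have hcomm : ∀ x ∈ A, ∀ y ∈ A, x * y = y * x := by
    intro x hx y hy
    exact congrArg Subtype.val (hA2.is_comm.comm (⟨x, (hAle hx).1⟩ : A₀) ⟨y, (hAle hy).1⟩)
  have hsc : ∀ P : Subgroup G, IsPGroup 2 P → A ≤ P → ∀ x ∈ A, ∀ g : G, g * x * g⁻¹ ∈ P →
      g * x * g⁻¹ ∈ A := sc_of_stronglyClosed S hAsc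
  have hctrl := exists_ctrl hsq hcomm hsc
  have hirr : Irr A := by
    intro B hB hB1 hn
    have h1 : B ∈ {B : Subgroup G | B ≤ A₁ ∧ B ≠ ⊥ ∧ Cfsg.IsStronglyClosed B (S : Subgroup G)} := by
      refine ⟨hB.trans hAle, hB1, hB.trans hAsc.1, ?_⟩
      intro b hb g hg
      obtain ⟨n, hnA, hng⟩ := hctrl b (hB hb) g (hAsc.2 b (hB hb) g hg)
      rw [← hng]
      exact hn n hnA b hb
    exact le_antisymm hB (hmin h1 hB)
  refine ⟨A, h3, hsq, hcomm, hAne, hsc, hirr, ?_, hctrl⟩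
  by_contra hlt
  rw [not_le] at hlt
  have htriv := centralizes_of_small h3 hsq hAne hirr hlt
  obtain ⟨x, hx, hx1⟩ : ∃ x ∈ A, x ≠ 1 := (bot_or_exists_ne_one A).resolve_left hAne
  have hord : orderOf x = 2 := by
    apply orderOf_eq_prime _ hx1
    rw [pow_two]
    exact hsq x hx
  obtain ⟨N, hN, hNodd, hNc⟩ := Cfsg.Agent.S0215.result S x hord (hAsc.1 hx) (by
    intro g hg
    obtain ⟨n, hnA, hng⟩ := hctrl x hx g (hAsc.2 x hx g hg)
    rw [← hng]
    exact htriv n hnA x hx)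
  rcases IsSimpleGroup.eq_bot_or_eq_top_of_normal N hN with h1 | h1
  · have h2 : x ∈ center G := by
      rw [mem_center_iff]
      intro g
      have h4 := hNc g
      rw [h1, mem_bot] at h4
      calc g * x = 1 * g * x := by group
        _ = (x * g * x⁻¹ * g⁻¹) * g * x := by rw [h4]
        _ = x * g := by group
    rcases IsSimpleGroup.eq_bot_or_eq_top_of_normal (center G) inferInstance with h5 | h5
    · rw [h5, mem_bot] at h2
      exact hx1 h2
    · obtain ⟨a, b, hab⟩ := hna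
      apply hab
      have h6 : b ∈ center G := by rw [h5]; trivial
      exact mem_center_iff.1 h6 a
  · rw [h1, card_top] at hNodd
    exact (Nat.not_even_iff_odd.2 hNodd) heven

end Cfsg.Agent.ThreePrime.GDataExists
end

-- part: ThreePrime/Cov
section
/-!
# Quotients of the centralizers of the elements of `A`

`Cov`: a surjection `π : C_G(a) → X` with kernel of odd order onto a group `X` with `Hyp X`.
-/

set_option autoImplicit false
set_option linter.dupNamespace false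

namespace Cfsg.Agent.ThreePrime.Cov

open Subgroup
open scoped commutatorElement
open Cfsg
open Cfsg.Agent.ThreePrime.Chain
open Cfsg.Agent.ThreePrime.Factor
open Cfsg.Agent.ThreePrime.GData
open Cfsg.Agent.ThreePrime.Comp
open Cfsg.Agent.ThreePrime.AComp
open Cfsg.Agent.ThreePrime.ACFacts

universe u

/-! ### Pulling back and pushing forward factorisations -/

theorem Fac.pull {C X : Type*} [Group C] [Group X] (π : C →* X) {P' : Subgroup C}
    (hinj : ∀ x ∈ P', π x = 1 → x = 1) {P T R : Subgroup X} (h : Fac P T R) (hP : P'.map π = P) :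
    Fac P' (P' ⊓ T.comap π) (P' ⊓ R.comap π) := by
  have hi : ∀ x ∈ P', ∀ y ∈ P', π x = π y → x = y := by
    intro x hx y hy hxy
    have h1 := hinj (x * y⁻¹) (mul_mem hx (inv_mem hy)) (by rw [map_mul, map_inv, hxy, mul_inv_cancel])
    rwa [mul_inv_eq_one] at h1
  have hPmem : ∀ x ∈ P', π x ∈ P := fun x hx => hP ▸ ⟨x, hx, rfl⟩
  have hlift : ∀ y ∈ P, ∃ x ∈ P', π x = y := by
    intro y hy
    rw [← hP] at hy
    obtain ⟨x, hx, rfl⟩ := hy
    exact ⟨x, hx, rfl⟩
  refine ⟨inf_le_left, inf_le_left, ?_, ?_, ?_, ?_, ?_⟩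
  · rintro t ⟨htP, htT⟩ r ⟨hrP, hrR⟩
    apply hi _ (mul_mem htP hrP) _ (mul_mem hrP htP)
    rw [map_mul, map_mul]
    exact h.comm _ htT _ hrR
  · rintro x ⟨hxP, hxT⟩ ⟨-, hxR⟩
    exact hinj x hxP (h.inf _ hxT hxR)
  · intro p hp
    obtain ⟨t, ht, r, hr, he⟩ := h.ex _ (hPmem p hp)
    obtain ⟨t', ht', rfl⟩ := hlift t (h.T_le ht)
    obtain ⟨r', hr', rfl⟩ := hlift r (h.R_le hr)
    refine ⟨t', ⟨ht', ht⟩, r', ⟨hr', hr⟩, ?_⟩
    apply hi _ hp _ (mul_mem ht' hr')
    rw [map_mul, he]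
  · rintro u ⟨huP, huT⟩ ⟨v, ⟨hvP, hvT⟩, hne⟩ x ⟨hxP, hxT⟩ y ⟨hyP, hyT⟩ hxu hyu
    apply hi _ (mul_mem hxP hyP) _ (mul_mem hyP hxP)
    rw [map_mul, map_mul]
    refine h.abel _ huT ⟨π v, hvT, ?_⟩ _ hxT _ hyT ?_ ?_
    · intro hh
      apply hne
      apply hi _ (mul_mem huP hvP) _ (mul_mem hvP huP)
      rw [map_mul, map_mul, hh]
    · rw [← map_mul, hxu, map_mul]
    · rw [← map_mul, hyu, map_mul]
  · obtain ⟨x, hx, y, hy, hxy⟩ := h.nonab
    obtain ⟨x', hx', rfl⟩ := hlift x (h.T_le hx)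
    obtain ⟨y', hy', rfl⟩ := hlift y (h.T_le hy)
    refine ⟨x', ⟨hx', hx⟩, y', ⟨hy', hy⟩, ?_⟩
    intro hh
    apply hxy
    rw [← map_mul, hh, map_mul]

theorem Fac.push {C G : Type*} [Group C] [Group G] (f : C →* G) (hf : Function.Injective f)
    {P T R : Subgroup C} (h : Fac P T R) : Fac (P.map f) (T.map f) (R.map f) := by
  refine ⟨map_mono h.T_le, map_mono h.R_le, ?_, ?_, ?_, ?_, ?_⟩
  · rintro _ ⟨t, ht, rfl⟩ _ ⟨r, hr, rfl⟩
    rw [← map_mul, ← map_mul, h.comm t ht r hr]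
  · rintro _ ⟨t, ht, rfl⟩ ⟨r, hr, hrt⟩
    have : r = t := hf hrt
    rw [h.inf t ht (this ▸ hr), map_one]
  · rintro _ ⟨p, hp, rfl⟩
    obtain ⟨t, ht, r, hr, he⟩ := h.ex p hp
    exact ⟨_, ⟨t, ht, rfl⟩, _, ⟨r, hr, rfl⟩, by rw [← map_mul, ← he]⟩
  · rintro _ ⟨u, hu, rfl⟩ ⟨_, ⟨v, hv, rfl⟩, hne⟩ _ ⟨x, hx, rfl⟩ _ ⟨y, hy, rfl⟩ hxu hyu
    rw [← map_mul, ← map_mul] at hne hxu hyu ⊢
    rw [h.abel u hu ⟨v, hv, fun hh => hne (by rw [hh])⟩ x hx y hy (hf hxu) (hf hyu)]
  · obtain ⟨x, hx, y, hy, hxy⟩ := h.nonab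
    refine ⟨_, ⟨x, hx, rfl⟩, _, ⟨y, hy, rfl⟩, ?_⟩
    rw [← map_mul, ← map_mul]
    exact fun hh => hxy (hf hh)

variable {G : Type u} [Group G] [Finite G] {A : Subgroup G}

/-- the centralizer of an element. -/
abbrev Ce {G : Type u} [Group G] (a : G) : Subgroup G := centralizer ({a} : Set G)

/-- A surjection of `C_G(a)` with kernel of odd order. -/
structure Cov (a : G) (X : Type u) [Group X] [Finite X] (π : Ce a →* X) :
    Prop where
  surj : Function.Surjective π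
  ker : Odd (Nat.card π.ker)
  hyp : Hyp X

variable {a : G} {X : Type u} [Group X] [Finite X] {π : Ce a →* X}

omit [Finite G] in
theorem le_centralizer (hG : GData A) (ha : a ∈ A) : A ≤ Ce a := by
  intro x hx
  rw [mem_centralizer_singleton_iff]
  exact hG.comm x hx a ha

omit [Finite G] in
/-- elements of 2-power order in the kernel are trivial. -/
theorem Cov.eq_one (h : Cov a X π) {Sa : Sylow 2 (Ce a)}
    {x : Ce a} (hx : x ∈ (Sa : Subgroup (Ce a)))
    (hπ : π x = 1) : x = 1 := by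
  obtain ⟨k, hk⟩ := Sa.isPGroup' ⟨x, hx⟩
  have hk' : x ^ 2 ^ k = 1 := congrArg Subtype.val hk
  have h1 : orderOf x ∣ 2 ^ k := orderOf_dvd_of_pow_eq_one hk'
  have h2 : orderOf x ∣ Nat.card π.ker := by
    have : orderOf (⟨x, MonoidHom.mem_ker.2 hπ⟩ : π.ker) ∣ Nat.card π.ker := _root_.orderOf_dvd_natCard _
    rwa [Subgroup.orderOf_mk] at this
  have h3 : orderOf x ∣ Nat.gcd (Nat.card π.ker) (2 ^ k) := Nat.dvd_gcd h2 h1
  have h4 : Nat.gcd (Nat.card π.ker) (2 ^ k) = 1 :=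
    Nat.Coprime.pow_right k (Nat.coprime_two_right.2 h.ker)
  rw [h4, Nat.dvd_one, orderOf_eq_one_iff] at h3
  exact h3

omit [Finite G] in
theorem Cov.inj (h : Cov a X π) {Sa : Sylow 2 (Ce a)}
    {x y : Ce a} (hx : x ∈ (Sa : Subgroup (Ce a)))
    (hy : y ∈ (Sa : Subgroup (Ce a))) (hπ : π x = π y) : x = y := by
  have h1 := h.eq_one (mul_mem hx (inv_mem hy)) (by rw [map_mul, map_inv, hπ, mul_inv_cancel])
  rwa [mul_inv_eq_one] at h1

/-- the image of `A` in `X`. -/
def Abar (A : Subgroup G) (π : Ce a →* X) : Subgroup X :=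
  (A.subgroupOf (Ce a)).map π

omit [Finite G] in
theorem mem_of_conj (hG : GData A) {Sa : Sylow 2 (Ce a)}
    (hAS : A ≤ (Sa : Subgroup (Ce a)).map
      (Ce a).subtype) {x : G} (hx : x ∈ A) {g : G}
    (hg : g * x * g⁻¹ ∈ (Sa : Subgroup (Ce a)).map
      (Ce a).subtype) : g * x * g⁻¹ ∈ A :=
  hG.sc _ (Sa.isPGroup'.map _) hAS x hx g hg

/-- The image of `A` in `X` is strongly closed. -/
theorem Cov.sc (h : Cov a X π) (hG : GData A) {Sa : Sylow 2 (Ce a)}
    (hAS : A ≤ (Sa : Subgroup (Ce a)).map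
      (Ce a).subtype) : SC (Sa.mapSurjective h.surj) (Abar A π) := by
  have : Fact (Nat.Prime 2) := ⟨Nat.prime_two⟩
  refine ⟨⟨?_, ?_⟩, ?_, ?_⟩
  · rintro _ ⟨x, hx, rfl⟩
    obtain ⟨s, hs, hsx⟩ := hAS (mem_subgroupOf.1 hx)
    have : s = x := Subtype.ext hsx
    rw [Sylow.coe_mapSurjective]
    exact ⟨x, this ▸ hs, rfl⟩
  · rintro _ ⟨x, hx, rfl⟩ g hg
    obtain ⟨g', rfl⟩ := h.surj g
    rw [Sylow.coe_mapSurjective] at hg
    obtain ⟨s, hs, hsx⟩ := hg
    have hx2 : ∃ k : ℕ, (g' * x * g'⁻¹) ^ 2 ^ k = 1 := by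
      refine ⟨1, ?_⟩
      have h1 : x * x = 1 := Subtype.ext (hG.sq x hx)
      calc (g' * x * g'⁻¹) ^ 2 ^ 1 = g' * (x * x) * g'⁻¹ := by
            rw [pow_one, pow_two]; group
        _ = 1 := by rw [h1]; group
    have hmem : g' * x * g'⁻¹ ∈ (Sa : Subgroup (Ce a)) ⊔ π.ker := by
      have h1 : s⁻¹ * (g' * x * g'⁻¹) ∈ π.ker := by
        rw [MonoidHom.mem_ker, map_mul, map_inv, hsx]
        simp only [map_mul, map_inv]
        group
      have h2 := mul_mem (le_sup_left (b := π.ker) hs) (le_sup_right (a :=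
        (Sa : Subgroup (Ce a))) h1)
      rwa [mul_inv_cancel_left] at h2
    obtain ⟨n, hn, hnx⟩ := Cfsg.Agent.TwoFusion.IsolatedCenter.exists_conj_mem Sa π.ker
      (g' * x * g'⁻¹) hx2 hmem
    have h3 : ((n * g' : Ce a) : G) * x * ((n * g' : Ce a) : G)⁻¹
        ∈ A := by
      apply mem_of_conj hG hAS hx
      refine ⟨_, hnx, ?_⟩
      simp only [coe_subtype, Subgroup.coe_mul, Subgroup.coe_inv]
      group
    refine ⟨(n * g') * x * (n * g')⁻¹, h3, ?_⟩
    rw [MonoidHom.mem_ker] at hn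
    simp only [hn, _root_.mul_inv_rev, _root_.map_mul, _root_.one_mul, _root_.map_inv, _root_.inv_one, _root_.mul_one]
  · rintro _ ⟨x, hx, rfl⟩
    rw [← map_mul, ← map_one π]
    congr 1
    exact Subtype.ext (hG.sq x hx)
  · rintro _ ⟨x, hx, rfl⟩ _ ⟨y, hy, rfl⟩
    rw [← map_mul, ← map_mul]
    congr 1
    exact Subtype.ext (hG.comm x hx y hy)

/-- Sylow 2-subgroups of components of `X` centralise `A`. -/
theorem Cov.good (h : Cov a X π) (hG : GData A) {Sa : Sylow 2 (Ce a)}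
    (hAS : A ≤ (Sa : Subgroup (Ce a)).map
      (Ce a).subtype) : Good (Sa.mapSurjective h.surj) (Abar A π) := by
  intro J hJ t ht htS x hx
  have hSC := h.sc hG hAS
  by_cases hAJ : Abar A π ≤ centralizer (J : Set X)
  · exact mem_centralizer_iff.1 (hAJ hx) t ht
  obtain ⟨Z, hZA, hZJ, hZ1, hZ2⟩ := exists_Z h.hyp hSC hJ hAJ
  have hAmem : ∀ y ∈ A, ∃ s ∈ (Sa : Subgroup (Ce a)), (s : G) = y := by
    intro y hy
    obtain ⟨s, hs, hsy⟩ := hAS hy
    exact ⟨s, hs, hsy⟩
  let T : Subgroup G := ((Sa : Subgroup (Ce a)) ⊓ J.comap π).map (Ce a).subtype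
  let Y : Subgroup G := ((Sa : Subgroup (Ce a)) ⊓ A.subgroupOf (Ce a) ⊓ Z.comap π).map (Ce a).subtype
  have hSmap : ∀ s ∈ (Sa : Subgroup (Ce a)), π s ∈ (Sa.mapSurjective h.surj : Subgroup X) := by
    intro s hs
    rw [Sylow.coe_mapSurjective]
    exact ⟨s, hs, rfl⟩
  have hSlift : ∀ y ∈ (Sa.mapSurjective h.surj : Subgroup X), ∃ s ∈ (Sa : Subgroup (Ce a)), π s = y := by
    intro y hy
    rw [Sylow.coe_mapSurjective] at hy
    exact hy
  have hTA : ∀ s ∈ (Sa : Subgroup (Ce a)), ∀ y : Ce a, (y : G) ∈ A → ((s * y * s⁻¹ : Ce a) : G) ∈ A := by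
    intro s hs y hy
    obtain ⟨y', hy', hyy'⟩ := hAmem _ hy
    have : y' = y := Subtype.ext hyy'
    subst this
    have h1 := mem_of_conj hG hAS hy (g := (s : G)) ⟨s * y' * s⁻¹, mul_mem (mul_mem hs hy')
      (inv_mem hs), rfl⟩
    exact h1
  have hAmem' : ∀ y : Ce a, (y : G) ∈ A → y ∈ (Sa : Subgroup (Ce a)) := by
    intro y hy
    obtain ⟨y', hy', hyy'⟩ := hAmem _ hy
    have : y' = y := Subtype.ext hyy'
    exact this ▸ hy'
  have hAC := le_centralizer hG (a := a)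
  have key := Chain.le_centralizer hG.three hG.sq hG.comm hG.ne hG.irr (T := T) (Z := Y) ?_ ?_ ?_ ?_ ?_
  · obtain ⟨s, hs, hst⟩ := hSlift t htS
    obtain ⟨y, hy, rfl⟩ := hx
    have h1 : (s : G) ∈ T := ⟨s, ⟨hs, by rw [← hst] at ht; exact ht⟩, rfl⟩
    have h2 := mem_centralizer_iff.1 (key h1) y hy
    rw [← hst, ← map_mul, ← map_mul]
    congr 1
    exact Subtype.ext h2.symm
  · rintro _ ⟨s, ⟨hs, hsJ⟩, rfl⟩
    apply mem_normalizer_of_forall
    intro y hy
    obtain ⟨y', hy', rfl⟩ := hAmem y hy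
    exact hTA s hs y' hy
  · rintro _ ⟨s, ⟨⟨hs, hsA⟩, hsZ⟩, rfl⟩
    exact hsA
  · rintro _ ⟨z, ⟨⟨hz, hzA⟩, hzZ⟩, rfl⟩ _ ⟨s, ⟨hs, hsJ⟩, rfl⟩
    have h1 : s * z = z * s := by
      apply h.inj (mul_mem hs hz) (mul_mem hz hs)
      rw [map_mul, map_mul]
      exact hZJ _ hzZ _ hsJ
    exact congrArg Subtype.val h1
  · rintro y hy _ ⟨s, ⟨hs, hsJ⟩, rfl⟩
    obtain ⟨y', hy', rfl⟩ := hAmem y hy
    have hm1 : s * y' * s⁻¹ * y'⁻¹ ∈ (Sa : Subgroup (Ce a)) :=
      mul_mem (mul_mem (mul_mem hs hy') (inv_mem hs)) (inv_mem hy')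
    have hm2 : s * y' * s⁻¹ * y'⁻¹ ∈ A.subgroupOf (Ce a) := by
      have h0 : ((s * y' * s⁻¹ * y'⁻¹ : Ce a) : G) ∈ A := mul_mem (hTA s hs y' hy) (inv_mem hy)
      exact h0
    refine ⟨s * y' * s⁻¹ * y'⁻¹, ⟨⟨hm1, hm2⟩, ?_⟩, rfl⟩
    · have h1 := hZ1 (π y') ⟨y', hy, rfl⟩ (π s) hsJ (hSmap s hs)
      simpa using h1
  · rintro y hy ⟨_, ⟨s, ⟨hs, hsJ⟩, rfl⟩, hne⟩ _ ⟨z, ⟨⟨hz, hzA⟩, hzZ⟩, rfl⟩
    obtain ⟨y', hy', rfl⟩ := hAmem y hy
    obtain ⟨t₁, ht₁, ht₁S, h1⟩ := hZ2 (π y') ⟨y', hy, rfl⟩ ⟨π s, hsJ, hSmap s hs, by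
      intro hh
      apply hne
      have : s * y' = y' * s := by
        apply h.inj (mul_mem hs hy') (mul_mem hy' hs)
        rw [map_mul, map_mul, hh]
      exact congrArg Subtype.val this⟩ (π z) hzZ
    obtain ⟨s₁, hs₁, rfl⟩ := hSlift t₁ ht₁S
    refine ⟨s₁, ⟨s₁, ⟨hs₁, ht₁⟩, rfl⟩, ?_⟩
    have h2 : s₁ * y' * s₁⁻¹ = z * y' := by
      apply h.inj (mul_mem (mul_mem hs₁ hy') (inv_mem hs₁)) (mul_mem hz hy')
      rw [map_mul, map_mul, map_mul, map_inv]
      exact h1
    exact congrArg Subtype.val h2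

end Cfsg.Agent.ThreePrime.Cov
end

-- part: ThreePrime/CovP
section
/-!
# A Sylow 2-subgroup of `C_G(A)` and the factorisations induced by components
-/

set_option autoImplicit false
set_option linter.dupNamespace false

namespace Cfsg.Agent.ThreePrime.CovP

open Subgroup
open scoped commutatorElement
open Cfsg
open Cfsg.Agent.ThreePrime.Chain
open Cfsg.Agent.ThreePrime.Factor
open Cfsg.Agent.ThreePrime.GData
open Cfsg.Agent.ThreePrime.Comp
open Cfsg.Agent.ThreePrime.AComp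
open Cfsg.Agent.ThreePrime.ACFacts
open Cfsg.Agent.ThreePrime.Cov

universe u

variable {G : Type u} [Group G] [Finite G] {A : Subgroup G}

/-- `P` is a Sylow 2-subgroup of `C_G(A)`. -/
structure SylC (A P : Subgroup G) : Prop where
  two : IsPGroup 2 P
  le : P ≤ centralizer (A : Set G)
  A_le : A ≤ P
  max : ∀ Q : Subgroup G, IsPGroup 2 Q → P ≤ Q → Q ≤ centralizer (A : Set G) → Q = P
  frat : ∀ n ∈ normalizer (A : Set G), ∃ c ∈ centralizer (A : Set G), c * n ∈ normalizer (P : Set G)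

theorem exists_sylC (hG : GData A) : ∃ P : Subgroup G, SylC A P := by
  obtain ⟨P₀⟩ : Nonempty (Sylow 2 (centralizer (A : Set G))) := inferInstance
  have hAC : A ≤ centralizer (A : Set G) := by
    intro x hx
    rw [mem_centralizer_iff]
    intro y hy
    exact hG.comm y hy x hx
  set P : Subgroup G := (P₀ : Subgroup (centralizer (A : Set G))).map
    (centralizer (A : Set G)).subtype with hP
  have h2 : IsPGroup 2 P := P₀.isPGroup'.map _
  have hle : P ≤ centralizer (A : Set G) := map_subtype_le _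
  have hAn : (A.subgroupOf (centralizer (A : Set G))).Normal := by
    refine ⟨?_⟩
    intro x hx g
    have h1 : g * x * g⁻¹ = x := by
      apply Subtype.ext
      have h2 := mem_centralizer_iff.1 g.2 x hx
      change (g : G) * x * (g : G)⁻¹ = x
      rw [← h2]
      group
    rw [h1]
    exact hx
  have hA2 : IsPGroup 2 (A.subgroupOf (centralizer (A : Set G))) :=
    (isPGroup_of_sq hG.sq).comap_of_injective _ (subtype_injective _)
  have hAP : A ≤ P := by
    intro x hx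
    have h1 : (⟨x, hAC hx⟩ : centralizer (A : Set G)) ∈ (P₀ : Subgroup _) :=
      Cfsg.Agent.Lib.Cores.pCore_le_sylow P₀ (Cfsg.Agent.Lib.Cores.le_pCore hAn hA2 hx)
    exact ⟨_, h1, rfl⟩
  have hmax : ∀ Q : Subgroup G, IsPGroup 2 Q → P ≤ Q → Q ≤ centralizer (A : Set G) → Q = P := by
    intro Q hQ hPQ hQC
    apply le_antisymm _ hPQ
    have h1 : IsPGroup 2 (Q.subgroupOf (centralizer (A : Set G))) :=
      hQ.comap_of_injective _ (subtype_injective _)
    have h3 := P₀.is_maximal' h1 (by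
      intro x hx
      exact hPQ ⟨x, hx, rfl⟩)
    intro x hx
    have h4 : (⟨x, hQC hx⟩ : centralizer (A : Set G)) ∈ Q.subgroupOf (centralizer (A : Set G)) := hx
    rw [h3] at h4
    exact ⟨_, h4, rfl⟩
  refine ⟨P, h2, hle, hAP, hmax, ?_⟩
  intro n hn
  -- the conjugate Sylow subgroup
  set P' : Subgroup G := P.map (MulAut.conj n).toMonoidHom with hP'
  have hP'C : P' ≤ centralizer (A : Set G) := by
    rintro _ ⟨x, hx, rfl⟩
    rw [mem_centralizer_iff]
    intro y hy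
    have h1 : n⁻¹ * y * n ∈ A := by
      have := (mem_normalizer_iff.1 (inv_mem hn) y).1 hy
      simpa using this
    have h3 := mem_centralizer_iff.1 (hle hx) _ h1
    change y * (n * x * n⁻¹) = n * x * n⁻¹ * y
    calc y * (n * x * n⁻¹) = n * ((n⁻¹ * y * n) * x) * n⁻¹ := by group
      _ = n * (x * (n⁻¹ * y * n)) * n⁻¹ := by rw [h3]
      _ = n * x * n⁻¹ * y := by group
  have hP'2 : IsPGroup 2 (P'.subgroupOf (centralizer (A : Set G))) :=
    (h2.map _).comap_of_injective _ (subtype_injective _)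
  obtain ⟨Q, hQ⟩ := hP'2.exists_le_sylow
  obtain ⟨c, hc⟩ := MulAction.exists_smul_eq (centralizer (A : Set G)) Q P₀
  refine ⟨c, c.2, ?_⟩
  apply mem_normalizer_of_forall
  intro x hx
  have h3 : n * x * n⁻¹ ∈ P' := ⟨x, hx, rfl⟩
  have h4 : (⟨n * x * n⁻¹, hP'C h3⟩ : centralizer (A : Set G)) ∈ (Q : Subgroup _) := hQ h3
  have h5 : c * ⟨n * x * n⁻¹, hP'C h3⟩ * c⁻¹ ∈ (P₀ : Subgroup (centralizer (A : Set G))) := by
    rw [← hc]
    have h6 : c * ⟨n * x * n⁻¹, hP'C h3⟩ * c⁻¹ ∈ (c • Q : Sylow 2 (centralizer (A : Set G))) := by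
      rw [← SetLike.mem_coe, Sylow.coe_smul]
      exact ⟨_, h4, rfl⟩
    exact h6
  refine ⟨_, h5, ?_⟩
  simp only [coe_subtype, Subgroup.coe_mul, Subgroup.coe_inv]
  group

variable {a : G} {X : Type u} [Group X] [Finite X] {π : centralizer ({a} : Set G) →* X}
  {P : Subgroup G}

omit [Finite G] in
theorem SylC.le_Ce (hP : SylC A P) (ha : a ∈ A) : P ≤ Ce a := by
  intro x hx
  rw [mem_centralizer_singleton_iff]
  exact (mem_centralizer_iff.1 (hP.le hx) a ha).symm

omit [Finite G] in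
theorem SylC.exists_sylow (hP : SylC A P) (ha : a ∈ A) :
    ∃ Sa : Sylow 2 (Ce a), P ≤ (Sa : Subgroup (Ce a)).map (Ce a).subtype := by
  have h1 : IsPGroup 2 (P.subgroupOf (Ce a)) := hP.two.comap_of_injective _ (subtype_injective _)
  obtain ⟨Sa, hSa⟩ := h1.exists_le_sylow
  refine ⟨Sa, ?_⟩
  intro x hx
  exact ⟨⟨x, hP.le_Ce ha hx⟩, hSa hx, rfl⟩

omit [Finite G] in
theorem SylC.inf_eq (hP : SylC A P) {Sa : Sylow 2 (Ce a)}
    (hSa : P ≤ (Sa : Subgroup (Ce a)).map (Ce a).subtype) :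
    (Sa : Subgroup (Ce a)).map (Ce a).subtype ⊓ centralizer (A : Set G) = P := by
  apply hP.max _ ((Sa.isPGroup'.map _).to_le inf_le_left) (le_inf hSa hP.le) inf_le_right

/-- `{x ∈ P | π x ∈ J}` -/
def TJ (P : Subgroup G) (π : centralizer ({a} : Set G) →* X) (J : Subgroup X) : Subgroup G :=
  (P.subgroupOf (Ce a) ⊓ J.comap π).map (Ce a).subtype

omit [Finite G] [Finite X] in
theorem mem_TJ {J : Subgroup X} {x : Ce a} : (x : G) ∈ TJ P π J ↔ (x : G) ∈ P ∧ π x ∈ J := by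
  constructor
  · rintro ⟨y, ⟨hy1, hy2⟩, hyx⟩
    have : y = x := Subtype.ext hyx
    exact this ▸ ⟨hy1, hy2⟩
  · rintro ⟨h1, h2⟩
    exact ⟨x, ⟨h1, h2⟩, rfl⟩

/-- The image of `P` in `X` is `C_S(A)`. -/
theorem map_P (h : Cov a X π) (hP : SylC A P) {Sa : Sylow 2 (Ce a)}
    (hSa : P ≤ (Sa : Subgroup (Ce a)).map (Ce a).subtype) :
    (P.subgroupOf (Ce a)).map π =
      (Sa.mapSurjective h.surj : Subgroup X) ⊓ centralizer (Abar A π : Set X) := by
  have : Fact (Nat.Prime 2) := ⟨Nat.prime_two⟩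
  have hmemS : ∀ x : Ce a, (x : G) ∈ P → x ∈ (Sa : Subgroup (Ce a)) := by
    intro x hx
    obtain ⟨s, hs, hsx⟩ := hSa hx
    have : s = x := Subtype.ext hsx
    exact this ▸ hs
  apply le_antisymm
  · rintro _ ⟨x, hx, rfl⟩
    refine ⟨?_, mem_centralizer_iff.2 ?_⟩
    · rw [Sylow.coe_mapSurjective]
      exact ⟨x, hmemS x hx, rfl⟩
    · rintro _ ⟨y, hy, rfl⟩
      rw [← map_mul, ← map_mul]
      congr 1
      exact Subtype.ext (mem_centralizer_iff.1 (hP.le hx) y hy)
  · rintro y ⟨hyS, hyA⟩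
    rw [SetLike.mem_coe] at hyA
    rw [Sylow.coe_mapSurjective] at hyS
    obtain ⟨s, hs, rfl⟩ := hyS
    refine ⟨s, ?_, rfl⟩
    have h1 : (s : G) ∈ (Sa : Subgroup (Ce a)).map (Ce a).subtype ⊓ centralizer (A : Set G) := by
      refine ⟨⟨s, hs, rfl⟩, mem_centralizer_iff.2 ?_⟩
      intro x hx
      obtain ⟨x', hx', rfl⟩ := hSa (hP.A_le hx)
      have h2 : x' * s = s * x' := by
        apply h.inj (mul_mem hx' hs) (mul_mem hs hx')
        rw [map_mul, map_mul]
        exact mem_centralizer_iff.1 hyA (π x') ⟨x', hx, rfl⟩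
      exact congrArg Subtype.val h2
    rw [hP.inf_eq hSa] at h1
    exact h1

/-- The factorisation of `P` induced by a component. -/
theorem fac_G (h : Cov a X π) (hG : GData A) (hP : SylC A P) (ha : a ∈ A) {J : Subgroup X}
    (hJ : IsComponent J) (hAJ : ¬ Abar A π ≤ centralizer (J : Set X)) :
    Fac P (TJ P π J) (TJ P π (centralizer (J : Set X))) ∧
      ⁅TJ P π J, TJ P π J⁆ = A ⊓ TJ P π J ∧ 8 ≤ Nat.card (A ⊓ TJ P π J : Subgroup G) := by
  have : Fact (Nat.Prime 2) := ⟨Nat.prime_two⟩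
  obtain ⟨Sa, hSa⟩ := hP.exists_sylow ha
  have hAS := hP.A_le.trans hSa
  have hSC := h.sc hG hAS
  have hgood := h.good hG hAS
  have hac := ac h.hyp hSC hgood hJ hAJ
  have hfac := hac.fac hgood
  have hmemS : ∀ x : Ce a, (x : G) ∈ P → x ∈ (Sa : Subgroup (Ce a)) := by
    intro x hx
    obtain ⟨s, hs, hsx⟩ := hSa hx
    have : s = x := Subtype.ext hsx
    exact this ▸ hs
  have hmap := map_P h hP hSa
  have hfac' := Fac.pull π (P' := P.subgroupOf (Ce a)) (fun x hx hx1 => h.eq_one (hmemS x hx) hx1)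
    hfac hmap
  have e1 : P.subgroupOf (Ce a) ⊓ ((Sa.mapSurjective h.surj : Subgroup X) ⊓ J).comap π =
      P.subgroupOf (Ce a) ⊓ J.comap π := by
    apply le_antisymm
    · rintro x ⟨hx1, hx2⟩
      exact ⟨hx1, hx2.2⟩
    · rintro x ⟨hx1, hx2⟩
      have h1 : π x ∈ (P.subgroupOf (Ce a)).map π := ⟨x, hx1, rfl⟩
      rw [hmap] at h1
      exact ⟨hx1, ⟨h1.1, hx2⟩⟩
  have e2 : P.subgroupOf (Ce a) ⊓ ((Sa.mapSurjective h.surj : Subgroup X) ⊓
      centralizer (Abar A π : Set X) ⊓ centralizer (J : Set X)).comap π =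
      P.subgroupOf (Ce a) ⊓ (centralizer (J : Set X)).comap π := by
    apply le_antisymm
    · rintro x ⟨hx1, hx2⟩
      exact ⟨hx1, hx2.2⟩
    · rintro x ⟨hx1, hx2⟩
      have h1 : π x ∈ (P.subgroupOf (Ce a)).map π := ⟨x, hx1, rfl⟩
      rw [hmap] at h1
      exact ⟨hx1, ⟨h1, hx2⟩⟩
  rw [e1, e2] at hfac'
  have hfac'' := Fac.push (Ce a).subtype (subtype_injective _) hfac'
  have e3 : (P.subgroupOf (Ce a)).map (Ce a).subtype = P := by
    rw [subgroupOf_map_subtype]
    exact inf_of_le_left (hP.le_Ce ha)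
  rw [e3] at hfac''
  refine ⟨hfac'', ?_⟩
  -- the commutator subgroup
  have e4 : (P.subgroupOf (Ce a) ⊓ J.comap π).map π = (Sa.mapSurjective h.surj : Subgroup X) ⊓ J := by
    apply le_antisymm
    · rintro _ ⟨x, ⟨hx1, hx2⟩, rfl⟩
      have h1 : π x ∈ (P.subgroupOf (Ce a)).map π := ⟨x, hx1, rfl⟩
      rw [hmap] at h1
      exact ⟨h1.1, hx2⟩
    · rintro y ⟨hyS, hyJ⟩
      have h1 : y ∈ (P.subgroupOf (Ce a)).map π := by
        rw [hmap]
        refine ⟨hyS, mem_centralizer_iff.2 ?_⟩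
        intro x hx
        exact (hgood J hJ y hyJ hyS x hx).symm
      obtain ⟨x, hx, rfl⟩ := h1
      exact ⟨x, ⟨hx, hyJ⟩, rfl⟩
  have hTS : P.subgroupOf (Ce a) ⊓ J.comap π ≤ (Sa : Subgroup (Ce a)) := fun x hx => hmemS x hx.1
  have e5 : ⁅P.subgroupOf (Ce a) ⊓ J.comap π, P.subgroupOf (Ce a) ⊓ J.comap π⁆ =
      A.subgroupOf (Ce a) ⊓ J.comap π := by
    have h1 : ⁅P.subgroupOf (Ce a) ⊓ J.comap π, P.subgroupOf (Ce a) ⊓ J.comap π⁆.map π =
        Abar A π ⊓ J := by
      rw [map_commutator, e4, hac.comm_eq]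
    apply le_antisymm
    · intro x hx
      have h2 : π x ∈ Abar A π ⊓ J := by
        rw [← h1]
        exact ⟨x, hx, rfl⟩
      obtain ⟨⟨y, hy, hyx⟩, hxJ⟩ := h2
      have h3 : y = x := h.inj (hmemS y (hP.A_le hy)) (hTS (commutator_le_self _ hx)) hyx
      subst h3
      exact ⟨hy, hxJ⟩
    · rintro x ⟨hxA, hxJ⟩
      have h2 : π x ∈ Abar A π ⊓ J := ⟨⟨x, hxA, rfl⟩, hxJ⟩
      rw [← h1] at h2
      obtain ⟨y, hy, hyx⟩ := h2
      have h3 : y = x := h.inj (hTS (commutator_le_self _ hy)) (hmemS x (hP.A_le hxA)) hyx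
      exact h3 ▸ hy
  have e6 : A ⊓ TJ P π J = (A.subgroupOf (Ce a) ⊓ J.comap π).map (Ce a).subtype := by
    apply le_antisymm
    · rintro x ⟨hxA, ⟨y, ⟨hy1, hy2⟩, rfl⟩⟩
      exact ⟨y, ⟨hxA, hy2⟩, rfl⟩
    · rintro _ ⟨y, ⟨hy1, hy2⟩, rfl⟩
      exact ⟨hy1, ⟨y, ⟨hP.A_le hy1, hy2⟩, rfl⟩⟩
  constructor
  · rw [e6, ← e5, TJ, map_commutator]
  · have h1 : (A.subgroupOf (Ce a) ⊓ J.comap π).map π = Abar A π ⊓ J := by
      apply le_antisymm
      · rintro _ ⟨x, ⟨hx1, hx2⟩, rfl⟩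
        exact ⟨⟨x, hx1, rfl⟩, hx2⟩
      · rintro _ ⟨⟨x, hx, rfl⟩, hxJ⟩
        exact ⟨x, ⟨hx, hxJ⟩, rfl⟩
    have h2 := hac.card
    rw [← h1] at h2
    rw [e6, card_map_of_injective (subtype_injective _)]
    exact h2.trans (Nat.card_le_card_of_surjective
      (fun x : (A.subgroupOf (Ce a) ⊓ J.comap π : Subgroup (Ce a)) =>
        (⟨π x, ⟨x, x.2, rfl⟩⟩ : (A.subgroupOf (Ce a) ⊓ J.comap π).map π)) (by
        rintro ⟨_, x, hx, rfl⟩
        exact ⟨⟨x, hx⟩, rfl⟩))

/-- `|C_A(J)| ≥ 8` -/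
theorem card_cent (h : Cov a X π) (hG : GData A) (hP : SylC A P) (ha : a ∈ A) (ha1 : a ≠ 1)
    {J : Subgroup X} (hJ : IsComponent J) (hAJ : ¬ Abar A π ≤ centralizer (J : Set X)) :
    8 ≤ Nat.card (A ⊓ TJ P π (centralizer (J : Set X)) : Subgroup G) := by
  obtain ⟨h1, h2, h3⟩ := fac_G h hG hP ha hJ hAJ
  have haC : a ∈ Ce a := mem_centralizer_singleton_iff.2 rfl
  have haR : a ∈ TJ P π (centralizer (J : Set X)) := by
    refine ⟨⟨a, haC⟩, ⟨hP.A_le ha, mem_centralizer_iff.2 ?_⟩, rfl⟩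
    intro k hk
    obtain ⟨k', rfl⟩ := h.surj k
    rw [← map_mul, ← map_mul]
    congr 1
    exact Subtype.ext (mem_centralizer_singleton_iff.1 k'.2)
  obtain ⟨n, hn, hnle⟩ := exists_conj_le h1 hG.irr (h2.le.trans inf_le_left) hP.frat ha haR ha1
  calc 8 ≤ Nat.card (A ⊓ TJ P π J : Subgroup G) := h3
    _ = Nat.card (⁅TJ P π J, TJ P π J⁆ : Subgroup G) := by rw [h2]
    _ = Nat.card (⁅TJ P π J, TJ P π J⁆.map (MulAut.conj n).toMonoidHom : Subgroup G) := by
        rw [card_map_of_injective (MulAut.conj n).injective]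
    _ ≤ _ := card_le_of_le hnle

end Cfsg.Agent.ThreePrime.CovP
end

-- part: ThreePrime/Balance
section
/-!
# Balance: odd order subgroups invariant under `C(a)`, `a` in `A`
-/

set_option autoImplicit false

namespace Cfsg.Agent.ThreePrime.Balance

open Subgroup
open Cfsg
open Cfsg.Agent.Lib.Cores
open Cfsg.Agent.ThreePrime.Comp
open Cfsg.Agent.ThreePrime.AComp
open Cfsg.Agent.ThreePrime.ACFacts
open Cfsg.Agent.ThreePrime.Pump
open Cfsg.Agent.SignalizersComponents.CompBasic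
open Cfsg.Agent.SignalizersComponents.Components

universe u

variable {X : Type u} [Group X] [Finite X] {S : Sylow 2 X} {A : Subgroup X}

/-- a component of `X` has no odd overgroup. -/
theorem not_le_odd (S : Sylow 2 X) (h : Hyp X) {K Y : Subgroup X} (hK : IsComponent K)
    (hY : Odd (Nat.card Y)) : ¬ K ≤ Y := by
  intro hle
  obtain ⟨y, hyK, hyS, k, -, hk⟩ := exists_sq_not_central (S := S) h hK
  obtain ⟨n, hn⟩ := S.isPGroup' ⟨y, hyS⟩
  have hn' : y ^ 2 ^ n = 1 := congrArg Subtype.val hn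
  have h1 : orderOf y ∣ 2 ^ n := orderOf_dvd_of_pow_eq_one hn'
  have h2 : orderOf y ∣ Nat.card Y := by
    have := _root_.orderOf_dvd_natCard (⟨y, hle hyK⟩ : Y)
    rwa [Subgroup.orderOf_mk] at this
  have h3 : Nat.Coprime (Nat.card Y) (2 ^ n) :=
    Nat.Coprime.pow_right _ (Nat.coprime_two_right.2 hY)
  have h4 : y = 1 := orderOf_eq_one_iff.mp (Nat.eq_one_of_dvd_coprimes h3 h2 h1)
  apply hk
  rw [h4]
  group

theorem balance (h : Hyp X) (hA : SC S A) (hT : Good S A) {a : X} (ha : a ∈ A) {Y : Subgroup X}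
    (hodd : Odd (Nat.card Y)) (hYa : ∀ y ∈ Y, a * y = y * a)
    (hn : ∀ c : X, c * a = a * c → ∀ y ∈ Y, c * y * c⁻¹ ∈ Y) : Y = ⊥ := by
  have hodd' : ∀ y ∈ Y, Odd (orderOf y) := by
    intro y hy
    have := _root_.orderOf_dvd_natCard (⟨y, hy⟩ : Y)
    rw [Subgroup.orderOf_mk] at this
    exact Odd.of_dvd_nat hodd this
  rw [eq_bot_iff]
  intro y hy
  rw [mem_bot]
  refine pump h hA hT ha (hodd' y hy) (hYa y hy).symm ?_ ?_
  · rintro _ ⟨q, hq, rfl⟩
    have hqa : (q : X) * a = a * q := mem_centralizer_singleton_iff.1 q.2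
    have h1 : y * q * y⁻¹ * (q : X)⁻¹ ∈ Y := by
      have h2 := hn q hqa y⁻¹ (inv_mem hy)
      have h3 : y * q * y⁻¹ * (q : X)⁻¹ = y * ((q : X) * y⁻¹ * (q : X)⁻¹) := by group
      rw [h3]
      exact mul_mem hy h2
    set y' : centralizer ({a} : Set X) := ⟨y, mem_centralizer_singleton_iff.2 (hYa y hy).symm⟩
    have h4 : y' * q * y'⁻¹ * q⁻¹ ∈ pCore 2 (centralizer ({a} : Set X)) :=
      mul_mem ((Cfsg.Agent.Lib.Cores.pCore_normal 2).conj_mem q hq y') (inv_mem hq)
    obtain ⟨n, hn⟩ := pCore_isPGroup (G := centralizer ({a} : Set X)) 2 ⟨_, h4⟩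
    have hn' : (y * q * y⁻¹ * (q : X)⁻¹) ^ 2 ^ n = 1 :=
      congrArg (fun z => ((z : centralizer ({a} : Set X)) : X)) (congrArg Subtype.val hn)
    have h5 : orderOf (y * q * y⁻¹ * (q : X)⁻¹) ∣ 2 ^ n := orderOf_dvd_of_pow_eq_one hn'
    have h6 : y * q * y⁻¹ * (q : X)⁻¹ = 1 :=
      orderOf_eq_one_iff.mp (Nat.eq_one_of_dvd_coprimes
        (Nat.Coprime.pow_right n (Nat.coprime_two_right.2 (hodd' _ h1))) dvd_rfl h5)
    calc y * (q : X) = (y * q * y⁻¹ * (q : X)⁻¹) * (q * y) := by group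
      _ = q * y := by rw [h6, one_mul]
  · intro K hK haK
    have h1 : K ≤ normalizer (Y : Set X) := by
      intro k hk
      have hka : k * a = a * k := mem_centralizer_iff.1 haK k hk
      have hka' : k⁻¹ * a = a * k⁻¹ := mem_centralizer_iff.1 haK k⁻¹ (inv_mem hk)
      rw [mem_normalizer_iff]
      intro z
      constructor
      · intro hz
        exact hn k hka z hz
      · intro hz
        have h2 := hn k⁻¹ hka' _ hz
        have h3 : k⁻¹ * (k * z * k⁻¹) * k⁻¹⁻¹ = z := by group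
        rwa [h3] at h2
    rcases component_le_or_commutator_eq_bot_of_le_normalizer hK h1 with h2 | h2
    · exact absurd h2 (not_le_odd S h hK hodd)
    · rw [commutator_comm, commutator_eq_bot_iff_le_centralizer] at h2
      exact h2 hy

end Cfsg.Agent.ThreePrime.Balance
end

-- part: ThreePrime/LBal
section
/-!
# `L`-balance: components of `C(u)`, `u` in `A`, are components
-/

set_option autoImplicit false

namespace Cfsg.Agent.ThreePrime.LBal

open Subgroup
open Cfsg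
open Cfsg.Agent.Lib.Cores
open Cfsg.Agent.ThreePrime.Comp
open Cfsg.Agent.ThreePrime.AComp
open Cfsg.Agent.ThreePrime.ACFacts
open Cfsg.Agent.ThreePrime.Pump
open Cfsg.Agent.SignalizersComponents.CompBasic
open Cfsg.Agent.SignalizersComponents.Components

universe u

variable {X : Type u} [Group X]

/-- a finite group all of whose odd order elements are trivial is a 2-group. -/
theorem isPGroup_two_of_odd {G : Type*} [Group G] [Finite G]
    (h : ∀ y : G, Odd (orderOf y) → y = 1) : IsPGroup 2 G := by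
  intro y
  obtain ⟨k, m, hm, hkm⟩ := Nat.exists_eq_two_pow_mul_odd (orderOf_pos y).ne'
  refine ⟨k, ?_⟩
  apply h
  rw [orderOf_pow' _ (by positivity), hkm, Nat.gcd_eq_right (Dvd.intro _ rfl),
    Nat.mul_div_cancel_left _ (by positivity)]
  exact hm

variable [Finite X] {S : Sylow 2 X} {A : Subgroup X}

theorem lbalance (h : Hyp X) (hA : SC S A) (hT : Good S A) {u : X} (hu : u ∈ A) {J : Subgroup X}
    (hJu : J ≤ centralizer ({u} : Set X))
    (hJ : IsComponent (J.subgroupOf (centralizer ({u} : Set X)))) : IsComponent J := by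
  by_contra hcon
  have hodd : ∀ y : J, Odd (orderOf y) → y = 1 := by
    intro y hy
    have hyC := hJu y.2
    apply Subtype.ext
    refine pump h hA hT hu (by rwa [Subgroup.orderOf_coe]) (mem_centralizer_singleton_iff.1 hyC) ?_ ?_
    · rintro _ ⟨q, hq, rfl⟩
      have h1 : (⟨y, hyC⟩ : centralizer ({u} : Set X)) ∈ layer (centralizer ({u} : Set X)) :=
        component_le_layer hJ (mem_subgroupOf.2 y.2)
      have h2 := mem_centralizer_iff.1 (layer_le_centralizer_fitting h1) q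
        (pCore_le_fittingSubgroup 2 hq)
      exact (congrArg Subtype.val h2).symm
    · intro K hK huK
      have hKC : K ≤ centralizer ({u} : Set X) := by
        intro k hk
        exact mem_centralizer_singleton_iff.2 (mem_centralizer_iff.1 huK k hk)
      have hK' := isComponent_subgroupOf hKC hK
      have hne : J.subgroupOf (centralizer ({u} : Set X)) ≠
          K.subgroupOf (centralizer ({u} : Set X)) := by
        intro he
        apply hcon
        have h1 : J = K := by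
          have := congrArg (Subgroup.map (centralizer ({u} : Set X)).subtype) he
          rwa [subgroupOf_map_subtype, subgroupOf_map_subtype, inf_of_le_left hJu,
            inf_of_le_left hKC] at this
        rw [h1]
        exact hK
      have h1 := component_commutator_eq_bot_of_ne hJ hK' hne
      rw [commutator_eq_bot_iff_le_centralizer] at h1
      rw [mem_centralizer_iff]
      intro k hk
      have h2 := mem_centralizer_iff.1 (h1 (show (⟨y, hyC⟩ : centralizer ({u} : Set X)) ∈ _ from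
        mem_subgroupOf.2 y.2)) ⟨k, hKC hk⟩ (mem_subgroupOf.2 hk)
      exact congrArg Subtype.val h2
  have h2 : IsPGroup 2 J := isPGroup_two_of_odd hodd
  have h3 : IsPGroup 2 (J.subgroupOf (centralizer ({u} : Set X))) :=
    h2.of_equiv (subgroupOfEquivOfLe hJu).symm
  have : Group.IsNilpotent (J.subgroupOf (centralizer ({u} : Set X))) := h3.isNilpotent
  exact quasisimple_not_isSolvable hJ.2 inferInstance

end Cfsg.Agent.ThreePrime.LBal
end

-- part: ThreePrime/Generation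
section
/-!
# Generation: `X = ⟨components not centralised by A⟩ N(A)`
-/

set_option autoImplicit false

namespace Cfsg.Agent.ThreePrime.Generation

open Subgroup
open Cfsg
open Cfsg.Agent.Lib.Cores
open Cfsg.Agent.Lib.ThompsonPQ
open Cfsg.Agent.ThreePrime.Comp
open Cfsg.Agent.ThreePrime.AComp
open Cfsg.Agent.ThreePrime.ACFacts
open Cfsg.Agent.ThreePrime.Pump
open Cfsg.Agent.ThreePrime.LBal
open Cfsg.Agent.SignalizersComponents.CompBasic
open Cfsg.Agent.SignalizersComponents.Components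

universe u

variable {X : Type u} [Group X]

/-- The product of the components not centralised by `A`. -/
def KA (A : Subgroup X) : Subgroup X :=
  ⨆ J : {J : Subgroup X // IsComponent J ∧ ¬ A ≤ centralizer (J : Set X)}, (J : Subgroup X)

theorem le_KA {A J : Subgroup X} (hJ : IsComponent J) (hAJ : ¬ A ≤ centralizer (J : Set X)) :
    J ≤ KA A :=
  le_iSup (fun J : {J : Subgroup X // IsComponent J ∧ ¬ A ≤ centralizer (J : Set X)} =>
    (J : Subgroup X)) ⟨J, hJ, hAJ⟩

variable [Finite X] {S : Sylow 2 X} {A : Subgroup X}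

/-- 2-subgroups of a subnormal subgroup `H` are conjugate in `H` into `S`. -/
theorem exists_conj_mem (S : Sylow 2 X) {H : Subgroup X} (hH : H.IsSubnormal) {B : Subgroup X}
    (hB : IsPGroup 2 B) (hBH : B ≤ H) : ∃ l ∈ H, ∀ b ∈ B, l * b * l⁻¹ ∈ (S : Subgroup X) := by
  obtain ⟨P, hP⟩ := Cfsg.Agent.S0542.result 2 H hH S
  have hB' : IsPGroup 2 (B.subgroupOf H) := hB.of_equiv (subgroupOfEquivOfLe hBH).symm
  obtain ⟨Q, hQ⟩ := hB'.exists_le_sylow
  obtain ⟨l, hl⟩ := MulAction.exists_smul_eq H Q P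
  refine ⟨l, l.2, fun b hb => ?_⟩
  have h1 : (⟨b, hBH hb⟩ : H) ∈ (Q : Subgroup H) := hQ (mem_subgroupOf.2 hb)
  have h2 : l * ⟨b, hBH hb⟩ * l⁻¹ ∈ (P : Subgroup H) := by
    rw [← hl, Sylow.smul_def]
    exact ⟨_, h1, rfl⟩
  rw [hP, mem_subgroupOf] at h2
  exact h2

/-- `A`-components are permuted by `X`. -/
theorem not_le_centralizer_conj (h : Hyp X) (hA : SC S A) (hT : Good S A) {J : Subgroup X}
    (hJ : IsComponent J) (hAJ : ¬ A ≤ centralizer (J : Set X)) (g : X) :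
    ¬ A ≤ centralizer ((J.map (MulAut.conj g).toMonoidHom : Subgroup X) : Set X) := by
  intro hcon
  set J' := J.map (MulAut.conj g).toMonoidHom with hJ'
  have hac := ac h hA hT hJ hAJ
  obtain ⟨b, hbA, hbJ, hb1⟩ := hac.ex
  have hJc : IsComponent J' := isComponent_conj g hJ
  have hb' : g * b * g⁻¹ ∈ J' := ⟨b, hbJ, rfl⟩
  have hP : IsPGroup 2 (zpowers (g * b * g⁻¹)) := by
    rintro ⟨_, k, rfl⟩
    refine ⟨1, ?_⟩
    apply Subtype.ext
    show ((g * b * g⁻¹) ^ k) ^ 2 ^ 1 = 1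
    have h1 : (g * b * g⁻¹) ^ 2 = 1 := by
      rw [pow_two]
      have : g * b * g⁻¹ * (g * b * g⁻¹) = g * (b * b) * g⁻¹ := by group
      rw [this, hA.sq b hbA]
      group
    rw [pow_one, ← zpow_natCast, zpow_comm, zpow_natCast, h1, one_zpow]
  obtain ⟨l, hl, hlS⟩ := exists_conj_mem S hJc.1 hP (by rwa [zpowers_le])
  have h1 := hlS _ (mem_zpowers (g * b * g⁻¹))
  have h2 : l * (g * b * g⁻¹) * l⁻¹ = (l * g) * b * (l * g)⁻¹ := by group
  have h3 : l * (g * b * g⁻¹) * l⁻¹ ∈ A := by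
    rw [h2] at h1 ⊢
    exact hA.mem hbA h1
  have h4 : l * (g * b * g⁻¹) * l⁻¹ ∈ J' := mul_mem (mul_mem hl hb') (inv_mem hl)
  have h5 := mem_centralizer_iff.1 (hcon h3)
  -- so `b` is central in `J`
  apply hb1
  apply hac.ctr b hbJ
  intro k hk
  have h6 := h5 (l * (g * k * g⁻¹) * l⁻¹) (mul_mem (mul_mem hl ⟨k, hk, rfl⟩) (inv_mem hl))
  have h7 : (l * g) * (k * b) * (l * g)⁻¹ = (l * g) * (b * k) * (l * g)⁻¹ := by
    calc (l * g) * (k * b) * (l * g)⁻¹
        = (l * (g * k * g⁻¹) * l⁻¹) * (l * (g * b * g⁻¹) * l⁻¹) := by group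
      _ = (l * (g * b * g⁻¹) * l⁻¹) * (l * (g * k * g⁻¹) * l⁻¹) := h6
      _ = (l * g) * (b * k) * (l * g)⁻¹ := by group
  exact mul_left_cancel (mul_right_cancel h7)

theorem KA_normal (h : Hyp X) (hA : SC S A) (hT : Good S A) : (KA A).Normal := by
  refine ⟨fun x hx g => ?_⟩
  have h1 : (KA A).map (MulAut.conj g).toMonoidHom ≤ KA A := by
    rw [KA, Subgroup.map_iSup]
    refine iSup_le ?_
    rintro ⟨J, hJ, hAJ⟩
    exact le_KA (isComponent_conj g hJ) (not_le_centralizer_conj h hA hT hJ hAJ g)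
  exact h1 ⟨x, hx, rfl⟩

/-- elements of `A` modulo `A ∩ 𝒦` centralise all components. -/
theorem exists_mem_KA (h : Hyp X) (hA : SC S A) (hT : Good S A) {a : X} (ha : a ∈ A) :
    ∃ c ∈ A, c ∈ KA A ∧ ∀ K : Subgroup X, IsComponent K → c⁻¹ * a ∈ centralizer (K : Set X) := by
  classical
  have key : ∀ F : Finset (Subgroup X),
      (∀ K ∈ F, IsComponent K ∧ ¬ A ≤ centralizer (K : Set X)) →
      ∃ c ∈ A, c ∈ KA A ∧ ∀ K ∈ F, c⁻¹ * a ∈ centralizer (K : Set X) := by
    intro F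
    induction F using Finset.induction_on with
    | empty => exact fun _ => ⟨1, one_mem _, one_mem _, by simp⟩
    | insert J F hJF ih =>
      intro hF
      obtain ⟨c, hcA, hcK, hc⟩ := ih (fun K hK => hF K (Finset.mem_insert_of_mem hK))
      obtain ⟨hJ, hAJ⟩ := hF J (Finset.mem_insert_self J F)
      obtain ⟨b, hbA, hbJ, hb⟩ := (ac h hA hT hJ hAJ).exists_split (mul_mem (inv_mem hcA) ha)
      refine ⟨c * b, mul_mem hcA hbA, mul_mem hcK (le_KA hJ hAJ hbJ), ?_⟩
      have he : (c * b)⁻¹ * a = b⁻¹ * (c⁻¹ * a) := by group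
      intro K hK
      rw [he]
      rcases Finset.mem_insert.1 hK with rfl | hK
      · exact hb
      · have hne : J ≠ K := by
          rintro rfl
          exact hJF hK
        have h1 := component_le_centralizer_of_ne hJ (hF K (Finset.mem_insert_of_mem hK)).1 hne
        exact mul_mem (inv_mem (h1 hbJ)) (hc K hK)
  have hfin : Set.Finite {K : Subgroup X | IsComponent K ∧ ¬ A ≤ centralizer (K : Set X)} :=
    Set.toFinite _
  obtain ⟨c, hcA, hcK, hc⟩ := key hfin.toFinset (by intro K hK; simpa only [_root_.Set.Finite.mem_toFinset, _root_.Set.mem_ofPred_eq] using hK)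
  refine ⟨c, hcA, hcK, fun K hK => ?_⟩
  by_cases hAK : A ≤ centralizer (K : Set X)
  · exact hAK (mul_mem (inv_mem hcA) ha)
  · exact hc K (by simpa using ⟨hK, hAK⟩)

/-- `A ∩ O₂(X)` is normal in `X`. -/
theorem conj_mem_inf (hA : SC S A) {q : X} (hq : q ∈ pCore 2 X) (hqA : q ∈ A) (g : X) :
    g * q * g⁻¹ ∈ A :=
  hA.mem hqA (pCore_le_sylow S ((Cfsg.Agent.Lib.Cores.pCore_normal 2).conj_mem q hq g))

/-- elements of `A` centralising all components lie in `O₂(X)`. -/
theorem mem_pCore (h : Hyp X) (hA : SC S A) {u : X} (hu : u ∈ A)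
    (huK : ∀ K : Subgroup X, IsComponent K → u ∈ centralizer (K : Set X)) : u ∈ pCore 2 X := by
  have hqn := (Cfsg.Agent.Lib.Cores.pCore_normal (G := X) 2)
  let W : Subgroup X :=
    { carrier := {x | (∀ K : Subgroup X, IsComponent K → x ∈ centralizer (K : Set X)) ∧
        (∀ q ∈ pCore 2 X, x * q * x⁻¹ * q⁻¹ ∈ A) ∧ (∀ q ∈ pCore 2 X, q ∈ A → x * q = q * x)}
      one_mem' := by
        refine ⟨fun K _ => one_mem _, fun q _ => ?_, fun q _ _ => by group⟩
        have : (1 : X) * q * 1⁻¹ * q⁻¹ = 1 := by group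
        rw [this]
        exact one_mem _
      mul_mem' := by
        rintro x y ⟨hx1, hx2, hx3⟩ ⟨hy1, hy2, hy3⟩
        refine ⟨fun K hK => mul_mem (hx1 K hK) (hy1 K hK), fun q hq => ?_, fun q hq hqA => ?_⟩
        · have h1 := hy2 q hq
          have h2 : y * q * y⁻¹ * q⁻¹ ∈ pCore 2 X := mul_mem (hqn.conj_mem q hq y) (inv_mem hq)
          have h3 := hx3 _ h2 h1
          have h4 : x * y * q * (x * y)⁻¹ * q⁻¹ = (y * q * y⁻¹ * q⁻¹) * (x * q * x⁻¹ * q⁻¹) := by
            calc x * y * q * (x * y)⁻¹ * q⁻¹ = (x * (y * q * y⁻¹ * q⁻¹)) * (q * x⁻¹ * q⁻¹) := by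
                  group
              _ = ((y * q * y⁻¹ * q⁻¹) * x) * (q * x⁻¹ * q⁻¹) := by rw [h3]
              _ = (y * q * y⁻¹ * q⁻¹) * (x * q * x⁻¹ * q⁻¹) := by group
          rw [h4]
          exact mul_mem h1 (hx2 q hq)
        · calc x * y * q = x * (y * q) := by group
            _ = x * q * y := by rw [hy3 q hq hqA]; group
            _ = q * (x * y) := by rw [hx3 q hq hqA]; group
      inv_mem' := by
        rintro x ⟨hx1, hx2, hx3⟩
        refine ⟨fun K hK => inv_mem (hx1 K hK), fun q hq => ?_, fun q hq hqA => ?_⟩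
        · have h1 := hx2 q hq
          have h2 : x * q * x⁻¹ * q⁻¹ ∈ pCore 2 X := mul_mem (hqn.conj_mem q hq x) (inv_mem hq)
          have h3 := hx3 _ h2 h1
          have h4 : x⁻¹ * q * x⁻¹⁻¹ * q⁻¹ = (x * q * x⁻¹ * q⁻¹)⁻¹ := by
            calc x⁻¹ * q * x⁻¹⁻¹ * q⁻¹ = x⁻¹ * (x * q * x⁻¹ * q⁻¹)⁻¹ * x := by group
              _ = x⁻¹ * ((x * q * x⁻¹ * q⁻¹)⁻¹ * x) := by group
              _ = x⁻¹ * (x * (x * q * x⁻¹ * q⁻¹)⁻¹) := by
                  have h5 : Commute x (x * q * x⁻¹ * q⁻¹) := h3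
                  rw [(h5.inv_right).eq]
              _ = (x * q * x⁻¹ * q⁻¹)⁻¹ := by group
          rw [h4]
          exact inv_mem h1
        · have h1 : Commute x q := hx3 q hq hqA
          exact h1.inv_left.eq }
  have hW : ∀ x, x ∈ W ↔ (∀ K : Subgroup X, IsComponent K → x ∈ centralizer (K : Set X)) ∧
        (∀ q ∈ pCore 2 X, x * q * x⁻¹ * q⁻¹ ∈ A) ∧ (∀ q ∈ pCore 2 X, q ∈ A → x * q = q * x) :=
    fun x => Iff.rfl
  have hWn : W.Normal := by
    refine ⟨?_⟩
    rintro x ⟨hx1, hx2, hx3⟩ g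
    refine ⟨fun K hK => ?_, fun q hq => ?_, fun q hq hqA => ?_⟩
    · have h1 := hx1 _ (isComponent_conj g⁻¹ hK)
      rw [mem_centralizer_iff]
      intro k hk
      have h2 := mem_centralizer_iff.1 h1 (g⁻¹ * k * g) ⟨k, hk, by simp only [_root_.map_inv, _root_.MulEquiv.toMonoidHom_eq_coe, _root_.MonoidHom.coe_coe, _root_.MulAut.inv_apply, _root_.MulAut.conj_symm_apply]⟩
      calc k * (g * x * g⁻¹) = g * ((g⁻¹ * k * g) * x) * g⁻¹ := by group
        _ = g * (x * (g⁻¹ * k * g)) * g⁻¹ := by rw [h2]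
        _ = g * x * g⁻¹ * k := by group
    · have hq' : g⁻¹ * q * g ∈ pCore 2 X := by simpa only [_root_.inv_inv] using hqn.conj_mem q hq g⁻¹
      have h1 := hx2 _ hq'
      have h2 : x * (g⁻¹ * q * g) * x⁻¹ * (g⁻¹ * q * g)⁻¹ ∈ pCore 2 X :=
        mul_mem (hqn.conj_mem _ hq' x) (inv_mem hq')
      have h3 := conj_mem_inf hA h2 h1 g
      have h4 : g * x * g⁻¹ * q * (g * x * g⁻¹)⁻¹ * q⁻¹ =
          g * (x * (g⁻¹ * q * g) * x⁻¹ * (g⁻¹ * q * g)⁻¹) * g⁻¹ := by group
      rw [h4]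
      exact h3
    · have hq' : g⁻¹ * q * g ∈ pCore 2 X := by simpa using hqn.conj_mem q hq g⁻¹
      have hqA' : g⁻¹ * q * g ∈ A := by simpa using conj_mem_inf hA hq hqA g⁻¹
      have h1 := hx3 _ hq' hqA'
      calc g * x * g⁻¹ * q = g * (x * (g⁻¹ * q * g)) * g⁻¹ := by group
        _ = g * ((g⁻¹ * q * g) * x) * g⁻¹ := by rw [h1]
        _ = q * (g * x * g⁻¹) := by group
  have hW2 : IsPGroup 2 W := by
    apply isPGroup_two_of_odd
    intro y' hodd
    obtain ⟨y, hyW⟩ := y'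
    obtain ⟨hy1, hy2, hy3⟩ := (hW y).1 hyW
    rw [Subgroup.orderOf_mk] at hodd
    apply Subtype.ext
    refine eq_one_of_centralises h.core hodd ?_ hy1
    have h1 := commute_of_commutator_commute (U := pCore 2 X) (x := y) ?_ ?_ ?_
    · exact fun q hq => (h1 q hq).eq.symm
    · obtain ⟨n, hn⟩ := (IsPGroup.iff_card.mp (pCore_isPGroup (G := X) 2))
      rw [hn]
      exact Nat.Coprime.pow_right _ (Nat.coprime_two_right.2 hodd)
    · rw [normalizer_eq_top]
      exact mem_top y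
    · intro q hq
      have hinv : y⁻¹ ∈ W := W.inv_mem ⟨hy1, hy2, hy3⟩
      have h2 := hinv.2.1 q hq
      have h3 : y⁻¹ * q * y * q⁻¹ = y⁻¹ * q * y⁻¹⁻¹ * q⁻¹ := by group
      rw [h3]
      have h4 : y⁻¹ * q * y⁻¹⁻¹ * q⁻¹ ∈ pCore 2 X := mul_mem (hqn.conj_mem q hq y⁻¹) (inv_mem hq)
      exact (hy3 _ h4 h2).symm
  have hWle : W ≤ pCore 2 X := le_pCore hWn hW2
  apply hWle
  refine ⟨huK, fun q hq => ?_, fun q hq hqA => hA.comm u hu q hqA⟩
  have h1 := hA.conj_mem (inv_mem hu) (pCore_le_sylow S hq)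
  have h2 : u * q * u⁻¹ * q⁻¹ = u * (q * u⁻¹ * q⁻¹) := by group
  rw [h2]
  exact mul_mem hu h1

theorem generation' (h : Hyp X) (hA : SC S A) (hT : Good S A) (x : X) :
    ∃ k ∈ KA A, ∃ n ∈ normalizer (A : Set X), x = k * n := by
  have hqn := (Cfsg.Agent.Lib.Cores.pCore_normal (G := X) 2)
  have hKn := KA_normal h hA hT
  have hLn : (KA A ⊔ pCore 2 X).Normal := inferInstance
  have hAL : A ≤ KA A ⊔ pCore 2 X := by
    intro a ha
    obtain ⟨c, hcA, hcK, hc⟩ := exists_mem_KA h hA hT ha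
    have h1 := mem_pCore h hA (mul_mem (inv_mem hcA) ha) hc
    have h2 : a = c * (c⁻¹ * a) := by group
    rw [h2]
    exact mul_mem (mem_sup_left hcK) (mem_sup_right h1)
  have hA2 : IsPGroup 2 (A.map (MulAut.conj x).toMonoidHom) :=
    (S.isPGroup'.to_le hA.le).map _
  obtain ⟨l, hl, hlS⟩ := exists_conj_mem S hLn.isSubnormal hA2 (by
    rintro _ ⟨a, ha, rfl⟩
    exact hLn.conj_mem a (hAL ha) x)
  have h1 : ∀ a ∈ A, (l * x) * a * (l * x)⁻¹ ∈ A := by
    intro a ha
    have h2 := hlS _ ⟨a, ha, rfl⟩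
    have h3 : l * ((MulAut.conj x).toMonoidHom a) * l⁻¹ = (l * x) * a * (l * x)⁻¹ := by
      simp only [MulAut.conj_apply, mul_assoc, _root_.MulEquiv.toMonoidHom_eq_coe, _root_.MonoidHom.coe_coe, _root_.mul_inv_rev]
    rw [h3] at h2
    exact hA.mem ha h2
  have h2 : l * x ∈ normalizer (A : Set X) := by
    rw [Subgroup.mem_normalizer_iff_map_conj_eq]
    apply Subgroup.eq_of_le_of_card_ge
    · rintro _ ⟨a, ha, rfl⟩
      exact h1 a ha
    · rw [card_map_of_injective (MulAut.conj (l * x)).injective]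
  obtain ⟨k, hk, q, hq, hkq⟩ := mem_sup_of_normal_left.mp (inv_mem hl)
  have hqA : q ∈ normalizer (A : Set X) := by
    rw [Subgroup.mem_normalizer_iff_map_conj_eq]
    apply Subgroup.eq_of_le_of_card_ge
    · rintro _ ⟨a, ha, rfl⟩
      exact hA.conj_mem ha (pCore_le_sylow S hq)
    · rw [card_map_of_injective (MulAut.conj q).injective]
  refine ⟨k, hk, q * (l * x), mul_mem hqA h2, ?_⟩
  have h3 : x = l⁻¹ * (l * x) := by group
  rw [← mul_assoc, hkq, ← h3]

theorem generation (h : Hyp X) (hA : SC S A) (hT : Good S A) (x : X) :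
    ∃ k ∈ (⨆ J : {J : Subgroup X // IsComponent J ∧ ¬ A ≤ centralizer (J : Set X)},
      (J : Subgroup X)), ∃ n ∈ normalizer (A : Set X), x = k * n :=
  generation' h hA hT x

end Cfsg.Agent.ThreePrime.Generation
end

-- part: ThreePrime/Signal
section
/-!
# The signalizer functor `a ↦ O(C_G(a))`
-/

set_option autoImplicit false
set_option linter.dupNamespace false

namespace Cfsg.Agent.ThreePrime.Signal

open Subgroup
open Cfsg
open Cfsg.Agent.ThreePrime.Chain
open Cfsg.Agent.ThreePrime.Factor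
open Cfsg.Agent.ThreePrime.GData
open Cfsg.Agent.ThreePrime.Comp
open Cfsg.Agent.ThreePrime.AComp
open Cfsg.Agent.ThreePrime.ACFacts
open Cfsg.Agent.ThreePrime.Cov
open Cfsg.Agent.ThreePrime.CovP
open Cfsg.Agent.ThreePrime.CoreConj

universe u

/-- Induction hypothesis. -/
def IH (G : Type u) [Group G] : Prop :=
  ∀ (K : Type u) [Group K] [Finite K] [IsSimpleGroup K], (∃ a b : K, a * b ≠ b * a) →
    ¬ 3 ∣ Nat.card K → Nat.card K < Nat.card G → Cfsg.Lie.IsoSuzuki K

variable {G : Type u} [Group G] [Finite G] {A : Subgroup G}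

theorem card_Ce_lt {a : G} (ha : Ce a ≠ ⊤) : Nat.card (Ce a) < Nat.card G := by
  have h1 := Nat.le_of_dvd Nat.card_pos (card_subgroup_dvd_card (Ce a))
  rcases h1.lt_or_eq with h | h
  · exact h
  · exact absurd ((card_eq_iff_eq_top (Ce a)).1 h) ha

theorem covQ (hIH : IH G) (hG : GData A) {a : G} (ha : Ce a ≠ ⊤) :
    Cov a (Ce a ⧸ oddCore (Ce a)) (QuotientGroup.mk' (oddCore (Ce a))) := by
  refine ⟨QuotientGroup.mk'_surjective _, ?_, ?_, ?_, ?_⟩
  · rw [QuotientGroup.ker_mk', ← Nat.coprime_two_right]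
    exact Cfsg.Agent.Lib.Cores.pPrimeCore_coprime 2
  · intro K _ _ _ hna h3 hcard
    refine hIH K hna h3 (lt_of_le_of_lt hcard (lt_of_le_of_lt ?_ (card_Ce_lt ha)))
    exact Nat.le_of_dvd Nat.card_pos (card_quotient_dvd_card _)
  · intro h3
    exact hG.three ((h3.trans (card_quotient_dvd_card _)).trans (card_subgroup_dvd_card _))
  · exact Cfsg.Agent.Lib.Cores.pPrimeCore_quotient_pPrimeCore 2

theorem cov_id (hIH : IH G) (hG : GData A) {a : G} (ha : Ce a ≠ ⊤) (hc : oddCore (Ce a) = ⊥) :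
    Cov a (Ce a) (MonoidHom.id (Ce a)) := by
  refine ⟨Function.surjective_id, ?_, ?_, ?_, hc⟩
  · have : (MonoidHom.id (Ce a)).ker = ⊥ := by
      rw [MonoidHom.ker_eq_bot_iff]
      exact Function.injective_id
    rw [this, card_bot]
    exact odd_one
  · intro K _ _ _ hna h3 hcard
    exact hIH K hna h3 (lt_of_le_of_lt hcard (card_Ce_lt ha))
  · intro h3
    exact hG.three (h3.trans (card_subgroup_dvd_card _))

/-- Balance for the functor `a ↦ O(C_G(a))`. -/
theorem balance_G (hIH : IH G) (hG : GData A) {a b : G} (ha : a ∈ A) (hb : b ∈ A)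
    (hbC : Ce b ≠ ⊤) :
    centralizerPPrimeCore 2 a ⊓ centralizer ({b} : Set G) ≤ centralizerPPrimeCore 2 b := by
  have : Fact (Nat.Prime 2) := ⟨Nat.prime_two⟩
  have h := covQ hIH hG hbC
  obtain ⟨P, hP⟩ := exists_sylC hG
  obtain ⟨Sb, hSb⟩ := hP.exists_sylow hb
  have hAS := hP.A_le.trans hSb
  have hSC := h.sc hG hAS
  have hgood := h.good hG hAS
  set π := QuotientGroup.mk' (oddCore (Ce b)) with hπ
  have haC : a ∈ Ce b := _root_.Cfsg.Agent.ThreePrime.Cov.le_centralizer hG hb ha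
  let Y₀ : Subgroup (Ce b) := (centralizerPPrimeCore 2 a).subgroupOf (Ce b)
  have hodd0 : Odd (Nat.card (centralizerPPrimeCore 2 a)) := by
    rw [← Nat.not_even_iff_odd, even_iff_two_dvd]
    exact core_card 2 a
  have hker : (Nat.card π.ker).Coprime 2 := Nat.coprime_two_right.2 h.ker
  have hY := Balance.balance h.hyp hSC hgood (a := π ⟨a, haC⟩) ⟨⟨a, haC⟩, ha, rfl⟩ (Y := Y₀.map π)
    ?_ ?_ ?_
  · rintro y ⟨hy, hyb⟩
    have hyC : y ∈ Ce b := hyb
    have h1 : π ⟨y, hyC⟩ ∈ Y₀.map π := ⟨⟨y, hyC⟩, hy, rfl⟩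
    rw [hY, mem_bot, ← MonoidHom.mem_ker, hπ, QuotientGroup.ker_mk'] at h1
    exact ⟨_, h1, rfl⟩
  · refine Odd.of_dvd_nat hodd0 ?_
    exact (Cfsg.Agent.PLocal.PConstrained.card_map_dvd π Y₀).trans
      (card_comap_dvd_of_injective _ _ (subtype_injective _))
  · rintro _ ⟨y, hy, rfl⟩
    rw [← map_mul, ← map_mul]
    congr 1
    apply Subtype.ext
    exact (mem_centralizer_singleton_iff.1 (core_le 2 a hy)).symm
  · rintro c hc _ ⟨y, hy, rfl⟩
    have hz : IsPGroup 2 (zpowers (⟨a, haC⟩ : Ce b)) := by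
      rintro ⟨_, k, rfl⟩
      refine ⟨1, ?_⟩
      apply Subtype.ext
      have h1 : (⟨a, haC⟩ : Ce b) * ⟨a, haC⟩ = 1 := Subtype.ext (hG.sq a ha)
      change ((⟨a, haC⟩ : Ce b) ^ k) ^ (2 ^ 1) = 1
      rw [pow_one, pow_two, ← Commute.mul_zpow (Commute.refl _), h1, one_zpow]
    have h1 := Cfsg.Agent.PLocal.PConstrained.map_centralizer_eq π h.surj hker hz
    have h2 : c ∈ centralizer (((zpowers (⟨a, haC⟩ : Ce b)).map π : Subgroup _) : Set _) := by
      rw [MonoidHom.map_zpowers, Cfsg.Agent.SignalizersComponents.CoprimeGen.centralizer_zpowers,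
        mem_centralizer_singleton_iff]
      exact hc
    rw [← h1] at h2
    obtain ⟨c', hc', rfl⟩ := h2
    rw [Cfsg.Agent.SignalizersComponents.CoprimeGen.centralizer_zpowers, SetLike.mem_coe,
      mem_centralizer_singleton_iff] at hc'
    refine ⟨c' * y * c'⁻¹, ?_, by rw [map_mul, map_mul, map_inv]⟩
    have h3 : (c' : G) ∈ centralizer ({a} : Set G) := by
      rw [mem_centralizer_singleton_iff]
      exact congrArg Subtype.val hc'
    exact (mem_normalizer_iff.1 (core_normalized 2 a h3) y).1 hy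

omit [Finite G] in
theorem isElementaryAbelian_of (hsq : ∀ x ∈ A, x * x = 1)
    (hcomm : ∀ x ∈ A, ∀ y ∈ A, x * y = y * x) : Cfsg.IsElementaryAbelian 2 A := by
  refine ⟨⟨⟨fun x y => Subtype.ext (hcomm x x.2 y y.2)⟩⟩, ?_⟩
  intro a ha
  rw [pow_two]
  exact hsq a ha

/-- The completion `W` of the functor. -/
structure Completion (A W : Subgroup G) : Prop where
  odd : ¬ 2 ∣ Nat.card W
  eq : W = ⨆ b : {b : G // b ∈ A ∧ b ≠ 1}, centralizerPPrimeCore 2 (b : G)
  inf : ∀ a ∈ A, a ≠ 1 → W ⊓ centralizer ({a} : Set G) = centralizerPPrimeCore 2 a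

variable {W : Subgroup G}

theorem normalizer_le (hW : Completion A W) :
    normalizer (A : Set G) ≤ normalizer (W : Set G) := by
  intro n hn
  apply mem_normalizer_of_forall
  intro x hx
  have h1 : W ≤ W.comap (MulAut.conj n).toMonoidHom := by
    conv_lhs => rw [hW.eq]
    apply iSup_le
    rintro ⟨b, hb, hb1⟩
    have h2 : centralizerPPrimeCore 2 (n * b * n⁻¹) ≤ W := by
      conv_rhs => rw [hW.eq]
      exact le_iSup (fun b : {b : G // b ∈ A ∧ b ≠ 1} => centralizerPPrimeCore 2 (b : G))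
        ⟨n * b * n⁻¹, (mem_normalizer_iff.1 hn b).1 hb, by
          intro h
          apply hb1
          rw [mul_inv_eq_one] at h
          exact mul_left_cancel (h.trans (mul_one n).symm)⟩
    rw [← map_le_iff_le_comap, ← core_conj]
    exact h2
  exact h1 hx

/-- `C_G(V) ≤ N_G(W)` for `V ≤ A` noncyclic. -/
theorem centralizer_le (hG : GData A) (hW : Completion A W) {V : Subgroup G} (hVA : V ≤ A)
    (hV : 4 ≤ Nat.card V) : centralizer (V : Set G) ≤ normalizer (W : Set G) := by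
  have : Fact (Nat.Prime 2) := ⟨Nat.prime_two⟩
  have hVE : Cfsg.IsElementaryAbelian 2 V :=
    isElementaryAbelian_of (fun x hx => hG.sq x (hVA hx)) (fun x hx y hy => hG.comm x (hVA hx) y (hVA hy))
  have hAN : A ≤ normalizer (A : Set G) := le_normalizer
  have h1 := Cfsg.Agent.SignalizersComponents.CoprimeGen.le_iSup_centralizer_ne_one hVE
    (by simpa only [_root_.Nat.reducePow] using hV) hW.odd (hVA.trans (hAN.trans (normalizer_le hW)))
  intro c hc
  apply mem_normalizer_of_forall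
  intro x hx
  have h2 : (⨆ a : {a : G // a ∈ V ∧ a ≠ 1}, W ⊓ centralizer {(a : G)}) ≤
      W.comap (MulAut.conj c).toMonoidHom := by
    apply iSup_le
    rintro ⟨b, hb, hb1⟩
    intro y hy
    have h3 : y ∈ centralizerPPrimeCore 2 b := by
      rw [← hW.inf b (hVA hb) hb1]
      exact hy
    have hcb : c ∈ centralizer ({b} : Set G) := by
      rw [mem_centralizer_singleton_iff]
      exact (mem_centralizer_iff.1 hc b hb).symm
    have h4 : c * y * c⁻¹ ∈ centralizerPPrimeCore 2 b :=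
      (mem_normalizer_iff.1 (core_normalized 2 b hcb) y).1 h3
    rw [← hW.inf b (hVA hb) hb1] at h4
    exact h4.1
  exact h2 (h1 hx)

/-- `C_G(a) ≤ N_G(W)` for all `a`. -/
theorem Ce_le (hIH : IH G) (hG : GData A) (hW : Completion A W) {a : G} (ha : a ∈ A) (ha1 : a ≠ 1)
    (haC : Ce a ≠ ⊤) : Ce a ≤ normalizer (W : Set G) := by
  have : Fact (Nat.Prime 2) := ⟨Nat.prime_two⟩
  have h := covQ hIH hG haC
  obtain ⟨P, hP⟩ := exists_sylC hG
  obtain ⟨Sa, hSa⟩ := hP.exists_sylow ha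
  have hAS := hP.A_le.trans hSa
  have hSC := h.sc hG hAS
  have hgood := h.good hG hAS
  set π := QuotientGroup.mk' (oddCore (Ce a)) with hπ
  have hker : (Nat.card π.ker).Coprime 2 := Nat.coprime_two_right.2 h.ker
  set M := normalizer (W : Set G) with hM
  -- the kernel
  have hkerM : ∀ x : Ce a, π x = 1 → (x : G) ∈ M := by
    intro x hx
    rw [← MonoidHom.mem_ker, hπ, QuotientGroup.ker_mk'] at hx
    have h1 : (x : G) ∈ centralizerPPrimeCore 2 a := ⟨x, hx, rfl⟩
    rw [← hW.inf a ha ha1] at h1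
    exact le_normalizer h1.1
  have hlift : ∀ x : Ce a, π x ∈ (M.subgroupOf (Ce a)).map π → (x : G) ∈ M := by
    rintro x ⟨y, hy, hyx⟩
    have h1 : (y : G) ∈ M := hy
    have h2 := hkerM (y⁻¹ * x) (by rw [map_mul, map_inv, hyx, inv_mul_cancel])
    have h3 := mul_mem h1 h2
    simpa only [_root_.Subgroup.coe_mul, _root_.InvMemClass.coe_inv, _root_.mul_inv_cancel_left] using h3
  have hA2 : IsPGroup 2 (A.subgroupOf (Ce a)) :=
    (isPGroup_of_sq hG.sq).comap_of_injective _ (subtype_injective _)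
  -- the normalizer of `A`
  have hN : normalizer (Abar A π : Set _) ≤ (M.subgroupOf (Ce a)).map π := by
    have h1 := Cfsg.Agent.PLocal.PConstrained.map_normalizer_eq π h.surj hker hA2
    rw [Abar, ← h1]
    apply map_mono
    intro x hx
    rw [mem_subgroupOf]
    apply normalizer_le hW
    apply mem_normalizer_of_forall
    intro y hy
    exact (mem_normalizer_iff.1 hx ⟨y, _root_.Cfsg.Agent.ThreePrime.Cov.le_centralizer hG ha hy⟩).1 hy
  -- components
  have hJ : ∀ J : Subgroup (Ce a ⧸ oddCore (Ce a)), IsComponent J →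
      ¬ Abar A π ≤ centralizer (J : Set _) → J ≤ (M.subgroupOf (Ce a)).map π := by
    intro J hJ hAJ
    have h8 := card_cent h hG hP ha ha1 hJ hAJ
    set V := A ⊓ TJ P π (centralizer (J : Set _)) with hV
    have hVM := centralizer_le hG hW (V := V) inf_le_left (by omega)
    have hV2 : IsPGroup 2 (V.subgroupOf (Ce a)) :=
      ((isPGroup_of_sq hG.sq).to_le inf_le_left).comap_of_injective _ (subtype_injective _)
    have h1 := Cfsg.Agent.PLocal.PConstrained.map_centralizer_eq π h.surj hker hV2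
    intro k hk
    have h2 : k ∈ centralizer (((V.subgroupOf (Ce a)).map π : Subgroup _) : Set _) := by
      rw [mem_centralizer_iff]
      rintro _ ⟨v, hv, rfl⟩
      have h3 : (v : G) ∈ TJ P π (centralizer (J : Set _)) := hv.2
      rw [mem_TJ] at h3
      exact (mem_centralizer_iff.1 h3.2 k hk).symm
    rw [← h1] at h2
    obtain ⟨c, hc, rfl⟩ := h2
    refine ⟨c, ?_, rfl⟩
    rw [SetLike.mem_coe, mem_subgroupOf]
    apply hVM
    rw [mem_centralizer_iff]
    intro v hv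
    have hvC : v ∈ Ce a := _root_.Cfsg.Agent.ThreePrime.Cov.le_centralizer hG ha hv.1
    exact congrArg Subtype.val (mem_centralizer_iff.1 hc ⟨v, hvC⟩ hv)
  intro c hc
  apply hlift ⟨c, hc⟩
  obtain ⟨k, hk, n, hn, hkn⟩ := Generation.generation h.hyp hSC hgood (π ⟨c, hc⟩)
  rw [hkn]
  refine mul_mem ?_ (hN hn)
  have hle : (⨆ J : {J : Subgroup (Ce a ⧸ oddCore (Ce a)) // IsComponent J ∧
      ¬ Abar A π ≤ centralizer (J : Set _)}, (J : Subgroup _)) ≤ (M.subgroupOf (Ce a)).map π := by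
    apply iSup_le
    rintro ⟨J, hJ1, hJ2⟩
    exact hJ J hJ1 hJ2
  exact hle hk

end Cfsg.Agent.ThreePrime.Signal
end

-- part: ThreePrime/TrivCore
section
/-!
# The case of trivial cores
-/

set_option autoImplicit false
set_option linter.dupNamespace false

namespace Cfsg.Agent.ThreePrime.TrivCore

open Subgroup
open scoped commutatorElement
open Cfsg
open Cfsg.Agent.ThreePrime.Chain
open Cfsg.Agent.ThreePrime.Factor
open Cfsg.Agent.ThreePrime.GData
open Cfsg.Agent.ThreePrime.Comp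
open Cfsg.Agent.ThreePrime.AComp
open Cfsg.Agent.ThreePrime.ACFacts
open Cfsg.Agent.ThreePrime.Cov
open Cfsg.Agent.ThreePrime.CovP
open Cfsg.Agent.ThreePrime.Signal
open Cfsg.Agent.SignalizersComponents.Components

universe u

variable {G : Type u} [Group G]

/-! ### Conjugates -/

/-- the conjugate of a subgroup. -/
def cj (n : G) (J : Subgroup G) : Subgroup G := J.map (MulAut.conj n).toMonoidHom

theorem mem_cj {n x : G} {J : Subgroup G} : x ∈ cj n J ↔ n⁻¹ * x * n ∈ J := by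
  constructor
  · rintro ⟨y, hy, rfl⟩
    have e : n⁻¹ * ((MulAut.conj n).toMonoidHom y) * n = y := by
      change n⁻¹ * (n * y * n⁻¹) * n = y
      group
    rw [e]
    exact hy
  · intro h
    refine ⟨_, h, ?_⟩
    change n * (n⁻¹ * x * n) * n⁻¹ = x
    group

theorem conj_mem_cj {n x : G} {J : Subgroup G} (hx : x ∈ J) : n * x * n⁻¹ ∈ cj n J := ⟨x, hx, rfl⟩

theorem cj_mul (m n : G) (J : Subgroup G) : cj (m * n) J = cj m (cj n J) := by
  ext x
  rw [mem_cj, mem_cj, mem_cj]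
  have e : (m * n)⁻¹ * x * (m * n) = n⁻¹ * (m⁻¹ * x * m) * n := by group
  rw [e]

theorem cj_one (J : Subgroup G) : cj 1 J = J := by
  ext x
  rw [mem_cj]
  simp

theorem cj_inv_cj (n : G) (J : Subgroup G) : cj n⁻¹ (cj n J) = J := by
  rw [← cj_mul, inv_mul_cancel, cj_one]

theorem cj_cj_inv (n : G) (J : Subgroup G) : cj n (cj n⁻¹ J) = J := by
  rw [← cj_mul, mul_inv_cancel, cj_one]

theorem cj_inj {n : G} {J K : Subgroup G} (h : cj n J = cj n K) : J = K := by
  rw [← cj_inv_cj n J, h, cj_inv_cj]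

theorem cj_eq_iff {n : G} {J : Subgroup G} : cj n J = J ↔ n ∈ normalizer (J : Set G) :=
  (Subgroup.mem_normalizer_iff_map_conj_eq).symm

theorem cj_centralizer (n : G) (J : Subgroup G) :
    cj n (centralizer (J : Set G)) = centralizer (cj n J : Set G) := by
  ext x
  rw [mem_cj, mem_centralizer_iff, mem_centralizer_iff]
  constructor
  · rintro h _ ⟨y, hy, rfl⟩
    have h1 := h y hy
    change n * y * n⁻¹ * x = x * (n * y * n⁻¹)
    calc n * y * n⁻¹ * x = n * (y * (n⁻¹ * x * n)) * n⁻¹ := by group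
      _ = n * (n⁻¹ * x * n * y) * n⁻¹ := by rw [h1]
      _ = x * (n * y * n⁻¹) := by group
  · intro h y hy
    have h1 := h (n * y * n⁻¹) (conj_mem_cj hy)
    calc y * (n⁻¹ * x * n) = n⁻¹ * (n * y * n⁻¹ * x) * n := by group
      _ = n⁻¹ * (x * (n * y * n⁻¹)) * n := by rw [h1]
      _ = n⁻¹ * x * n * y := by group

theorem cj_Ce (n a : G) : cj n (Ce a) = Ce (n * a * n⁻¹) := by
  ext x
  rw [mem_cj, mem_centralizer_singleton_iff, mem_centralizer_singleton_iff]
  constructor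
  · intro h
    calc x * (n * a * n⁻¹) = n * (n⁻¹ * x * n * a) * n⁻¹ := by group
      _ = n * (a * (n⁻¹ * x * n)) * n⁻¹ := by rw [h]
      _ = n * a * n⁻¹ * x := by group
  · intro h
    calc n⁻¹ * x * n * a = n⁻¹ * (x * (n * a * n⁻¹)) * n := by group
      _ = n⁻¹ * (n * a * n⁻¹ * x) * n := by rw [h]
      _ = a * (n⁻¹ * x * n) := by group

theorem isComponent_cj (n : G) {H J : Subgroup G} (hJH : J ≤ H) (hJ : IsComponent (J.subgroupOf H)) :
    IsComponent ((cj n J).subgroupOf (cj n H)) := by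
  let e : H ≃* cj n H := H.equivMapOfInjective _ (MulAut.conj n).injective
  have h1 := isComponent_map_equiv e hJ
  have h2 : (J.subgroupOf H).map e.toMonoidHom = (cj n J).subgroupOf (cj n H) := by
    ext x
    rw [mem_subgroupOf]
    constructor
    · rintro ⟨y, hy, rfl⟩
      exact ⟨y, hy, rfl⟩
    · rintro ⟨y, hy, hyx⟩
      exact ⟨⟨y, hJH hy⟩, hy, Subtype.ext hyx⟩
  rwa [h2] at h1

/-! ### Components of the centralizers -/

variable [Finite G] {A P : Subgroup G}

/-- `J` is a component of `C_G(a)` not centralised by `A`. -/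
structure AJ (A : Subgroup G) (a : G) (J : Subgroup G) : Prop where
  mem : a ∈ A
  ne : a ≠ 1
  le : J ≤ Ce a
  comp : IsComponent (J.subgroupOf (Ce a))
  nc : ¬ A ≤ centralizer (J : Set G)

/-- the standing hypothesis. -/
structure Hyps (A : Subgroup G) : Prop where
  ih : IH G
  g : GData A
  ce : ∀ a ∈ A, a ≠ 1 → Ce a ≠ ⊤
  core : ∀ a ∈ A, a ≠ 1 → oddCore (Ce a) = ⊥

theorem Hyps.cov (H : Hyps A) {a : G} (ha : a ∈ A) (ha1 : a ≠ 1) :
    Cov a (Ce a) (MonoidHom.id (Ce a)) := cov_id H.ih H.g (H.ce a ha ha1) (H.core a ha ha1)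

omit [Finite G] in
theorem Abar_id (a : G) : Abar A (MonoidHom.id (Ce a)) = A.subgroupOf (Ce a) := by
  rw [Abar, Subgroup.map_id]

/-- Sylow 2-subgroups of `C_G(a)`. -/
theorem Hyps.exists_sylow (H : Hyps A) {a : G} (ha : a ∈ A) (ha1 : a ≠ 1) :
    ∃ S : Sylow 2 (Ce a), SC S (A.subgroupOf (Ce a)) ∧ Good S (A.subgroupOf (Ce a)) := by
  have : Fact (Nat.Prime 2) := ⟨Nat.prime_two⟩
  obtain ⟨P, hP⟩ := exists_sylC H.g
  obtain ⟨Sa, hSa⟩ := hP.exists_sylow ha
  have h := H.cov ha ha1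
  have hAS := hP.A_le.trans hSa
  refine ⟨Sa.mapSurjective h.surj, ?_, ?_⟩
  · rw [← Abar_id]
    exact h.sc H.g hAS
  · rw [← Abar_id]
    exact h.good H.g hAS

omit [Finite G] in
theorem AJ.nc' {a : G} {J : Subgroup G} (h : AJ A a J) :
    ¬ A.subgroupOf (Ce a) ≤ centralizer (J.subgroupOf (Ce a) : Set (Ce a)) ∨ ¬ A ≤ Ce a := by
  by_contra hcon
  push Not at hcon
  apply h.nc
  intro x hx
  rw [mem_centralizer_iff]
  intro k hk
  exact congrArg Subtype.val (mem_centralizer_iff.1 (hcon.1 (show (⟨x, hcon.2 hx⟩ : Ce a) ∈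
    A.subgroupOf (Ce a) from hx)) ⟨k, h.le hk⟩ hk)

omit [Finite G] in
theorem AJ.nc2 (H : Hyps A) {a : G} {J : Subgroup G} (h : AJ A a J) :
    ¬ A.subgroupOf (Ce a) ≤ centralizer (J.subgroupOf (Ce a) : Set (Ce a)) :=
  h.nc'.resolve_right (fun h1 => h1 (_root_.Cfsg.Agent.ThreePrime.Cov.le_centralizer H.g h.mem))

theorem AJ.ac (H : Hyps A) {a : G} {J : Subgroup G} (h : AJ A a J) :
    ∃ S : Sylow 2 (Ce a), AC S (A.subgroupOf (Ce a)) (J.subgroupOf (Ce a)) := by
  obtain ⟨S, hS1, hS2⟩ := H.exists_sylow h.mem h.ne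
  exact ⟨S, ACFacts.ac (H.cov h.mem h.ne).hyp hS1 hS2 h.comp (h.nc2 H)⟩

/-- trivial centre -/
theorem AJ.ctr (H : Hyps A) {a : G} {J : Subgroup G} (h : AJ A a J) {z : G} (hz : z ∈ J)
    (hzJ : z ∈ centralizer (J : Set G)) : z = 1 := by
  obtain ⟨S, hS⟩ := h.ac H
  have h1 := hS.ctr ⟨z, h.le hz⟩ hz (by
    intro k hk
    exact Subtype.ext (mem_centralizer_iff.1 hzJ k hk))
  exact congrArg Subtype.val h1

/-- `A = (A ∩ J) C_A(J)` -/
theorem AJ.split (H : Hyps A) {a : G} {J : Subgroup G} (h : AJ A a J) {x : G} (hx : x ∈ A) :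
    ∃ b ∈ A ⊓ J, b⁻¹ * x ∈ centralizer (J : Set G) := by
  obtain ⟨S, hS⟩ := h.ac H
  obtain ⟨b, hbA, hbJ, hb⟩ := hS.exists_split (a := ⟨x, _root_.Cfsg.Agent.ThreePrime.Cov.le_centralizer H.g h.mem hx⟩) hx
  refine ⟨b, ⟨hbA, hbJ⟩, ?_⟩
  rw [mem_centralizer_iff]
  intro k hk
  exact congrArg Subtype.val (mem_centralizer_iff.1 hb ⟨k, h.le hk⟩ hk)

omit [Finite G] in
/-- distinct components of `C_G(a)` commute. -/
theorem AJ.comm {a : G} {J K : Subgroup G} (h : AJ A a J) (hK : AJ A a K) (hne : J ≠ K) :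
    K ≤ centralizer (J : Set G) := by
  have hne' : K.subgroupOf (Ce a) ≠ J.subgroupOf (Ce a) := by
    intro he
    apply hne
    have h1 := congrArg (Subgroup.map (Ce a).subtype) he
    rw [subgroupOf_map_subtype, subgroupOf_map_subtype, inf_of_le_left h.le, inf_of_le_left hK.le]
      at h1
    exact h1.symm
  have h1 := component_le_centralizer_of_ne hK.comp h.comp hne'
  intro k hk
  rw [mem_centralizer_iff]
  intro j hj
  exact congrArg Subtype.val (mem_centralizer_iff.1 (h1 (show (⟨k, hK.le hk⟩ : Ce a) ∈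
    K.subgroupOf (Ce a) from hk)) ⟨j, h.le hj⟩ hj)

omit [Finite G] in
theorem TJ_id {a : G} {J : Subgroup G} (hJ : J ≤ Ce a) :
    TJ P (MonoidHom.id (Ce a)) (J.subgroupOf (Ce a)) = P ⊓ J := by
  ext x
  constructor
  · rintro ⟨y, ⟨hy1, hy2⟩, rfl⟩
    exact ⟨hy1, hy2⟩
  · rintro ⟨h1, h2⟩
    exact ⟨⟨x, hJ h2⟩, ⟨h1, h2⟩, rfl⟩

omit [Finite G] in
theorem TJ_id' {a : G} (hP : SylC A P) (ha : a ∈ A) {J : Subgroup G} (hJ : J ≤ Ce a) :
    TJ P (MonoidHom.id (Ce a)) (centralizer (J.subgroupOf (Ce a) : Set (Ce a))) =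
      P ⊓ centralizer (J : Set G) := by
  ext x
  constructor
  · rintro ⟨y, ⟨hy1, hy2⟩, rfl⟩
    refine ⟨hy1, mem_centralizer_iff.2 ?_⟩
    intro k hk
    exact congrArg Subtype.val (mem_centralizer_iff.1 hy2 ⟨k, hJ hk⟩ hk)
  · rintro ⟨h1, h2⟩
    refine ⟨⟨x, hP.le_Ce ha h1⟩, ⟨h1, mem_centralizer_iff.2 ?_⟩, rfl⟩
    intro k hk
    exact Subtype.ext (mem_centralizer_iff.1 h2 k hk)

theorem AJ.fac (H : Hyps A) (hP : SylC A P) {a : G} {J : Subgroup G} (h : AJ A a J) :
    Fac P (P ⊓ J) (P ⊓ centralizer (J : Set G)) ∧ ⁅P ⊓ J, P ⊓ J⁆ = A ⊓ J ∧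
      8 ≤ Nat.card (A ⊓ J : Subgroup G) := by
  have h1 := fac_G (H.cov h.mem h.ne) H.g hP h.mem h.comp (by
    rw [Abar_id]; exact h.nc2 H)
  rw [TJ_id h.le, TJ_id' hP h.mem h.le] at h1
  have e : A ⊓ (P ⊓ J) = A ⊓ J := by
    rw [← inf_assoc, inf_of_le_left hP.A_le]
  rwa [e] at h1

theorem AJ.exists_ne (H : Hyps A) {a : G} {J : Subgroup G} (h : AJ A a J) : ∃ b ∈ A ⊓ J, b ≠ 1 := by
  obtain ⟨P, hP⟩ := exists_sylC H.g
  obtain ⟨-, -, h8⟩ := h.fac H hP
  rcases bot_or_exists_ne_one (A ⊓ J) with h1 | h1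
  · rw [h1, card_bot] at h8
    omega
  · exact h1

omit [Finite G] in
theorem AJ.conj {a n : G} {J : Subgroup G} (h : AJ A a J) (hn : n ∈ normalizer (A : Set G)) :
    AJ A (n * a * n⁻¹) (cj n J) := by
  refine ⟨(mem_normalizer_iff.1 hn a).1 h.mem, ?_, ?_, ?_, ?_⟩
  · intro h1
    apply h.ne
    rw [mul_inv_eq_one] at h1
    exact mul_left_cancel (h1.trans (mul_one n).symm)
  · rw [← cj_Ce]
    exact map_mono h.le
  · rw [← cj_Ce]
    exact isComponent_cj n h.le h.comp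
  · intro h1
    apply h.nc
    intro x hx
    have h2 := h1 ((mem_normalizer_iff.1 hn x).1 hx)
    rw [← cj_centralizer, mem_cj] at h2
    have e : n⁻¹ * (n * x * n⁻¹) * n = x := by group
    rwa [e] at h2

/-- The dichotomy. -/
theorem AJ.dich (H : Hyps A) {a b : G} {J K : Subgroup G} (h : AJ A a J) (hK : AJ A b K) :
    (A ⊓ K ≤ centralizer (J : Set G) ∧ A ⊓ J ≤ centralizer (K : Set G)) ∨ A ⊓ J = A ⊓ K := by
  obtain ⟨P, hP⟩ := exists_sylC H.g
  obtain ⟨f1, c1, -⟩ := h.fac H hP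
  obtain ⟨f2, c2, -⟩ := hK.fac H hP
  rcases dichotomy f1 f2 with h1 | h1
  · left
    constructor
    · rw [← c2]
      exact (commutator_le_of_comm f1 f2 h1).trans inf_le_right
    · rw [← c1]
      exact (commutator_le_of_comm f2 f1 (fun t ht t' ht' => (h1 t' ht' t ht).symm)).trans inf_le_right
  · right
    rw [← c1, ← c2]
    exact (commutator_eq_of_comm' f1 f2 h1).symm

/-- `𝒥`: the set of all such components. -/
def IsAJ (A : Subgroup G) (J : Subgroup G) : Prop := ∃ a, AJ A a J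

omit [Finite G] in
theorem IsAJ.conj {n : G} {J : Subgroup G} (h : IsAJ A J) (hn : n ∈ normalizer (A : Set G)) :
    IsAJ A (cj n J) := by
  obtain ⟨a, ha⟩ := h
  exact ⟨_, ha.conj hn⟩

omit [Finite G] in
theorem cj_inf {n : G} {J : Subgroup G} (hn : n ∈ normalizer (A : Set G)) :
    cj n (A ⊓ J) = A ⊓ cj n J := by
  ext x
  rw [mem_cj, mem_inf, mem_inf, mem_cj]
  have h1 := (mem_normalizer_iff.1 (inv_mem hn) x)
  rw [inv_inv] at h1
  rw [← h1]

/-- `A` is generated by the `A ∩ J`. -/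
theorem iSup_eq (H : Hyps A) {J₀ : Subgroup G} (h₀ : IsAJ A J₀) :
    (⨆ J : {J : Subgroup G // IsAJ A J}, A ⊓ (J : Subgroup G)) = A := by
  apply H.g.irr
  · exact iSup_le fun J => inf_le_left
  · obtain ⟨a, ha⟩ := h₀
    obtain ⟨b, hb, hb1⟩ := ha.exists_ne H
    intro hbot
    have h1 : b ∈ (⨆ J : {J : Subgroup G // IsAJ A J}, A ⊓ (J : Subgroup G)) :=
      le_iSup (fun J : {J : Subgroup G // IsAJ A J} => A ⊓ (J : Subgroup G)) ⟨J₀, a, ha⟩ hb
    rw [hbot, mem_bot] at h1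
    exact hb1 h1
  · intro n hn x hx
    have h1 : (⨆ J : {J : Subgroup G // IsAJ A J}, A ⊓ (J : Subgroup G)) ≤
        (⨆ J : {J : Subgroup G // IsAJ A J}, A ⊓ (J : Subgroup G)).comap
          (MulAut.conj n).toMonoidHom := by
      apply iSup_le
      rintro ⟨J, hJ⟩
      rw [← map_le_iff_le_comap]
      change cj n (A ⊓ J) ≤ _
      rw [cj_inf hn]
      exact le_iSup (fun J : {J : Subgroup G // IsAJ A J} => A ⊓ (J : Subgroup G)) ⟨_, hJ.conj hn⟩
    exact h1 hx

/-- `C_A(J)` is generated by the other `A ∩ K`. -/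
theorem inf_centralizer_eq (H : Hyps A) {J : Subgroup G} (hJ : IsAJ A J) :
    A ⊓ centralizer (J : Set G) =
      ⨆ K : {K : Subgroup G // IsAJ A K ∧ A ⊓ K ≠ A ⊓ J}, A ⊓ (K : Subgroup G) := by
  set V := ⨆ K : {K : Subgroup G // IsAJ A K ∧ A ⊓ K ≠ A ⊓ J}, A ⊓ (K : Subgroup G) with hV
  obtain ⟨a, ha⟩ := hJ
  have hle : V ≤ A ⊓ centralizer (J : Set G) := by
    apply iSup_le
    rintro ⟨K, ⟨b, hK⟩, hne⟩
    refine le_inf inf_le_left ?_
    rcases ha.dich H hK with h1 | h1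
    · exact h1.1
    · exact absurd h1.symm hne
  apply le_antisymm _ hle
  intro x hx
  have h1 : (⨆ J : {J : Subgroup G // IsAJ A J}, A ⊓ (J : Subgroup G)) ≤ (A ⊓ J) ⊔ V := by
    apply iSup_le
    rintro ⟨K, hK⟩
    by_cases hKJ : A ⊓ K = A ⊓ J
    · change A ⊓ K ≤ _
      rw [hKJ]
      exact le_sup_left
    · exact le_trans (le_iSup (fun K : {K : Subgroup G // IsAJ A K ∧ A ⊓ K ≠ A ⊓ J} =>
        A ⊓ (K : Subgroup G)) ⟨K, hK, hKJ⟩) le_sup_right
  rw [iSup_eq H ⟨a, ha⟩] at h1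
  have hcomm : V ≤ normalizer ((A ⊓ J : Subgroup G) : Set G) := by
    refine hle.trans (inf_le_left.trans ?_)
    intro y hy
    apply mem_normalizer_of_forall
    rintro z ⟨hzA, hzJ⟩
    have e : y * z * y⁻¹ = z := by
      rw [H.g.comm y hy z hzA]; group
    rw [e]
    exact ⟨hzA, hzJ⟩
  have h2 := h1 hx.1
  rw [← SetLike.mem_coe, Subgroup.coe_mul_of_right_le_normalizer_left _ _ hcomm] at h2
  obtain ⟨b, hb, v, hv, rfl⟩ := h2
  have h3 : b ∈ centralizer (J : Set G) := by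
    have h5 : v ∈ centralizer (J : Set G) := (hle hv).2
    have h6 : b * v ∈ centralizer (J : Set G) := hx.2
    have h4 := mul_mem h6 (inv_mem h5)
    rwa [mul_inv_cancel_right] at h4
  have h4 := ha.ctr H hb.2 h3
  change b * v ∈ V
  rw [h4, one_mul]
  exact hv

/-- L-balance -/
theorem IsAJ.aj (H : Hyps A) {J : Subgroup G} (hJ : IsAJ A J) {v : G} (hv : v ∈ A)
    (hvJ : v ∈ centralizer (J : Set G)) (hv1 : v ≠ 1) : AJ A v J := by
  obtain ⟨a, ha⟩ := hJ
  have hJv : J ≤ Ce v := by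
    intro j hj
    rw [mem_centralizer_singleton_iff]
    exact mem_centralizer_iff.1 hvJ j hj
  refine ⟨hv, hv1, hJv, ?_, ha.nc⟩
  obtain ⟨S, hS1, hS2⟩ := H.exists_sylow hv hv1
  have haC : a ∈ Ce v := _root_.Cfsg.Agent.ThreePrime.Cov.le_centralizer H.g hv ha.mem
  have hle : J.subgroupOf (Ce v) ≤ centralizer ({(⟨a, haC⟩ : Ce v)} : Set (Ce v)) := by
    intro j hj
    rw [mem_centralizer_singleton_iff]
    exact Subtype.ext (mem_centralizer_singleton_iff.1 (ha.le hj))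
  apply LBal.lbalance (H.cov hv hv1).hyp hS1 hS2 (u := ⟨a, haC⟩) ha.mem hle
  -- `J` is a component of `C_{C_G(v)}(a)`
  set D : Subgroup (Ce v) := centralizer ({(⟨a, haC⟩ : Ce v)} : Set (Ce v)) with hD
  -- the embedding of `D` in `C_G(a)`
  let f : D →* Ce a :=
    { toFun := fun x => ⟨((x : Ce v) : G), by
        rw [mem_centralizer_singleton_iff]
        exact congrArg Subtype.val (mem_centralizer_singleton_iff.1 x.2)⟩
      map_one' := rfl
      map_mul' := fun _ _ => rfl }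
  have hf : Function.Injective f := by
    intro x y hxy
    apply Subtype.ext
    apply Subtype.ext
    exact congrArg (fun z : Ce a => (z : G)) hxy
  have h1 : ((J.subgroupOf (Ce a)).comap f).IsSubnormal := ha.comp.1.comap f
  have h2 : (J.subgroupOf (Ce a)).comap f = (J.subgroupOf (Ce v)).subgroupOf D := rfl
  rw [h2] at h1
  refine ⟨h1, ?_⟩
  have e1 : (J.subgroupOf (Ce v)).subgroupOf D ≃* J.subgroupOf (Ce v) := subgroupOfEquivOfLe hle
  have e2 : J.subgroupOf (Ce v) ≃* J := subgroupOfEquivOfLe hJv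
  have e3 : J.subgroupOf (Ce a) ≃* J := subgroupOfEquivOfLe ha.le
  exact isQuasisimple_of_mulEquiv ((e3.trans e2.symm).trans e1.symm) ha.comp.2

omit [Finite G] in
theorem AJ.le_centralizer {a : G} {J : Subgroup G} (h : AJ A a J) :
    a ∈ centralizer (J : Set G) := by
  rw [mem_centralizer_iff]
  intro j hj
  exact mem_centralizer_singleton_iff.1 (h.le hj)

/-- `J` is determined by `A ∩ J`. -/
theorem IsAJ.unique (H : Hyps A) {J K : Subgroup G} (hJ : IsAJ A J) (hK : IsAJ A K)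
    (hJK : A ⊓ J = A ⊓ K) : J = K := by
  by_contra hne
  have h1 := inf_centralizer_eq H hJ
  have h2 := inf_centralizer_eq H hK
  rw [← hJK, ← h1] at h2
  obtain ⟨a, ha⟩ := hJ
  have haK : a ∈ A ⊓ centralizer (K : Set G) := by
    rw [h2]
    exact ⟨ha.mem, ha.le_centralizer⟩
  have h3 := hK.aj H haK.1 haK.2 ha.ne
  have h4 := ha.comm h3 hne
  obtain ⟨b, hb, hb1⟩ := ha.exists_ne H
  have hbK : b ∈ A ⊓ K := hJK ▸ hb
  exact hb1 (ha.ctr H hb.2 (h4 hbK.2))

/-- generation of `C_G(a)` -/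
theorem exists_mul (H : Hyps A) {a : G} (ha : a ∈ A) (ha1 : a ≠ 1) {c : G} (hc : c ∈ Ce a) :
    ∃ k ∈ (⨆ J : {J : Subgroup G // AJ A a J}, (J : Subgroup G)), ∃ n ∈ normalizer (A : Set G),
      c = k * n := by
  obtain ⟨S, hS1, hS2⟩ := H.exists_sylow ha ha1
  obtain ⟨k, hk, n, hn, hkn⟩ := Generation.generation (H.cov ha ha1).hyp hS1 hS2 ⟨c, hc⟩
  refine ⟨k, ?_, n, ?_, congrArg Subtype.val hkn⟩
  · have h1 : (⨆ J : {J : Subgroup (Ce a) // IsComponent J ∧
        ¬ A.subgroupOf (Ce a) ≤ centralizer (J : Set (Ce a))}, (J : Subgroup (Ce a))) ≤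
        (⨆ J : {J : Subgroup G // AJ A a J}, (J : Subgroup G)).subgroupOf (Ce a) := by
      apply iSup_le
      rintro ⟨J, hJ, hJA⟩
      have e : (J.map (Ce a).subtype).subgroupOf (Ce a) = J := by
        rw [subgroupOf, comap_map_eq_self_of_injective (Ce a).subtype_injective]
      have h2 : AJ A a (J.map (Ce a).subtype) := by
        refine ⟨ha, ha1, map_subtype_le J, ?_, ?_⟩
        · rw [e]; exact hJ
        · intro h3
          apply hJA
          intro x hx
          rw [mem_centralizer_iff]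
          intro k hk
          exact Subtype.ext (mem_centralizer_iff.1 (h3 hx) k ⟨k, hk, rfl⟩)
      exact map_le_iff_le_comap.1
        (le_iSup (fun J : {J : Subgroup G // AJ A a J} => (J : Subgroup G)) ⟨_, h2⟩)
    exact h1 hk
  · apply mem_normalizer_of_forall
    intro x hx
    exact (mem_normalizer_iff.1 hn ⟨x, _root_.Cfsg.Agent.ThreePrime.Cov.le_centralizer H.g ha hx⟩).1 hx

end Cfsg.Agent.ThreePrime.TrivCore
end

-- part: ThreePrime/TrivCoreEnd
section
/-!
# The case of trivial cores: a proper subgroup containing all centralizers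
-/

set_option autoImplicit false
set_option linter.dupNamespace false

namespace Cfsg.Agent.ThreePrime.TrivCoreEnd

open Subgroup
open scoped commutatorElement
open Cfsg
open Cfsg.Agent.ThreePrime.Chain
open Cfsg.Agent.ThreePrime.GData
open Cfsg.Agent.ThreePrime.Comp
open Cfsg.Agent.ThreePrime.Cov
open Cfsg.Agent.ThreePrime.CovP
open Cfsg.Agent.ThreePrime.Signal
open Cfsg.Agent.ThreePrime.TrivCore

universe u

variable {G : Type u} [Group G] [Finite G] {A : Subgroup G}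

/-- `⟨J : J ∈ 𝒥⟩` -/
def NN (A : Subgroup G) : Subgroup G := ⨆ J : {J : Subgroup G // IsAJ A J}, (J : Subgroup G)

omit [Finite G] in
theorem le_NN {J : Subgroup G} (hJ : IsAJ A J) : J ≤ NN A :=
  le_iSup (fun J : {J : Subgroup G // IsAJ A J} => (J : Subgroup G)) ⟨J, hJ⟩

omit [Finite G] in
theorem NN_le {M : Subgroup G} (h : ∀ J, IsAJ A J → J ≤ M) : NN A ≤ M := by
  apply iSup_le
  rintro ⟨J, hJ⟩
  exact h J hJ

/-- `M = ⟨𝒥⟩ N_G(A)` contains all the centralizers. -/
theorem Ce_le_MM (H : Hyps A) {a : G} (ha : a ∈ A) (ha1 : a ≠ 1) :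
    Ce a ≤ NN A ⊔ normalizer (A : Set G) := by
  intro c hc
  obtain ⟨k, hk, n, hn, rfl⟩ := exists_mul H ha ha1 hc
  refine mul_mem (le_sup_left (b := normalizer (A : Set G)) ?_) (le_sup_right (a := NN A) hn)
  have h1 : (⨆ J : {J : Subgroup G // AJ A a J}, (J : Subgroup G)) ≤ NN A := by
    apply iSup_le
    rintro ⟨J, hJ⟩
    exact le_NN ⟨a, hJ⟩
  exact h1 hk

theorem normalizer_le_normalizer_NN : normalizer (A : Set G) ≤ normalizer (NN A : Set G) := by
  intro n hn
  apply mem_normalizer_of_forall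
  intro x hx
  have h1 : NN A ≤ (NN A).comap (MulAut.conj n).toMonoidHom := by
    apply NN_le
    intro J hJ
    rw [← map_le_iff_le_comap]
    exact le_NN (hJ.conj hn)
  exact h1 hx

/-- fixed points of 2-elements on `A`. -/
theorem exists_fixed (hG : GData A) {s : G} (hs : s ∈ normalizer (A : Set G))
    (hs2 : ∃ k : ℕ, s ^ 2 ^ k = 1) : ∃ u ∈ A, u ≠ 1 ∧ s * u * s⁻¹ = u := by
  have : Fact (Nat.Prime 2) := ⟨Nat.prime_two⟩
  obtain ⟨k, hk⟩ := hs2
  set φ : MulAut A := A.normalizerMonoidHom ⟨s, hs⟩ with hφ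
  have hφk : φ ^ 2 ^ k = 1 := by
    rw [hφ, ← map_pow]
    have : (⟨s, hs⟩ : normalizer (A : Set G)) ^ 2 ^ k = 1 := Subtype.ext hk
    rw [this, map_one]
  have hK : IsPGroup 2 (zpowers φ) := by
    rintro ⟨_, m, rfl⟩
    refine ⟨k, ?_⟩
    apply Subtype.ext
    change (φ ^ m) ^ 2 ^ k = 1
    rw [← zpow_natCast, ← zpow_mul, mul_comm, zpow_mul, zpow_natCast, hφk, one_zpow]
  have hdvd : 2 ∣ Nat.card A := by
    obtain ⟨n, hn⟩ := IsPGroup.iff_card.1 (isPGroup_of_sq hG.sq)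
    have h1 := hG.card
    rw [hn] at h1 ⊢
    rcases n with _ | n
    · simp at h1
    · exact dvd_pow_self 2 (Nat.succ_ne_zero n)
  obtain ⟨b, hb, hb1⟩ := hK.exists_fixed_point_of_prime_dvd_card_of_fixed_point (α := A)
    hdvd (a := 1) (by
      intro k
      exact map_one (k : MulAut A))
  refine ⟨b, b.2, fun h => hb1 (Subtype.ext h.symm), ?_⟩
  have h1 := hb ⟨φ, mem_zpowers φ⟩
  exact congrArg Subtype.val h1

/-- Two noncommuting components. -/
structure Pair (A J K : Subgroup G) : Prop where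
  hJ : IsAJ A J
  hK : IsAJ A K
  nc : ¬ K ≤ centralizer (J : Set G)

variable {J K : Subgroup G}

theorem Pair.all (H : Hyps A) (h : Pair A J K) (hne : J ≠ K) {L : Subgroup G} (hL : IsAJ A L) :
    L = J ∨ L = K := by
  by_contra hcon
  push Not at hcon
  obtain ⟨a, ha⟩ := h.hJ
  obtain ⟨b, hb⟩ := h.hK
  obtain ⟨c, hc⟩ := hL
  rcases ha.dich H hc with h1 | h1
  · rcases hb.dich H hc with h2 | h2
    · obtain ⟨v, hv, hv1⟩ := hc.exists_ne H
      have h3 := h.hJ.aj H hv.1 (h1.1 hv) hv1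
      have h4 := h.hK.aj H hv.1 (h2.1 hv) hv1
      exact h.nc (h3.comm h4 hne)
    · exact hcon.2 (IsAJ.unique H ⟨c, hc⟩ ⟨b, hb⟩ h2.symm)
  · exact hcon.1 (IsAJ.unique H ⟨c, hc⟩ ⟨a, ha⟩ h1.symm)

theorem Pair.le (H : Hyps A) (h : Pair A J K) (hne : J ≠ K) :
    A ⊓ K ≤ centralizer (J : Set G) ∧ A ⊓ J ≤ centralizer (K : Set G) := by
  obtain ⟨a, ha⟩ := h.hJ
  obtain ⟨b, hb⟩ := h.hK
  rcases ha.dich H hb with h1 | h1
  · exact h1
  · exact absurd (IsAJ.unique H ⟨a, ha⟩ ⟨b, hb⟩ h1) hne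

/-- `C_A(J) = A ∩ K`, `C_A(K) = A ∩ J`. -/
theorem Pair.inf_eq (H : Hyps A) (h : Pair A J K) (hne : J ≠ K) :
    A ⊓ centralizer (J : Set G) ≤ K ∧ A ⊓ centralizer (K : Set G) ≤ J := by
  rw [inf_centralizer_eq H h.hJ, inf_centralizer_eq H h.hK]
  constructor
  · apply iSup_le
    rintro ⟨L, hL, hLne⟩
    rcases h.all H hne hL with rfl | rfl
    · exact absurd rfl hLne
    · exact inf_le_right
  · apply iSup_le
    rintro ⟨L, hL, hLne⟩
    rcases h.all H hne hL with rfl | rfl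
    · exact inf_le_right
    · exact absurd rfl hLne

/-- elements of `N_G(A)` fix or swap `J` and `K`. -/
theorem Pair.swap (H : Hyps A) (h : Pair A J K) (hne : J ≠ K) {n : G}
    (hn : n ∈ normalizer (A : Set G)) :
    (cj n J = J ∧ cj n K = K) ∨ (cj n J = K ∧ cj n K = J) := by
  have h3 : cj n J ≠ cj n K := fun he => hne (cj_inj he)
  rcases h.all H hne (h.hJ.conj hn) with h1 | h1
  · rcases h.all H hne (h.hK.conj hn) with h2 | h2
    · exact absurd (h1.trans h2.symm) h3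
    · exact Or.inl ⟨h1, h2⟩
  · rcases h.all H hne (h.hK.conj hn) with h2 | h2
    · exact Or.inr ⟨h1, h2⟩
    · exact absurd (h1.trans h2.symm) h3

theorem Pair.exists_swap (H : Hyps A) (h : Pair A J K) (hne : J ≠ K) :
    ∃ n ∈ normalizer (A : Set G), n ∉ normalizer (J : Set G) := by
  by_contra hcon
  push Not at hcon
  obtain ⟨a, ha⟩ := h.hJ
  obtain ⟨b, hb⟩ := h.hK
  obtain ⟨v, hv, hv1⟩ := ha.exists_ne H
  have h1 : A ⊓ J = A := by
    apply H.g.irr _ inf_le_left
    · intro hbot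
      rw [hbot, mem_bot] at hv
      exact hv1 hv
    · rintro n hn x ⟨hxA, hxJ⟩
      exact ⟨(mem_normalizer_iff.1 hn x).1 hxA, (mem_normalizer_iff.1 (hcon n hn) x).1 hxJ⟩
  obtain ⟨w, hw, hw1⟩ := hb.exists_ne H
  have h2 : w ∈ A ⊓ J := by rw [h1]; exact hw.1
  exact hw1 (ha.ctr H h2.2 ((h.le H hne).1 hw))

/-- index 2 -/
theorem Pair.relIndex (H : Hyps A) (h : Pair A J K) (hne : J ≠ K) {Q : Subgroup G}
    (hQ : Q ≤ normalizer (A : Set G)) (hQJ : ¬ Q ≤ normalizer (J : Set G)) :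
    (Q ⊓ normalizer (J : Set G)).relIndex Q = 2 := by
  obtain ⟨a, haQ, haJ⟩ := Set.not_subset.1 hQJ
  rw [relIndex_eq_two_iff]
  refine ⟨a, haQ, ?_⟩
  intro b hb
  have hab : b * a ∈ Q := mul_mem hb haQ
  have hJa : cj a J = K ∧ cj a K = J := by
    rcases h.swap H hne (hQ haQ) with h1 | h1
    · exact absurd (cj_eq_iff.1 h1.1) haJ
    · exact h1
  rcases h.swap H hne (hQ hb) with h1 | h1
  · right
    refine ⟨⟨hb, cj_eq_iff.1 h1.1⟩, ?_⟩
    rintro ⟨-, h2⟩
    have h3 := cj_eq_iff.2 h2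
    rw [cj_mul, hJa.1, h1.2] at h3
    exact hne h3.symm
  · left
    refine ⟨⟨hab, cj_eq_iff.1 ?_⟩, ?_⟩
    · rw [cj_mul, hJa.1, h1.2]
    · rintro ⟨-, h2⟩
      have h3 := cj_eq_iff.2 h2
      rw [h1.1] at h3
      exact hne h3.symm

/-- There is no such pair, by transfer. -/
theorem Pair.false (H : Hyps A) (h : Pair A J K) (hne : J ≠ K)
    (hidx : ∀ N : Subgroup G, N.index ≠ 2) : False := by
  classical
  have : Fact (Nat.Prime 2) := ⟨Nat.prime_two⟩
  obtain ⟨S, hAS⟩ := (isPGroup_of_sq H.g.sq).exists_le_sylow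
  have hSA : (S : Subgroup G) ≤ normalizer (A : Set G) := by
    intro s hs
    apply mem_normalizer_of_forall
    intro x hx
    exact H.g.sc _ S.isPGroup' hAS x hx s (mul_mem (mul_mem hs (hAS hx)) (inv_mem hs))
  have hSJ : ¬ (S : Subgroup G) ≤ normalizer (J : Set G) := by
    intro hle
    have hNJ : ¬ normalizer (A : Set G) ≤ normalizer (J : Set G) := by
      obtain ⟨n, hn, hnJ⟩ := h.exists_swap H hne
      exact fun hc => hnJ (hc hn)
    have h1 := h.relIndex H hne le_rfl hNJ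
    have h2 : (S : Subgroup G) ≤ normalizer (A : Set G) ⊓ normalizer (J : Set G) := le_inf hSA hle
    have h3 := relIndex_mul_relIndex (S : Subgroup G) _ (normalizer (A : Set G)) h2 inf_le_left
    have h4 := relIndex_mul_index hSA
    apply S.not_dvd_index
    rw [← h4, ← h3, h1]
    exact (Dvd.intro_left _ rfl).mul_right _
  have hidx2 := h.relIndex H hne hSA hSJ
  set S₀ := (S : Subgroup G) ⊓ normalizer (J : Set G) with hS₀
  -- an element of least order
  obtain ⟨s, ⟨hsS, hsS₀⟩, hmin⟩ : ∃ s ∈ {s : G | s ∈ (S : Subgroup G) ∧ s ∉ S₀},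
      ∀ t ∈ {s : G | s ∈ (S : Subgroup G) ∧ s ∉ S₀}, orderOf s ≤ orderOf t := by
    obtain ⟨a, haS, haJ⟩ := Set.not_subset.1 hSJ
    apply Set.exists_min_image _ orderOf (Set.toFinite _)
    exact ⟨a, haS, fun hh => haJ hh.2⟩
  have hsJ : s ∉ normalizer (J : Set G) := fun hh => hsS₀ ⟨hsS, hh⟩
  obtain ⟨g, hg1, hg2⟩ := Transfer.exists_conj S inf_le_left hidx2 hidx hsS hsS₀
    (fun t ht ht₀ => hmin t ⟨ht, ht₀⟩)
  have hsw : cj s J = K ∧ cj s K = J := by
    rcases h.swap H hne (hSA hsS) with h1 | h1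
    · exact absurd (cj_eq_iff.1 h1.1) hsJ
    · exact h1
  obtain ⟨k, hk⟩ := S.isPGroup' ⟨s, hsS⟩
  have hk' : s ^ 2 ^ k = 1 := congrArg Subtype.val hk
  obtain ⟨u, huA, hu1, hsu⟩ := exists_fixed H.g (hSA hsS) ⟨k, hk'⟩
  -- `u` does not centralise `J`
  obtain ⟨a, ha⟩ := h.hJ
  obtain ⟨b, hb⟩ := h.hK
  have huJ : u ∉ centralizer (J : Set G) := by
    intro hc
    have h1 : u ∈ centralizer (K : Set G) := by
      rw [← hsw.1, ← cj_centralizer, mem_cj]
      have : s⁻¹ * u * s = u := by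
        calc s⁻¹ * u * s = s⁻¹ * (s * u * s⁻¹) * s := by rw [hsu]
          _ = u := by group
      rw [this]
      exact hc
    have h2 := (h.inf_eq H hne).2 ⟨huA, h1⟩
    exact hu1 (ha.ctr H h2 hc)
  have huK : u ∉ centralizer (K : Set G) := by
    intro hc
    apply huJ
    rw [← hsw.2, ← cj_centralizer, mem_cj]
    have : s⁻¹ * u * s = u := by
      calc s⁻¹ * u * s = s⁻¹ * (s * u * s⁻¹) * s := by rw [hsu]
        _ = u := by group
    rw [this]
    exact hc
  have hnone : ∀ L, ¬ AJ A u L := by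
    intro L hL
    rcases h.all H hne ⟨u, hL⟩ with rfl | rfl
    · exact huJ hL.le_centralizer
    · exact huK hL.le_centralizer
  have hCu : Ce u ≤ normalizer (A : Set G) := by
    intro c hc
    obtain ⟨k, hk, n, hn, rfl⟩ := exists_mul H huA hu1 hc
    have h1 : (⨆ J : {J : Subgroup G // AJ A u J}, (J : Subgroup G)) ≤ ⊥ := by
      apply iSup_le
      rintro ⟨L, hL⟩
      exact absurd hL (hnone L)
    have h2 := h1 hk
    rw [mem_bot] at h2
    rw [h2, one_mul]
    exact hn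
  -- `g` normalises `A`
  have hus : u * s = s * u := by
    calc u * s = (s * u * s⁻¹) * s := by rw [hsu]
      _ = s * u := by group
  have hguS := hg2 u (hAS huA) hus
  have hguA : g * u * g⁻¹ ∈ A := H.g.sc _ S.isPGroup' hAS u huA g hguS
  obtain ⟨n, hn, hng⟩ := H.g.ctrl u huA g hguA
  have hgn : n⁻¹ * g ∈ Ce u := by
    rw [mem_centralizer_singleton_iff]
    calc n⁻¹ * g * u = n⁻¹ * (g * u * g⁻¹) * g := by group
      _ = n⁻¹ * (n * u * n⁻¹) * g := by rw [hng]
      _ = u * (n⁻¹ * g) := by group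
  have hgA : g ∈ normalizer (A : Set G) := by
    have h1 := mul_mem hn (hCu hgn)
    rwa [mul_inv_cancel_left] at h1
  -- contradiction
  have h1 := cj_eq_iff.2 hg1.2
  have h2 : cj g (cj s (cj g⁻¹ J)) = J := by
    rw [← cj_mul, ← cj_mul]
    exact h1
  rcases h.swap H hne (inv_mem hgA) with h3 | h3
  · rw [h3.1, hsw.1] at h2
    have h4 := congrArg (cj g⁻¹) h2
    rw [cj_inv_cj, h3.1] at h4
    exact hne h4.symm
  · rw [h3.1, hsw.2] at h2
    have h4 := congrArg (cj g⁻¹) h2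
    rw [cj_inv_cj, h3.1] at h4
    exact hne h4

/-- The subgroup `M` is proper. -/
theorem MM_ne_top (H : Hyps A) [IsSimpleGroup G] (hidx : ∀ N : Subgroup G, N.index ≠ 2) :
    NN A ⊔ normalizer (A : Set G) ≠ ⊤ := by
  intro htop
  have hNn : (NN A).Normal := by
    rw [← normalizer_eq_top_iff]
    rw [eq_top_iff, ← htop]
    exact sup_le le_normalizer normalizer_le_normalizer_NN
  obtain ⟨a, haA, ha1⟩ : ∃ x ∈ A, x ≠ 1 := (bot_or_exists_ne_one A).resolve_left H.g.ne
  rcases IsSimpleGroup.eq_bot_or_eq_top_of_normal _ hNn with h1 | h1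
  · rw [h1, bot_sup_eq] at htop
    have hAn : A.Normal := normalizer_eq_top_iff.1 htop
    rcases IsSimpleGroup.eq_bot_or_eq_top_of_normal _ hAn with h2 | h2
    · exact H.g.ne h2
    · apply H.ce a haA ha1
      rw [eq_top_iff, ← h2]
      exact _root_.Cfsg.Agent.ThreePrime.Cov.le_centralizer H.g haA
  · by_cases hpair : ∃ J K : Subgroup G, J ≠ K ∧ Pair A J K
    · obtain ⟨J, K, hne, hp⟩ := hpair
      exact hp.false H hne hidx
    · push Not at hpair
      -- all the components commute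
      have hex : ∃ J, IsAJ A J := by
        by_contra hcon
        push Not at hcon
        have h2 : NN A ≤ ⊥ := NN_le fun J hJ => absurd hJ (hcon J)
        rw [h1] at h2
        have h3 : (⊤ : Subgroup G) = ⊥ := le_bot_iff.1 h2
        exact top_ne_bot h3
      obtain ⟨J, hJ⟩ := hex
      have hJn : J.Normal := by
        rw [← normalizer_eq_top_iff, eq_top_iff, ← h1]
        apply NN_le
        intro K hK
        by_cases hKJ : K = J
        · rw [hKJ]; exact le_normalizer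
        · have h2 : K ≤ centralizer (J : Set G) := by
            by_contra hc
            exact hpair J K (fun hh => hKJ hh.symm) ⟨hJ, hK, hc⟩
          exact h2.trans (centralizer_le_normalizer _)
      obtain ⟨b, hb⟩ := hJ
      rcases IsSimpleGroup.eq_bot_or_eq_top_of_normal _ hJn with h2 | h2
      · obtain ⟨v, hv, hv1⟩ := hb.exists_ne H
        have h3 := hv.2
        rw [h2] at h3
        exact hv1 (mem_bot.1 h3)
      · apply H.ce b hb.mem hb.ne
        rw [eq_top_iff, ← h2]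
        exact hb.le

end Cfsg.Agent.ThreePrime.TrivCoreEnd
end

-- part: ThreePrime/Proper
section
/-!
# A proper subgroup containing the centralizers of all the elements of `A`
-/

set_option autoImplicit false
set_option linter.dupNamespace false

namespace Cfsg.Agent.ThreePrime.Proper

open Subgroup
open Cfsg
open Cfsg.Agent.ThreePrime.GData
open Cfsg.Agent.ThreePrime.Cov
open Cfsg.Agent.ThreePrime.Signal
open Cfsg.Agent.ThreePrime.TrivCore
open Cfsg.Agent.ThreePrime.TrivCoreEnd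

universe u

variable {G : Type u} [Group G] [Finite G] {A : Subgroup G}

omit [Finite G] in
/-- a nonabelian simple group has no central elements. -/
theorem Ce_ne_top [IsSimpleGroup G] (hna : ∃ a b : G, a * b ≠ b * a) {a : G} (ha : a ≠ 1) :
    Ce a ≠ ⊤ := by
  intro htop
  have h2 : a ∈ center G := by
    rw [mem_center_iff]
    intro g
    have h3 : g ∈ Ce a := by rw [htop]; trivial
    exact mem_centralizer_singleton_iff.1 h3
  rcases IsSimpleGroup.eq_bot_or_eq_top_of_normal (center G) inferInstance with h5 | h5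
  · rw [h5, mem_bot] at h2
    exact ha h2
  · obtain ⟨x, y, hab⟩ := hna
    apply hab
    have h6 : y ∈ center G := by rw [h5]; trivial
    exact mem_center_iff.1 h6 x

omit [Finite G] in
/-- a nonabelian simple group has no subgroup of index 2. -/
theorem index_ne_two [IsSimpleGroup G] (hna : ∃ a b : G, a * b ≠ b * a) (N : Subgroup G) :
    N.index ≠ 2 := by
  intro h
  have hN : N.Normal := normal_of_index_eq_two h
  rcases IsSimpleGroup.eq_bot_or_eq_top_of_normal N hN with h5 | h5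
  · rw [h5, index_bot] at h
    obtain ⟨x, y, hab⟩ := hna
    have : Fact (Nat.Prime 2) := ⟨Nat.prime_two⟩
    have hc : IsCyclic G := isCyclic_of_prime_card h
    apply hab
    have := IsCyclic.isMulCommutative (α := G)
    exact this.is_comm.comm x y
  · rw [h5, index_top] at h
    omega

theorem exists_proper [IsSimpleGroup G] (hna : ∃ a b : G, a * b ≠ b * a) (heven : Even (Nat.card G))
    (hIH : IH G) (hG : GData A) (hW : ∃ W, Completion A W) :
    ∃ M : Subgroup G, M ≠ ⊤ ∧ ∀ a ∈ A, a ≠ 1 → Ce a ≤ M := by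
  have hce : ∀ a ∈ A, a ≠ 1 → Ce a ≠ ⊤ := fun a _ ha1 => Ce_ne_top hna ha1
  obtain ⟨W, hW⟩ := hW
  by_cases hW1 : W = ⊥
  · have hcore : ∀ a ∈ A, a ≠ 1 → oddCore (Ce a) = ⊥ := by
      intro a ha ha1
      have h1 := hW.inf a ha ha1
      rw [hW1, bot_inf_eq] at h1
      exact (map_eq_bot_iff_of_injective _ (Ce a).subtype_injective).1 h1.symm
    have H : Hyps A := ⟨hIH, hG, hce, hcore⟩
    exact ⟨_, MM_ne_top H (index_ne_two hna), fun a ha ha1 => Ce_le_MM H ha ha1⟩
  · refine ⟨normalizer (W : Set G), ?_, fun a ha ha1 => Ce_le hIH hG hW ha ha1 (hce a ha ha1)⟩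
    intro htop
    have hWn : W.Normal := normalizer_eq_top_iff.1 htop
    rcases IsSimpleGroup.eq_bot_or_eq_top_of_normal W hWn with h1 | h1
    · exact hW1 h1
    · apply hW.odd
      rw [h1, card_top]
      exact even_iff_two_dvd.1 heven

end Cfsg.Agent.ThreePrime.Proper
end

-- part: ThreePrime/Main
section
/-!
# Nonabelian simple groups of order prime to 3 are Suzuki groups
-/

set_option autoImplicit false

namespace Cfsg.Agent.ThreePrime.Main

open Subgroup
open Cfsg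
open Cfsg.Agent.ThreePrime.GData
open Cfsg.Agent.ThreePrime.Cov
open Cfsg.Agent.ThreePrime.Signal
open Cfsg.Agent.ThreePrime.CoreConj

universe u

theorem even_card {G : Type*} [Group G] [Finite G] [IsSimpleGroup G]
    (hna : ∃ a b : G, a * b ≠ b * a) : Even (Nat.card G) := by
  by_contra hodd
  rw [Nat.not_even_iff_odd] at hodd
  have hsol := Cfsg.Agent.S0205.result hodd
  obtain ⟨a, b, hab⟩ := hna
  exact hab (IsSimpleGroup.comm_iff_isSolvable.2 hsol a b)

/-- The solvable signalizer functor theorem gives the completion `W`. -/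
theorem exists_completion {G : Type u} [Group G] [Finite G] [IsSimpleGroup G]
    (hna : ∃ a b : G, a * b ≠ b * a) (hIH : IH G) {A : Subgroup G} (hG : GData A) :
    ∃ W, Completion A W := by
  obtain ⟨h1, h2, -⟩ := Cfsg.Agent.SignalizersComponents.SolFunctorTwo.solvable_signalizer_functor_two A hG.comm
    (fun a ha => by rw [pow_two]; exact hG.sq a ha) (by simpa only [_root_.Nat.reducePow] using hG.card)
    (fun a => centralizerPPrimeCore 2 a)
    (fun a _ _ => core_le 2 a)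
    (fun a _ _ => core_card 2 a)
    (fun a ha _ b hb x hx => (mem_normalizer_iff.1 (core_normalized 2 a
      (_root_.Cfsg.Agent.ThreePrime.Cov.le_centralizer hG ha hb)) x).1 hx)
    (fun a _ _ => by
      apply Cfsg.Agent.S0205.result
      rw [← Nat.not_even_iff_odd, even_iff_two_dvd]
      exact core_card 2 a)
    (fun a ha _ b hb hb1 => balance_G hIH hG ha hb (Proper.Ce_ne_top hna hb1))
  exact ⟨_, h1, rfl, h2⟩

/-- A nonabelian simple group of order prime to 3 all of whose smaller sections are known has a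
strongly embedded subgroup. -/
theorem exists_stronglyEmbedded {G : Type u} [Group G] [Finite G] [IsSimpleGroup G]
    (hna : ∃ a b : G, a * b ≠ b * a) (h3 : ¬ 3 ∣ Nat.card G) (hIH : IH G) :
    ∃ H : Subgroup G, IsStronglyEmbedded H := by
  have heven := even_card hna
  obtain ⟨A, hG⟩ := GDataExists.exists_gdata hna h3 heven
  obtain ⟨M, hM, hCM⟩ := Proper.exists_proper hna heven hIH hG (exists_completion hna hIH hG)
  obtain ⟨S, hAS⟩ := (isPGroup_of_sq hG.sq).exists_le_sylow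
  refine Cfsg.Agent.S1174.result S A hG.ne ⟨hAS, fun x hx g hg =>
    hG.sc _ S.isPGroup' hAS x hx g hg⟩ ?_
  intro htop
  apply hM
  rw [eq_top_iff, ← htop]
  apply iSup_le
  rintro ⟨t, ht, hord⟩
  apply hCM t ht
  rintro rfl
  rw [orderOf_one] at hord
  omega

/-- Induction on the order. -/
theorem isoSuzuki_aux (n : ℕ) : ∀ (G : Type u) [Group G] [Finite G] [IsSimpleGroup G],
    Nat.card G = n → (∃ a b : G, a * b ≠ b * a) → ¬ 3 ∣ Nat.card G → Cfsg.Lie.IsoSuzuki G := by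
  induction n using Nat.strong_induction_on with
  | _ n ih =>
    intro G _ _ _ hn hna h3
    have hIH : IH G := by
      intro K _ _ _ hK hK3 hcard
      exact ih (Nat.card K) (hn ▸ hcard) K rfl hK hK3
    obtain ⟨H, hH⟩ := exists_stronglyEmbedded hna h3 hIH
    rcases Cfsg.Agent.StrongEmb.Strong.result hna H hH with
      ⟨F, _, _, -, ⟨e⟩⟩ | h | ⟨F, _, _, m, hm, hF, ⟨e⟩⟩
    · exact absurd (by rw [Nat.card_congr e.toEquiv]; exact OrderThree.three_dvd_card_psl F) h3
    · exact h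
    · refine absurd ?_ h3
      rw [Nat.card_congr e.toEquiv]
      refine OrderThree.three_dvd_card_psu F (2 ^ m) hF ?_
      calc 2 = 2 ^ 1 := (pow_one 2).symm
        _ ≤ 2 ^ m := Nat.pow_le_pow_right (by norm_num) (by omega)

/-- **Theorem.** A nonabelian finite simple group of order prime to 3 is a Suzuki group. -/
theorem isoSuzuki {G : Type*} [Group G] [Finite G] [IsSimpleGroup G]
    (hna : ∃ a b : G, a * b ≠ b * a) (h3 : ¬ 3 ∣ Nat.card G) : Cfsg.Lie.IsoSuzuki G :=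
  isoSuzuki_aux _ G rfl hna h3

/-- Variant with `¬ IsMulCommutative G`. -/
theorem isoSuzuki' {G : Type*} [Group G] [Finite G] [IsSimpleGroup G]
    (hG : ¬ IsMulCommutative G) (h3 : ¬ 3 ∣ Nat.card G) : Cfsg.Lie.IsoSuzuki G := by
  refine isoSuzuki ?_ h3
  by_contra hcon
  push Not at hcon
  exact hG ⟨⟨hcon⟩⟩

end Cfsg.Agent.ThreePrime.Main
end

private theorem dce_9dbf7e9c4978 : _root_.True := by
  try have : _root_.True := by simp only [_root_.Cfsg.Agent.ThreePrime.Cov.Abar.eq_1]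
  try have : _root_.True := by simp only [_root_.Cfsg.Agent.ThreePrime.Generation.KA.eq_1]
  try have : _root_.True := by simp only [_root_.Cfsg.Agent.ThreePrime.CovP.TJ.eq_1]
  exact _root_.True.intro
end

-- part: H331/SCExc
section
prune_inst 0x1010650414221000000000000000002010000000000000000000000008010000000000000030010000c0008040400060034c0000420000000a000000000400000001000000100800200000000000000000000000000000000000000000000000000000000
set_option linter.all false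
open scoped Cfsg.Agent.FastGrp

/-!
# The Sylow 2-subgroups of `PSU(3, 2^n)` and of the Suzuki groups

`SL P`: the involutions of `P` are central, the centre has exponent 2 and more than one involution, `P` is not abelian.
-/

set_option autoImplicit false

namespace Cfsg.Agent.H331.SCExc

open Cfsg Subgroup

/-- The elementary properties of Suzuki 2-groups. -/
structure SL (P : Type*) [Group P] : Prop where
  inv : ∀ x : P, x * x = 1 → x ∈ center P
  exp : ∀ z ∈ center P, z * z = 1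
  nab : ∃ x y : P, x * y ≠ y * x
  two : ∃ x y : P, x ≠ y ∧ x ≠ 1 ∧ x * x = 1 ∧ y ≠ 1 ∧ y * y = 1

theorem SL.of_suzuki {P : Type*} [Group P] (h : IsSuzukiTwoGroup P) : SL P := by
  obtain ⟨h1, h2⟩ := Cfsg.Agent.S1137.result h
  refine ⟨fun x hx => ?_, h2, h.2.2.1, h.2.2.2.1⟩
  by_cases hx1 : x = 1
  · rw [hx1]; exact one_mem _
  · exact ((h1 x).1 ⟨hx1, hx⟩).1

theorem SL.congr {P Q : Type*} [Group P] [Group Q] (e : P ≃* Q) (h : SL P) : SL Q := by
  refine ⟨fun x hx => ?_, fun z hz => ?_, ?_, ?_⟩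
  · have h1 : e.symm x * e.symm x = 1 := by rw [← map_mul, hx, map_one]
    have h2 := h.inv _ h1
    rw [mem_center_iff] at h2 ⊢
    intro g
    have h3 := h2 (e.symm g)
    rw [← map_mul, ← map_mul] at h3
    exact e.symm.injective h3
  · have h1 : e.symm z ∈ center P := by
      rw [mem_center_iff] at hz ⊢
      intro g
      apply e.injective
      rw [map_mul, map_mul, e.apply_symm_apply]
      exact hz (e g)
    have h2 := h.exp _ h1
    rw [← map_mul] at h2
    exact e.symm.injective (by rw [h2, map_one])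
  · obtain ⟨x, y, hxy⟩ := h.nab
    exact ⟨e x, e y, fun h1 => hxy (e.injective (by rw [map_mul, map_mul, h1]))⟩
  · obtain ⟨x, y, h1, h2, h3, h4, h5⟩ := h.two
    exact ⟨e x, e y, fun h => h1 (e.injective h), fun h => h2 (e.injective (by rw [h, map_one])),
      by rw [← map_mul, h3, map_one], fun h => h4 (e.injective (by rw [h, map_one])),
      by rw [← map_mul, h5, map_one]⟩

section psu

theorem exists_pow {F : Type*} [Field F] [Fintype F] {q : ℕ} (hF : Fintype.card F = q ^ 2) (hq : Even q)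
    (h4 : 4 ≤ q) : ∃ n, 2 ≤ n ∧ q = 2 ^ n := by
  obtain ⟨p, hp⟩ := CharP.exists F
  obtain ⟨k, hpp, hk⟩ := FiniteField.card F p
  have h2 : 2 ∣ p ^ (k : ℕ) := by
    rw [← hk, hF]
    exact dvd_pow (even_iff_two_dvd.1 hq) two_ne_zero
  have h3 : p = 2 := ((Nat.prime_dvd_prime_iff_eq Nat.prime_two hpp).1 (Nat.prime_two.dvd_of_dvd_pow h2)).symm
  subst h3
  have h5 : q ∣ 2 ^ (k : ℕ) := by
    rw [← hk, hF]
    exact dvd_pow_self q two_ne_zero
  obtain ⟨n, -, hn⟩ := (Nat.dvd_prime_pow Nat.prime_two).1 h5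
  refine ⟨n, ?_, hn⟩
  by_contra hlt
  have h6 : n ≤ 1 := by omega
  have h7 : 2 ^ n ≤ 2 ^ 1 := Nat.pow_le_pow_right (by norm_num) h6
  omega

theorem sylow_psu {L : Type*} [Group L] [Finite L] {F : Type*} [Field F] [Fintype F] {q : ℕ}
    (hF : Fintype.card F = q ^ 2) (hq : Even q) (h4 : 4 ≤ q) (e : L ≃* Cfsg.PSU 3 F q) (P : Sylow 2 L) :
    SL (P : Subgroup L) := by
  have : Fact (Nat.Prime 2) := ⟨Nat.prime_two⟩
  obtain ⟨n, hn, rfl⟩ := exists_pow hF hq h4
  obtain ⟨-, -, h⟩ := Cfsg.Agent.S1141.result hn hF (P.mapSurjective (f := e.toMonoidHom) e.surjective)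
  have h1 := SL.of_suzuki h
  have e1 : (P : Subgroup L) ≃* ((P : Subgroup L).map e.toMonoidHom) := e.subgroupMap _
  exact SL.congr e1.symm h1

end psu

section suz

open Cfsg.Agent.ThreePrime

theorem of_rel {J : Type*} [Group J] {F : Type*} [Field F] (R : SzRel.Rel J F) {c : F} (hc0 : c ≠ 0)
    (hc1 : c ≠ 1) : SL R.T := by
  have hc : R.θ c ≠ c := fun h => (R.fix_theta h).elim hc0 hc1
  refine ⟨?_, ?_, ?_, ?_⟩
  · rintro ⟨_, a, b, rfl⟩ h
    have h1 : R.u a b * R.u a b = 1 := congrArg Subtype.val h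
    rw [R.u_sq_iff] at h1
    subst h1
    rw [mem_center_iff]
    rintro ⟨_, a', b', rfl⟩
    apply Subtype.ext
    show R.u a' b' * R.u 0 b = R.u 0 b * R.u a' b'
    rw [R.comm_iff, map_zero, mul_zero, zero_mul]
  · rintro ⟨_, a, b, rfl⟩ h
    rw [mem_center_iff] at h
    have h1 : R.u 1 0 * R.u a b = R.u a b * R.u 1 0 := congrArg Subtype.val (h ⟨_, R.u_mem 1 0⟩)
    have h2 : R.u c 0 * R.u a b = R.u a b * R.u c 0 := congrArg Subtype.val (h ⟨_, R.u_mem c 0⟩)
    rw [R.comm_iff, map_one, one_mul, mul_one] at h1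
    rw [R.comm_iff, h1] at h2
    have h3 : a = 0 := by
      by_contra ha
      exact hc (mul_right_cancel₀ ha (by rw [h2, mul_comm])).symm
    apply Subtype.ext
    show R.u a b * R.u a b = 1
    rw [R.u_sq_iff, h3]
  · refine ⟨⟨_, R.u_mem 1 0⟩, ⟨_, R.u_mem c 0⟩, fun h => ?_⟩
    have h1 : R.u 1 0 * R.u c 0 = R.u c 0 * R.u 1 0 := congrArg Subtype.val h
    rw [R.comm_iff, map_one, one_mul, mul_one] at h1
    exact hc h1
  · refine ⟨⟨_, R.u_mem 0 1⟩, ⟨_, R.u_mem 0 c⟩, fun h => ?_, fun h => ?_, ?_, fun h => ?_, ?_⟩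
    · exact hc1 (R.u_inj (congrArg Subtype.val h)).2.symm
    · exact R.u_ne_one one_ne_zero (congrArg Subtype.val h)
    · apply Subtype.ext
      show R.u 0 1 * R.u 0 1 = 1
      rw [R.u_sq_iff]
    · exact R.u_ne_one hc0 (congrArg Subtype.val h)
    · apply Subtype.ext
      show R.u 0 c * R.u 0 c = 1
      rw [R.u_sq_iff]

theorem sylow_isoSuzuki {L : Type*} [Group L] [Finite L] (h : Cfsg.Lie.IsoSuzuki L) (P : Sylow 2 L) :
    SL (P : Subgroup L) := by
  have : Fact (Nat.Prime 2) := ⟨Nat.prime_two⟩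
  obtain ⟨F, iF, iF', m, hm, hF, ⟨R⟩⟩ := SzRel.exists_rel h
  obtain ⟨P₀, hP₀⟩ := R.exists_sylow_eq hm hF
  obtain ⟨c, hc0, hc1⟩ : ∃ c : F, c ≠ 0 ∧ c ≠ 1 := by
    classical
    by_contra hcon
    push Not at hcon
    have h1 : (Finset.univ : Finset F) ⊆ {0, 1} := by
      intro x _
      by_cases h0 : x = 0
      · simp [h0]
      · simp [hcon x h0]
    have h2 := (Finset.card_le_card h1).trans Finset.card_le_two
    rw [Finset.card_univ, hF] at h2
    have h3 : 2 ^ 3 ≤ 2 ^ (2 * m + 1) := Nat.pow_le_pow_right (by norm_num) (by omega)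
    omega
  have h1 := of_rel R hc0 hc1
  rw [← hP₀] at h1
  exact h1.congr (Sylow.equiv P₀ P)

theorem isoSuzuki_of_isSuzuki {L : Type*} [Group L] [Finite L] (h : Cfsg.IsSuzuki L) : Cfsg.Lie.IsoSuzuki L := by
  obtain ⟨hs, m, hm, hc⟩ := h
  have h4 : 4 ∣ 2 ^ (2 * m + 1) := by
    rw [show 2 * m + 1 = 2 + (2 * m - 1) by omega, pow_add]
    exact Dvd.intro _ rfl
  have hmod : 2 ^ (2 * m + 1) % 3 = 2 := by
    rw [pow_succ, pow_mul]
    norm_num [Nat.mul_mod, Nat.pow_mod]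
  refine Cfsg.Agent.ThreePrime.Main.isoSuzuki ?_ ?_
  · by_contra hcon
    push Not at hcon
    let _ : CommGroup L := { (inferInstance : Group L) with mul_comm := hcon }
    have hp : (Nat.card L).Prime := IsSimpleGroup.prime_card
    rw [hc] at hp
    have h5 : 4 ∣ (2 ^ (2 * m + 1)) ^ 2 * ((2 ^ (2 * m + 1)) ^ 2 + 1) * (2 ^ (2 * m + 1) - 1) :=
      ((h4.trans (dvd_pow_self _ two_ne_zero)).mul_right _).mul_right _
    have h6 : 2 ∣ (2 ^ (2 * m + 1)) ^ 2 * ((2 ^ (2 * m + 1)) ^ 2 + 1) * (2 ^ (2 * m + 1) - 1) :=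
      (show 2 ∣ 4 by norm_num).trans h5
    rw [Nat.prime_dvd_prime_iff_eq Nat.prime_two hp] at h6
    rw [← h6] at h5
    norm_num at h5
  · rw [hc]
    have h1 : 1 ≤ 2 ^ (2 * m + 1) := Nat.one_le_two_pow
    obtain ⟨k, hk⟩ : ∃ k, 2 ^ (2 * m + 1) = 3 * k + 2 := ⟨2 ^ (2 * m + 1) / 3, by omega⟩
    rw [hk]
    intro h3
    have h5 : (3 * k + 2) ^ 2 * ((3 * k + 2) ^ 2 + 1) * (3 * k + 2 - 1) =
        3 * (81 * k ^ 5 + 243 * k ^ 4 + 297 * k ^ 3 + 183 * k ^ 2 + 56 * k + 6) + 2 := by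
      rw [show 3 * k + 2 - 1 = 3 * k + 1 by omega]
      ring
    rw [h5] at h3
    omega

theorem sylow_isSuzuki {L : Type*} [Group L] [Finite L] (h : Cfsg.IsSuzuki L) (P : Sylow 2 L) :
    SL (P : Subgroup L) := sylow_isoSuzuki (isoSuzuki_of_isSuzuki h) P

end suz

/-- The exceptional groups, as in S1252. -/
theorem sylow_exc {L : Type*} [Group L] [Finite L]
    (h : (∃ (F : Type) (_ : Field F) (_ : Fintype F) (q : ℕ), Fintype.card F = q ^ 2 ∧ Even q ∧ 4 ≤ q ∧
      Nonempty (L ≃* Cfsg.PSU 3 F q)) ∨ Cfsg.IsSuzuki L) (P : Sylow 2 L) : SL (P : Subgroup L) := by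
  rcases h with ⟨F, _, _, q, hF, hq, h4, ⟨e⟩⟩ | h
  · exact sylow_psu hF hq h4 e P
  · exact sylow_isSuzuki h P

/-! ### Cyclic subgroups of index 2 -/

/-- `P` has a cyclic subgroup of index at most 2. -/
def Cy (P : Type*) [Group P] : Prop := ∃ c : P, ∀ x y : P, x ∈ zpowers c ∨ y ∈ zpowers c ∨ x * y ∈ zpowers c

theorem SL.not_cy {P : Type*} [Group P] [Finite P] (h : SL P) : ¬ Cy P := by
  classical
  rintro ⟨c, hc⟩
  obtain ⟨x, y, hxy, hx1, hx, hy1, hy⟩ := h.two
  -- one of `x`, `y` is not a power of `c`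
  have key : ∃ z : P, z * z = 1 ∧ z ∉ zpowers c := by
    by_contra hcon
    push Not at hcon
    have hx' := hcon x hx
    have hy' := hcon y hy
    have : Fintype (zpowers c) := Fintype.ofFinite _
    have h1 := IsCyclic.card_pow_eq_one_le (α := zpowers c) (n := 2) (by norm_num)
    have h2 : ({1, ⟨x, hx'⟩, ⟨y, hy'⟩} : Finset (zpowers c)) ⊆ Finset.univ.filter fun a => a ^ 2 = 1 := by
      intro a ha
      rw [Finset.mem_filter]
      refine ⟨Finset.mem_univ _, ?_⟩
      rw [Finset.mem_insert, Finset.mem_insert, Finset.mem_singleton] at ha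
      rcases ha with rfl | rfl | rfl
      · exact one_pow 2
      · rw [pow_two]; exact Subtype.ext hx
      · rw [pow_two]; exact Subtype.ext hy
    have h3 := (Finset.card_le_card h2).trans h1
    rw [Finset.card_insert_of_notMem, Finset.card_pair] at h3
    · omega
    · intro h4; exact hxy (congrArg Subtype.val h4)
    · rw [Finset.mem_insert, Finset.mem_singleton]
      rintro (h4 | h4)
      · exact hx1 (congrArg Subtype.val h4).symm
      · exact hy1 (congrArg Subtype.val h4).symm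
  obtain ⟨z, hz, hzc⟩ := key
  have hzcen := h.inv z hz
  rw [mem_center_iff] at hzcen
  obtain ⟨a, b, hab⟩ := h.nab
  apply hab
  -- every element is `c ^ i` or `c ^ i * z`
  have hcomm : ∀ a ∈ zpowers c, ∀ b ∈ zpowers c, a * b = b * a := by
    intro a ha b hb
    obtain ⟨i, rfl⟩ := mem_zpowers_iff.1 ha
    obtain ⟨j, rfl⟩ := mem_zpowers_iff.1 hb
    rw [← zpow_add, ← zpow_add, add_comm]
  have hex : ∀ a : P, a ∈ zpowers c ∨ a * z ∈ zpowers c := by
    intro a
    rcases hc a z with h1 | h1 | h1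
    · exact Or.inl h1
    · exact absurd h1 hzc
    · exact Or.inr h1
  rcases hex a with ha | ha <;> rcases hex b with hb | hb
  · exact hcomm a ha b hb
  · have h1 := hcomm a ha _ hb
    have h2 := hzcen a
    have h3 : a * b * z = b * a * z := by
      rw [mul_assoc, h1, mul_assoc, ← h2, ← mul_assoc]
    exact mul_right_cancel h3
  · have h1 := hcomm _ ha b hb
    have h2 := hzcen b
    have h3 : a * b * z = b * a * z := by
      rw [mul_assoc, h2, ← mul_assoc, h1, ← mul_assoc]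
    exact mul_right_cancel h3
  · have h1 := hcomm _ ha _ hb
    have h2 := hzcen b
    have h3 := hzcen a
    have h4 : a * b * (z * z) = b * a * (z * z) := by
      calc a * b * (z * z) = a * (b * z) * z := by group
        _ = a * (z * b) * z := by rw [h2]
        _ = a * z * (b * z) := by group
        _ = b * z * (a * z) := h1
        _ = b * (z * a) * z := by group
        _ = b * (a * z) * z := by rw [h3]
        _ = b * a * (z * z) := by group
    rwa [hz, mul_one, mul_one] at h4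

/-- `Cy` passes to subgroups of quotients. -/
theorem Cy.map {P Q : Type*} [Group P] [Group Q] (f : P →* Q) (hf : Function.Surjective f) (h : Cy P) : Cy Q := by
  obtain ⟨c, hc⟩ := h
  have hm : ∀ x, x ∈ zpowers c → f x ∈ zpowers (f c) := by
    intro x hx
    obtain ⟨i, rfl⟩ := mem_zpowers_iff.1 hx
    exact mem_zpowers_iff.2 ⟨i, by rw [map_zpow]⟩
  refine ⟨f c, fun x y => ?_⟩
  obtain ⟨x, rfl⟩ := hf x
  obtain ⟨y, rfl⟩ := hf y
  rcases hc x y with h | h | h
  · exact Or.inl (hm _ h)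
  · exact Or.inr (Or.inl (hm _ h))
  · exact Or.inr (Or.inr (by rw [← map_mul]; exact hm _ h))

theorem Cy.of_injective {P Q : Type*} [Group P] [Group Q] (f : Q →* P) (hf : Function.Injective f) (h : Cy P) :
    Cy Q := by
  obtain ⟨c, hc⟩ := h
  -- the preimage of `⟨c⟩` is cyclic
  obtain ⟨d, hd⟩ : ∃ d : Q, (zpowers c).comap f = zpowers d := by
    have h1 : IsCyclic ((zpowers c).comap f) := by
      let g : (zpowers c).comap f →* zpowers c :=
        { toFun := fun x => ⟨f x, x.2⟩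
          map_one' := Subtype.ext (map_one f)
          map_mul' := fun x y => Subtype.ext (map_mul f _ _) }
      exact isCyclic_of_injective g fun x y hxy => Subtype.ext (hf (congrArg Subtype.val hxy))
    obtain ⟨⟨d, hd⟩, h2⟩ := h1.exists_generator
    refine ⟨d, le_antisymm (fun x hx => ?_) ?_⟩
    · obtain ⟨i, hi⟩ := mem_zpowers_iff.1 (h2 ⟨x, hx⟩)
      exact mem_zpowers_iff.2 ⟨i, by simpa using congrArg Subtype.val hi⟩
    · rw [zpowers_le]; exact hd
  have hm : ∀ x, f x ∈ zpowers c → x ∈ zpowers d := fun x hx => by rw [← hd]; exact hx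
  refine ⟨d, fun x y => ?_⟩
  rcases hc (f x) (f y) with h | h | h
  · exact Or.inl (hm _ h)
  · exact Or.inr (Or.inl (hm _ h))
  · exact Or.inr (Or.inr (hm _ (by rw [map_mul]; exact h)))

theorem cy_of_isCyclic {P : Type*} [Group P] (h : IsCyclic P) : Cy P := by
  obtain ⟨c, hc⟩ := h.exists_generator
  exact ⟨c, fun x _ => Or.inl (hc x)⟩

theorem cy_quaternion (n : ℕ) : Cy (QuaternionGroup n) := by
  refine ⟨QuaternionGroup.a 1, fun x y => ?_⟩
  have hm : ∀ i : ZMod (2 * n), QuaternionGroup.a i ∈ zpowers (QuaternionGroup.a (1 : ZMod (2 * n))) := by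
    intro i
    refine mem_zpowers_iff.2 ⟨i.cast, ?_⟩
    have h1 : ∀ k : ℕ, (QuaternionGroup.a (1 : ZMod (2 * n))) ^ k = QuaternionGroup.a (k : ZMod (2 * n)) :=
      fun k => QuaternionGroup.a_one_pow k
    obtain ⟨k, hk | hk⟩ := Int.eq_nat_or_neg (i.cast : ℤ)
    · have h2 : i = (k : ZMod (2 * n)) := by
        have h3 : ((i.cast : ℤ) : ZMod (2 * n)) = i := ZMod.intCast_zmod_cast i
        rw [← h3, hk]; push_cast; rfl
      rw [hk, zpow_natCast, h1, ← h2]
    · have h2 : i = -(k : ZMod (2 * n)) := by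
        have h3 : ((i.cast : ℤ) : ZMod (2 * n)) = i := ZMod.intCast_zmod_cast i
        rw [← h3, hk]; push_cast; rfl
      rw [hk, zpow_neg, zpow_natCast, h1, h2]
      rfl
  rcases x with i | i
  · exact Or.inl (hm i)
  · rcases y with j | j
    · exact Or.inr (Or.inl (hm j))
    · right; right
      rw [QuaternionGroup.xa_mul_xa]
      exact hm _

/-- A finite 2-group with at most one involution has a cyclic subgroup of index at most 2. -/
theorem cy_of_unique {P : Type*} [Group P] [Finite P] (hP : IsPGroup 2 P)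
    (hu : ∀ x y : P, x ≠ 1 → x * x = 1 → y ≠ 1 → y * y = 1 → x = y) : Cy P := by
  have : Fact (Nat.Prime 2) := ⟨Nat.prime_two⟩
  have hU : Cfsg.Agent.Solvable.UniqueOrderP.UniqueP 2 P := by
    intro x y hx1 hx hy
    by_cases hy1 : y = 1
    · rw [hy1]; exact one_mem _
    · rw [← hu x y hx1 (by rw [← pow_two, hx]) hy1 (by rw [← pow_two, hy])]
      exact mem_zpowers x
  rcases Cfsg.Agent.Solvable.UniqueOrderP.cyclic_or_quaternion hP hU with h | ⟨-, m, -, ⟨e⟩⟩
  · exact cy_of_isCyclic h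
  · exact (cy_quaternion _).of_injective e.toMonoidHom e.injective

end Cfsg.Agent.H331.SCExc
end
end
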