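import Cfsg.Agent.H331.BFSemi
import Cfsg.Prelude.Def_ChevWords
import Cfsg.Agent.H967.CopMat
import Cfsg.Prelude.Def_KGroupFacts
import Cfsg.Agent.H70.OutCount
import Cfsg.Agent.H79.FieldParam
import Cfsg.Agent.S1033
import Cfsg.Agent.FastGrp
import Cfsg.Agent.Prune
set_option linter.all false

section
prune_inst 0x7f00000000000000000000000000000000000000000000000000000000000000000000000000000000000000000000000000000000000000000000000000000000000000000000000000000000000000003fffffffffffffffffffffffffffbeffbdffffffff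

-- part: H71/BfTwist
section
set_option linter.all false
open scoped Cfsg.Agent.FastGrp

-- part: H71/BfTorus
section
/-!
# Bounds for groups of automorphisms with few fixed points: groups with a torus

(For S3291, tasks 220-224 of helper331.)

* `PolyOn S D f` : `f` is polynomial of degree at most `D` on `S`; `PolyMat` : the same for matrices;
* `PolyMat.wordMat` : the matrices of words in root elements of a Chevalley datum;
* `card_le` : the bound for `|S|`;
* `PolyMat.iter` : the powers of a semilinear automorphism.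
-/

set_option autoImplicit false
set_option linter.unusedSectionVars false

namespace Cfsg.Agent.H71.BfTorus

open Cfsg.Agent.H331.BF Polynomial

section poly

variable {K : Type*} [Field K]

/-- `f` is polynomial of degree at most `D` on `S`. -/
def PolyOn (S : Finset K) (D : ℕ) (f : K → K) : Prop := ∃ P : K[X], P.natDegree ≤ D ∧ ∀ s ∈ S, f s = P.eval s

variable {S : Finset K} {D D' : ℕ} {f g : K → K}

theorem PolyOn.mono (h : PolyOn S D f) (hD : D ≤ D') : PolyOn S D' f := by
  obtain ⟨P, hP, hP'⟩ := h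
  exact ⟨P, hP.trans hD, hP'⟩

theorem PolyOn.congr (h : PolyOn S D f) (hfg : ∀ s ∈ S, g s = f s) : PolyOn S D g := by
  obtain ⟨P, hP, hP'⟩ := h
  exact ⟨P, hP, fun s hs => (hfg s hs).trans (hP' s hs)⟩

theorem PolyOn.const (S : Finset K) (D : ℕ) (c : K) : PolyOn S D (fun _ => c) :=
  ⟨C c, by rw [natDegree_C]; exact Nat.zero_le _, fun s _ => by rw [eval_C]⟩

theorem PolyOn.id (hD : 1 ≤ D) : PolyOn S D (fun s => s) :=
  ⟨X, natDegree_X_le.trans hD, fun s _ => by rw [eval_X]⟩

theorem PolyOn.add (hf : PolyOn S D f) (hg : PolyOn S D g) : PolyOn S D (fun s => f s + g s) := by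
  obtain ⟨P, hP, hP'⟩ := hf
  obtain ⟨Q, hQ, hQ'⟩ := hg
  exact ⟨P + Q, (natDegree_add_le _ _).trans (max_le hP hQ), fun s hs => by
    show f s + g s = _
    rw [hP' s hs, hQ' s hs, eval_add]⟩

theorem PolyOn.mul (hf : PolyOn S D f) (hg : PolyOn S D' g) : PolyOn S (D + D') (fun s => f s * g s) := by
  obtain ⟨P, hP, hP'⟩ := hf
  obtain ⟨Q, hQ, hQ'⟩ := hg
  exact ⟨P * Q, natDegree_mul_le.trans (Nat.add_le_add hP hQ), fun s hs => by
    show f s * g s = _
    rw [hP' s hs, hQ' s hs, eval_mul]⟩

theorem PolyOn.smul (hf : PolyOn S D f) (c : K) : PolyOn S D (fun s => c * f s) := by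
  have := (PolyOn.const S 0 c).mul hf
  rwa [Nat.zero_add] at this

theorem PolyOn.mul_const (hf : PolyOn S D f) (c : K) : PolyOn S D (fun s => f s * c) := by
  have := hf.mul (PolyOn.const S 0 c)
  rwa [Nat.add_zero] at this

theorem PolyOn.neg (hf : PolyOn S D f) : PolyOn S D (fun s => - f s) :=
  (hf.smul (-1)).congr fun s _ => by rw [neg_one_mul]

theorem PolyOn.pow (hf : PolyOn S D f) (n : ℕ) : PolyOn S (n * D) (fun s => f s ^ n) := by
  obtain ⟨P, hP, hP'⟩ := hf
  exact ⟨P ^ n, natDegree_pow_le.trans (Nat.mul_le_mul_left _ hP), fun s hs => by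
    show f s ^ n = _
    rw [hP' s hs, eval_pow]⟩

theorem PolyOn.sum {ι : Type*} (t : Finset ι) {F : ι → K → K} (h : ∀ i ∈ t, PolyOn S D (F i)) :
    PolyOn S D (fun s => ∑ i ∈ t, F i s) := by
  classical
  induction t using Finset.induction_on with
  | empty => exact (PolyOn.const S D 0).congr fun s _ => by rw [Finset.sum_empty]
  | insert a t ha ih =>
    refine ((h a (Finset.mem_insert_self a t)).add
      (ih fun i hi => h i (Finset.mem_insert_of_mem hi))).congr fun s _ => ?_
    rw [Finset.sum_insert ha]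

theorem PolyOn.list_sum {ι : Type*} (l : List ι) {F : ι → K → K} (h : ∀ i ∈ l, PolyOn S D (F i)) :
    PolyOn S D (fun s => (l.map fun i => F i s).sum) := by
  induction l with
  | nil => exact (PolyOn.const S D 0).congr fun s _ => rfl
  | cons a l ih =>
    exact ((h a List.mem_cons_self).add (ih fun i hi => h i (List.mem_cons_of_mem _ hi))).congr fun s _ => by
      rw [List.map_cons, List.sum_cons]

variable {ι : Type*} [Fintype ι] [DecidableEq ι]

/-- the entries are polynomial on `S` -/
def PolyMat (S : Finset K) (D : ℕ) (M : K → Matrix ι ι K) : Prop := ∀ a b, PolyOn S D (fun s => M s a b)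

theorem PolyMat.mono {M : K → Matrix ι ι K} (h : PolyMat S D M) (hD : D ≤ D') : PolyMat S D' M :=
  fun a b => (h a b).mono hD

theorem PolyMat.congr {M N : K → Matrix ι ι K} (h : PolyMat S D M) (hN : ∀ s ∈ S, N s = M s) : PolyMat S D N :=
  fun a b => (h a b).congr fun s hs => by rw [hN s hs]

theorem PolyMat.const (S : Finset K) (D : ℕ) (M : Matrix ι ι K) : PolyMat S D (fun _ => M) :=
  fun a b => PolyOn.const S D (M a b)

theorem PolyMat.mul {M N : K → Matrix ι ι K} (h : PolyMat S D M) (h' : PolyMat S D' N) :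
    PolyMat S (D + D') (fun s => M s * N s) := fun a b =>
  (PolyOn.sum Finset.univ fun i _ => (h a i).mul (h' i b)).congr fun _ _ => Matrix.mul_apply

theorem PolyMat.const_mul {M : K → Matrix ι ι K} (h : PolyMat S D M) (A : Matrix ι ι K) :
    PolyMat S D (fun s => A * M s) := by
  have := (PolyMat.const S 0 A).mul h
  rwa [Nat.zero_add] at this

theorem PolyMat.mul_const {M : K → Matrix ι ι K} (h : PolyMat S D M) (A : Matrix ι ι K) :
    PolyMat S D (fun s => M s * A) := by
  have := h.mul (PolyMat.const S 0 A)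
  rwa [Nat.add_zero] at this

end poly

/-! ### Chevalley data -/

section chev

open Cfsg.Lie

/-- the exponents in the chain tables are bounded -/
theorem exists_bound (D : ChevalleyDatum) : ∃ c : ℕ, 2 ≤ c ∧ ∀ r s u : ℕ, ∀ km ∈ D.chainCoeff r s u, km.1 ≤ c := by
  let f : ℕ × Array (ℕ × ℤ) → ℕ := fun e => e.2.toList.length
  let g : Array (ℕ × Array (ℕ × ℤ)) → ℕ := fun a => (a.toList.map f).sum
  refine ⟨(D.chain.toList.map g).sum + 2, by omega, ?_⟩
  intro r s u km hkm
  unfold ChevalleyDatum.chainCoeff at hkm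
  rw [List.mem_flatMap] at hkm
  obtain ⟨e, he, hkm⟩ := hkm
  rw [List.mem_filter] at he
  rw [List.mem_map] at hkm
  obtain ⟨q, hq, rfl⟩ := hkm
  rw [List.mem_filter] at hq
  have h1 : q.2 < e.2.toList.length := by
    have := List.snd_lt_of_mem_zipIdx hq.1
    simpa using this
  have h2 : f e ≤ g (D.chain.getD r #[]) := List.single_le_sum (by simp) _ (List.mem_map_of_mem he.1)
  have h3 : D.chain.getD r #[] ∈ D.chain.toList ∨ D.chain.getD r #[] = #[] := by
    by_cases hr : r < D.chain.size
    · left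
      rw [Array.getD_eq_getD_getElem?, Array.getElem?_eq_getElem hr]
      simp
    · right
      rw [Array.getD_eq_getD_getElem?, Array.getElem?_eq_none (by omega)]
      rfl
  rcases h3 with h3 | h3
  · have h4 : g (D.chain.getD r #[]) ≤ (D.chain.toList.map g).sum := List.single_le_sum (by simp) _ (List.mem_map_of_mem h3)
    have h5 : f e = e.2.toList.length := rfl
    show q.2 + 1 ≤ _
    omega
  · rw [h3] at he
    exact absurd he.1 (by simp)

/-- the bound for the exponents -/
noncomputable def cB (D : ChevalleyDatum) : ℕ := (exists_bound D).choose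

theorem two_le_cB (D : ChevalleyDatum) : 2 ≤ cB D := (exists_bound D).choose_spec.1

theorem le_cB (D : ChevalleyDatum) {r s u : ℕ} {km : ℕ × ℤ} (h : km ∈ D.chainCoeff r s u) : km.1 ≤ cB D :=
  (exists_bound D).choose_spec.2 r s u km h

variable {K : Type*} [Field K] {S : Finset K} {d : ℕ} {f : K → K} (D : ChevalleyDatum)

theorem PolyMat.xMat (hf : PolyOn S d f) (r : Fin D.nroots) : PolyMat S (cB D * d) (fun s => D.xMat K r (f s)) := by
  have h2 := two_le_cB D
  have hd1 : d ≤ cB D * d := Nat.le_mul_of_pos_left _ (by omega)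
  have hd2 : 2 * d ≤ cB D * d := Nat.mul_le_mul_right _ h2
  intro a b
  unfold ChevalleyDatum.xMat
  simp only [Matrix.of_apply]
  rcases b with i | s
  · rcases a with i' | u
    · simp only
      split_ifs
      · exact PolyOn.const _ _ _
      · exact PolyOn.const _ _ _
    · simp only
      split_ifs
      · exact (hf.smul _).mono hd1
      · exact PolyOn.const _ _ _
  · simp only
    split_ifs
    · rcases a with i' | u
      · exact PolyOn.const _ _ _
      · simp only
        split_ifs
        · exact PolyOn.const _ _ _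
        · exact PolyOn.const _ _ _
    · rcases a with i' | u
      · exact (hf.smul _).mono hd1
      · simp only
        split_ifs
        · exact PolyOn.const _ _ _
        · exact ((hf.pow 2).neg).mono hd2
        · exact PolyOn.const _ _ _
    · rcases a with i' | u
      · exact PolyOn.const _ _ _
      · simp only
        refine PolyOn.add ?_ ?_
        · split_ifs
          · exact PolyOn.const _ _ _
          · exact PolyOn.const _ _ _
        · refine PolyOn.list_sum _ fun km hkm => ?_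
          exact ((hf.pow km.1).smul _).mono (Nat.mul_le_mul_right _ (le_cB D hkm))

theorem PolyMat.x (hf : PolyOn S d f) (r : ℕ) : PolyMat S (cB D * d) (fun s => D.x K r (f s)) := by
  unfold ChevalleyDatum.x
  split_ifs with h
  · exact PolyMat.xMat D hf ⟨r, h⟩
  · exact PolyMat.const _ _ _

theorem PolyMat.wordMat (L : List (ℕ × (K → K))) (hL : ∀ p ∈ L, PolyOn S d p.2) :
    PolyMat S (L.length * (cB D * d)) (fun s => D.wordMat K (L.map fun p => (p.1, p.2 s))) := by
  induction L with
  | nil => exact (PolyMat.const S _ 1).congr fun s _ => by simp [ChevalleyDatum.wordMat]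
  | cons a L ih =>
    refine (((PolyMat.x D (hL a List.mem_cons_self) a.1).mul
      (ih fun p hp => hL p (List.mem_cons_of_mem _ hp))).mono (le_of_eq ?_)).congr fun s _ => ?_
    · rw [List.length_cons]; ring
    · simp only [ChevalleyDatum.wordMat, List.map_cons, List.prod_cons]

end chev

/-! ### The bound -/

section bound

variable {T : Type*} [Group T] [Finite T] {K : Type*} [Field K] {ι : Type*} [Fintype ι] [DecidableEq ι]

theorem nm_fixed {α : MulAut T} {x : T} (h : α x = x) (n : ℕ) : Nm α n x = x ^ n := by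
  have h1 : ∀ j : ℕ, (α ^ j) x = x := by
    intro j
    induction j with
    | zero => rfl
    | succ j ih => rw [pow_succ, MulAut.mul_apply, h, ih]
  induction n with
  | zero => rw [Nm_zero, pow_zero]
  | succ n ih => rw [Nm_succ, ih, h1, pow_succ]

/-- few solutions of `s ^ n = 1` -/
theorem exists_unit {S : Finset K} {n : ℕ} (hn : 0 < n) (hS : n + 1 < S.card) : ∃ u : Kˣ, (u : K) ∈ S ∧ u ^ n ≠ 1 := by
  classical
  by_contra hcon
  push Not at hcon
  have h1 : S ⊆ insert 0 (Polynomial.nthRootsFinset n (1 : K)) := by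
    intro s hs
    rw [Finset.mem_insert]
    rcases eq_or_ne s 0 with h | h
    · exact Or.inl h
    · right
      rw [Polynomial.mem_nthRootsFinset hn]
      have h2 := hcon (Units.mk0 s h) hs
      have h3 := congrArg Units.val h2
      rwa [Units.val_pow_eq_pow_val, Units.val_mk0, Units.val_one] at h3
  have h2 : (Polynomial.nthRootsFinset n (1 : K)).card ≤ n := by
    rw [Polynomial.nthRootsFinset_def]
    exact (Multiset.toFinset_card_le _).trans (Polynomial.card_nthRoots n 1)
  have h3 := Finset.card_le_card h1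
  have h4 := Finset.card_insert_le (0 : K) (Polynomial.nthRootsFinset n (1 : K))
  omega

/-- **The bound for the number of parameters.** -/
theorem card_le (ρ : T →* Matrix ι ι K) (hρ : Function.Injective ρ) (hcen : ∀ g : T, MulAut.conj g = 1 → g = 1)
    {α : MulAut T} {n k D : ℕ} (hn : 0 < n) (hα : α ^ n = 1) (hk : Nat.card {x : T // α x = x} ≤ k)
    (S : Finset K) (h0 : (0 : K) ∈ S) {h : Kˣ →* T} (hh : Function.Injective h) {g : T} {α' : MulAut T}
    (hg : α = MulAut.conj g * α') (hα' : ∀ u : Kˣ, (u : K) ∈ S → α' (h u) = h u)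
    {I : Type*} (x : I → K → T) (hx0 : ∀ i, x i 0 = 1)
    (hgen : Subgroup.closure {g | ∃ i, ∃ s ∈ S, x i s = g} = ⊤)
    (hpoly : ∀ i, ∀ j < n, PolyMat S D (fun s => ρ ((α ^ j) (x i s)))) :
    S.card ≤ n + 1 + k * (((Fintype.card ι * Fintype.card ι) ^ n + 1) * (n * D)) := by
  by_cases hS : S.card ≤ n + 1
  · exact hS.trans (Nat.le_add_right _ _)
  · push Not at hS
    refine le_trans ?_ (Nat.le_add_left _ _)
    refine bound_faithful ρ hρ α hα hk S h0 x hx0 hgen (fun i j hj a b => hpoly i j hj a b) ?_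
    obtain ⟨u, hu, hun⟩ := exists_unit hn hS
    by_contra hcon
    push Not at hcon
    have h1 : ∀ g1 : T, (MulAut.conj g1 * α) ^ n = 1 := by
      intro g1
      rw [conj_mul_pow, hcon, map_one, hα, one_mul]
    have h2 : α' ^ n = 1 := by
      have := h1 g⁻¹
      rwa [hg, ← mul_assoc, ← map_mul, inv_mul_cancel, map_one, one_mul] at this
    have h3 : (MulAut.conj (h u) * α') ^ n = 1 := by
      have := h1 (h u * g⁻¹)
      rwa [hg, ← mul_assoc, ← map_mul, inv_mul_cancel_right] at this
    rw [conj_mul_pow, h2, mul_one, nm_fixed (hα' u hu), ← map_pow] at h3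
    apply hun
    apply hh
    rw [hcen _ h3, map_one]

/-- the powers of a semilinear automorphism are polynomial along the families -/
theorem PolyMat.iter {ρ : T →* Matrix ι ι K} {α : MulAut T} {σ : K ≃+* K} {A : Matrix ι ι K} (hA : IsUnit A)
    (hα : ∀ y, ρ (α y) * A = A * (ρ y).map σ) {S : Finset K} {D : ℕ} {I : Type*} {x : I → K → T}
    (hxσ : ∀ i, ∃ i', ∀ s ∈ S, (ρ (x i s)).map σ = ρ (x i' s))
    (hp : ∀ i, PolyMat S D (fun s => ρ (x i s))) (j : ℕ) (i : I) :
    PolyMat S D (fun s => ρ ((α ^ j) (x i s))) := by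
  have h1 : ∀ j : ℕ, ∃ B : Matrix ι ι K, IsUnit B ∧ SemiInd (MonoidHom.id T) ρ (σ ^ j) B (α ^ j) := by
    intro j
    induction j with
    | zero => exact ⟨1, isUnit_one, by rw [pow_zero, pow_zero]; exact SemiInd.one _ _⟩
    | succ j ih =>
      obtain ⟨B, hB, h⟩ := ih
      refine ⟨B * A.map (σ ^ j : K ≃+* K), hB.mul (isUnit_map hA), ?_⟩
      rw [pow_succ, pow_succ]
      exact h.mul fun y => ⟨α y, rfl, hα y⟩
  have h2 : ∀ (j : ℕ) (i : I), ∃ i', ∀ s ∈ S, (ρ (x i s)).map (σ ^ j : K ≃+* K) = ρ (x i' s) := by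
    intro j
    induction j with
    | zero =>
      intro i
      refine ⟨i, fun s _ => ?_⟩
      ext a b
      rfl
    | succ j ih =>
      intro i
      obtain ⟨i1, h⟩ := hxσ i
      obtain ⟨i2, h'⟩ := ih i1
      refine ⟨i2, fun s hs => ?_⟩
      rw [← h' s hs, ← h s hs]
      ext a b
      rfl
  obtain ⟨B, hB, h⟩ := h1 j
  obtain ⟨i', hi'⟩ := h2 j i
  have hBd : IsUnit B.det := (Matrix.isUnit_iff_isUnit_det B).mp hB
  refine (((hp i').const_mul B).mul_const B⁻¹).congr fun s hs => ?_
  obtain ⟨y, hy, hy'⟩ := h (x i s)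
  have hy1 : y = (α ^ j) (x i s) := hy
  rw [hy1, hi' s hs] at hy'
  rw [← hy', Matrix.mul_assoc, Matrix.mul_nonsing_inv B hBd, Matrix.mul_one]

end bound

end Cfsg.Agent.H71.BfTorus
end

-- part: H71/BfTwist
section
/-!
# The bound for groups over `F_{p^(2m+1)}` whose automorphisms are inner times field automorphisms

(For S3291, tasks 220-222 of helper331.)
-/

set_option autoImplicit false
set_option linter.unusedSectionVars false

namespace Cfsg.Agent.H71.BfTwist

open Cfsg.Agent.H331.BF Cfsg.Agent.H71.BfTorus Polynomial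

section field

variable {K : Type*} [Field K] [Finite K]

/-- The field fixed by an automorphism of `F_{p^(2m+1)}` has `p^(2e+1)` elements, and `s ^ (p ^ m) = s ^ (p ^ e)` on
it. -/
theorem exists_fix {p m : ℕ} (hp : p.Prime) (hK : Nat.card K = p ^ (2 * m + 1)) (σ : K ≃+* K) :
    ∃ e : ℕ, Nat.card {t : K // σ t = t} = p ^ (2 * e + 1) ∧ ∀ s : K, σ s = s → s ^ (p ^ m) = s ^ (p ^ e) := by
  have h1 := card_eq_fix_pow σ
  have hfin : Finite (K ≃+* K) := Finite.of_injective (fun f : K ≃+* K => (f : K → K)) DFunLike.coe_injective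
  have h0 : 0 < orderOf σ := orderOf_pos σ
  rw [hK] at h1
  obtain ⟨d, hd, hd'⟩ := (Nat.dvd_prime_pow hp).1 (h1 ▸ dvd_pow_self _ h0.ne' : Nat.card {t : K // σ t = t} ∣ p ^ (2 * m + 1))
  rw [hd', ← pow_mul] at h1
  have h2 : 2 * m + 1 = d * orderOf σ := Nat.pow_right_injective hp.two_le h1
  obtain ⟨e, he⟩ : Odd d := by
    have h3 : Odd (d * orderOf σ) := ⟨m, h2.symm⟩
    exact (Nat.odd_mul.1 h3).1
  obtain ⟨f, hf⟩ : Odd (orderOf σ) := by
    have h3 : Odd (d * orderOf σ) := ⟨m, h2.symm⟩
    exact (Nat.odd_mul.1 h3).2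
  have hm : m = d * f + e := by
    rw [hf, he] at h2
    rw [he]
    have : 2 * m = 2 * ((2 * e + 1) * f + e) := by
      have h4 : (2 * e + 1) * (2 * f + 1) = 2 * ((2 * e + 1) * f + e) + 1 := by ring
      omega
    omega
  refine ⟨e, by rw [hd', he], ?_⟩
  intro s hs
  have hs' : s ∈ Cfsg.Agent.H967.CopMat.Fx σ := hs
  have h5 : s ^ (p ^ d) = s := by
    have : Fintype ↥(Cfsg.Agent.H967.CopMat.Fx σ) := Fintype.ofFinite _
    have h6 := FiniteField.pow_card (⟨s, hs'⟩ : ↥(Cfsg.Agent.H967.CopMat.Fx σ))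
    have h7 : Fintype.card ↥(Cfsg.Agent.H967.CopMat.Fx σ) = p ^ d := by
      rw [← Nat.card_eq_fintype_card, ← hd']
      rfl
    rw [h7] at h6
    exact congrArg Subtype.val h6
  have h6 : ∀ f : ℕ, s ^ (p ^ (d * f)) = s := by
    intro f
    induction f with
    | zero => rw [Nat.mul_zero, pow_zero, pow_one]
    | succ f ih => rw [Nat.mul_succ, pow_add, pow_mul, ih, h5]
  rw [hm, pow_add, pow_mul, h6]

end field

theorem card_le_pow {T : Type*} [Group T] {K : Type*} [Field K] [Finite K] {ι : Type*} [Fintype ι]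
    [DecidableEq ι] (ρ : T →* Matrix ι ι K) (hρ : Function.Injective ρ) :
    Nat.card T ≤ (Nat.card K) ^ (Fintype.card ι * Fintype.card ι) := by
  have : Finite (Matrix ι ι K) := inferInstanceAs (Finite (ι → ι → K))
  refine (Nat.card_le_card_of_injective ρ hρ).trans (le_of_eq ?_)
  have h1 : Nat.card (Matrix ι ι K) = Nat.card (ι → ι → K) := rfl
  rw [h1, Nat.card_pi, Finset.prod_const, Nat.card_pi, Finset.prod_const, Finset.card_univ, ← pow_mul]

/-- the constant -/
def bd (p c N n k : ℕ) : ℕ := ((p * (n + 1 + k * (((N * N) ^ n + 1) * (n * c))) ^ 2) ^ n) ^ (N * N)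

/-- **The bound.** -/
theorem bdd {p m c n k : ℕ} (hp : p.Prime) (hn : 0 < n) {K : Type*} [Field K] [Finite K]
    (hK : Nat.card K = p ^ (2 * m + 1)) {T : Type*} [Group T] {ι : Type*} [Fintype ι] [DecidableEq ι]
    (ρ : T →* Matrix ι ι K) (hρ : Function.Injective ρ) (hcen : ∀ g : T, MulAut.conj g = 1 → g = 1)
    (Φ : (K ≃+* K) →* MulAut T) (hΦρ : ∀ τ y, ρ (Φ τ y) = (ρ y).map τ)
    (haut : ∀ α : MulAut T, ∃ g τ, α = MulAut.conj g * Φ τ) (hinn : ∀ τ g, Φ τ = MulAut.conj g → τ = 1)
    {h : Kˣ →* T} (hh : Function.Injective h) (hΦh : ∀ (τ : K ≃+* K) u, Φ τ (h u) = h (Units.map (τ : K →* K) u))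
    {I : Type*} (x : I → K → T) (hx0 : ∀ i, x i 0 = 1) (hgen : Subgroup.closure {g | ∃ i, x i 1 = g} = ⊤)
    (hxσ : ∀ (σ : K ≃+* K) i, ∃ i', ∀ s, σ s = s → Φ σ (x i s) = x i' s)
    (hpoly : ∀ (S : Finset K) (e : ℕ), (∀ s ∈ S, s ^ (p ^ m) = s ^ (p ^ e)) →
      ∀ i, PolyMat S (c * p ^ (e + 1)) (fun s => ρ (x i s))) :
    Bdd n k (bd p c (Fintype.card ι) n k) T := by
  classical
  intro α hα hk
  have : Finite (Matrix ι ι K) := inferInstanceAs (Finite (ι → ι → K))
  have : Finite T := Finite.of_injective ρ hρ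
  have : Fintype K := Fintype.ofFinite K
  obtain ⟨g, τ, hg⟩ := haut α
  have hρg : IsUnit (ρ g) := ⟨⟨ρ g, ρ g⁻¹, by rw [← map_mul, mul_inv_cancel, map_one],
    by rw [← map_mul, inv_mul_cancel, map_one]⟩, rfl⟩
  -- `τ ^ n = 1`
  have hτ : τ ^ n = 1 := by
    refine hinn _ (Nm (Φ τ) n g)⁻¹ ?_
    rw [hg, conj_mul_pow] at hα
    rw [map_pow, map_inv]
    exact eq_inv_of_mul_eq_one_right hα
  obtain ⟨e, he, hpe⟩ := exists_fix hp hK τ
  set S : Finset K := Finset.univ.filter fun t => τ t = t with hS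
  have hSc : S.card = p ^ (2 * e + 1) := by
    rw [← he, Nat.card_eq_fintype_card, Fintype.card_subtype]
  have hmem : ∀ s, s ∈ S ↔ τ s = s := fun s => by rw [hS, Finset.mem_filter]; simp
  have h1 : S.card ≤ n + 1 + k * (((Fintype.card ι * Fintype.card ι) ^ n + 1) * (n * (c * p ^ (e + 1)))) := by
    refine card_le ρ hρ hcen hn hα hk S ((hmem 0).2 (map_zero τ)) hh hg ?_ x hx0 ?_ ?_
    · intro u hu
      rw [hΦh]
      congr 1
      exact Units.ext ((hmem _).1 hu)
    · rw [eq_top_iff, ← hgen]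
      refine Subgroup.closure_mono ?_
      rintro g ⟨i, rfl⟩
      exact ⟨i, 1, (hmem 1).2 (map_one τ), rfl⟩
    · intro i j _
      refine PolyMat.iter hρg (σ := τ) ?_ ?_ (hpoly S e fun s hs => hpe s ((hmem s).1 hs)) j i
      · intro y
        rw [hg, MulAut.mul_apply, MulAut.conj_apply, map_mul, Matrix.mul_assoc, ← map_mul ρ g⁻¹ g, inv_mul_cancel,
          map_one, Matrix.mul_one, map_mul, hΦρ]
      · intro i
        obtain ⟨i', hi'⟩ := hxσ τ i
        refine ⟨i', fun s hs => ?_⟩
        rw [← hΦρ, hi' s ((hmem s).1 hs)]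
  set E := n + 1 + k * (((Fintype.card ι * Fintype.card ι) ^ n + 1) * (n * c)) with hE
  have h2 : p ^ (2 * e + 1) ≤ E * p ^ (e + 1) := by
    rw [← hSc]
    refine h1.trans ?_
    have h3 : 1 ≤ p ^ (e + 1) := Nat.one_le_pow _ _ hp.pos
    calc n + 1 + k * (((Fintype.card ι * Fintype.card ι) ^ n + 1) * (n * (c * p ^ (e + 1))))
        ≤ (n + 1) * p ^ (e + 1) + k * (((Fintype.card ι * Fintype.card ι) ^ n + 1) * (n * (c * p ^ (e + 1)))) :=
          Nat.add_le_add_right (Nat.le_mul_of_pos_right _ h3) _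
      _ = E * p ^ (e + 1) := by rw [hE]; ring
  have h3 : p ^ e ≤ E := by
    have h4 : p ^ (2 * e + 1) = p ^ e * p ^ (e + 1) := by rw [← pow_add]; congr 1; omega
    rw [h4] at h2
    exact Nat.le_of_mul_le_mul_right h2 (Nat.pow_pos hp.pos)
  have h4 : S.card ≤ p * E ^ 2 := by
    rw [hSc, pow_succ, mul_comm 2 e, pow_mul, mul_comm]
    exact Nat.mul_le_mul_left _ (Nat.pow_le_pow_left h3 2)
  have h5 : Nat.card K ≤ (p * E ^ 2) ^ n := by
    refine (card_le_fix_pow τ hn hτ).trans (Nat.pow_le_pow_left ?_ _)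
    rwa [he, ← hSc]
  exact (card_le_pow ρ hρ).trans (Nat.pow_le_pow_left h5 _)

/-- if all automorphisms are inner times field automorphisms and `|Out T| = |Aut K|`, no field automorphism is inner -/
theorem inn_of_card {T : Type*} [Group T] {K : Type*} [Field K] [Finite K] (Φ : (K ≃+* K) →* MulAut T)
    (haut : ∀ α : MulAut T, ∃ g τ, α = MulAut.conj g * Φ τ)
    (hOut : Nat.card (Cfsg.Out T) = Nat.card (K ≃+* K)) (τ : K ≃+* K) (g : T) (h : Φ τ = MulAut.conj g) : τ = 1 := by
  let f : (K ≃+* K) →* Cfsg.Out T := (QuotientGroup.mk' (Cfsg.Inn T)).comp Φ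
  have hs : Function.Surjective f := by
    intro x
    obtain ⟨ψ, rfl⟩ := QuotientGroup.mk'_surjective _ x
    obtain ⟨g, σ, rfl⟩ := haut ψ
    refine ⟨σ, ?_⟩
    have h1 : QuotientGroup.mk' (Cfsg.Inn T) (MulAut.conj g) = 1 :=
      (QuotientGroup.eq_one_iff _).2 ⟨g, rfl⟩
    rw [map_mul, h1, one_mul]
    rfl
  have hfin : Finite (K ≃+* K) := Finite.of_injective (fun f : K ≃+* K => (f : K → K)) DFunLike.coe_injective
  have hfO : Finite (Cfsg.Out T) := Finite.of_surjective f hs
  have hinj : Function.Injective f := ((Nat.bijective_iff_surjective_and_card f).2 ⟨hs, hOut.symm⟩).1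
  apply hinj
  rw [map_one]
  show QuotientGroup.mk' (Cfsg.Inn T) (Φ τ) = 1
  rw [h]
  exact (QuotientGroup.eq_one_iff _).2 ⟨g, rfl⟩

end Cfsg.Agent.H71.BfTwist
end

private theorem dce_db711c0a0890 : _root_.True := by
  try have : _root_.True := by simp only [_root_.Cfsg.Lie.ChevalleyDatum.wordMat.eq_1]
  exact _root_.True.intro
end

-- part: H331/BFChev
section
set_option linter.all false
open scoped Cfsg.Agent.FastGrp

/-!
# Bounds for groups of automorphisms with few fixed points: the Chevalley groups (seven tabulated types)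

`bdd_chev` : for `n > 0` and `k` there is a bound `B` such that every finite Chevalley group of one of the seven
tabulated types having an automorphism `α` with `α ^ n = 1` and at most `k` fixed points has order at most `B`.
-/

set_option autoImplicit false
set_option linter.unusedSectionVars false

namespace Cfsg.Agent.H331.BF.Chev

open scoped Pointwise
open Cfsg Cfsg.Lie Cfsg.Agent.ChevalleyStructure Cfsg.Agent.ChevalleyStructure.Elts
  Cfsg.Agent.H70.ChevFix Cfsg.Agent.H70.ChevField Cfsg.Agent.H70.OutCount Cfsg.Agent.Schreier.ChevLocal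
  Cfsg.Agent.H70.PermFix
open Cfsg.Agent.H331.BF Cfsg.Agent.H71.BfTorus Cfsg.Agent.H71.BfTwist

universe u

section Val

variable {D : ChevalleyDatum} (hD : InList D) {F : Type u} [Field F]

/-- The values of an automorphism permuting the fundamental root subgroups. -/
structure Val (φ : MulAut ↥(D.group F)) (π : Equiv.Perm (Fin D.rank)) (c : Fin D.rank → F)
    (σ : Fin D.rank → (F ≃+* F)) : Prop where
  nz : ∀ i, c i ≠ 0
  pos : ∀ (i : Fin D.rank) (t : F), φ (xe hD (D.simple i) t) = xe hD (D.simple (π i)) (c i * σ i t)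
  neg : ∀ (i : Fin D.rank) (t : F), φ (xe hD (D.neg (D.simple i)) t) =
    xe hD (D.neg (D.simple (π i))) ((c i)⁻¹ * σ i t)

variable {hD}

theorem Val.mul {φ φ' : MulAut ↥(D.group F)} {π π' : Equiv.Perm (Fin D.rank)} {c c' : Fin D.rank → F}
    {σ σ' : Fin D.rank → (F ≃+* F)} (h : Val hD φ π c σ) (h' : Val hD φ' π' c' σ') :
    Val hD (φ * φ') (π * π') (fun i => c (π' i) * σ (π' i) (c' i)) (fun i => (σ' i).trans (σ (π' i))) where
  nz i := mul_ne_zero (h.nz _) (by rw [Ne, EmbeddingLike.map_eq_zero_iff]; exact h'.nz i)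
  pos i t := by
    rw [MulAut.mul_apply, h'.pos, h.pos, map_mul, mul_assoc]; rfl
  neg i t := by
    rw [MulAut.mul_apply, h'.neg, h.neg, map_mul, map_inv₀, mul_inv, mul_assoc]; rfl

theorem Val.one : Val hD (1 : MulAut ↥(D.group F)) 1 (fun _ => 1) (fun _ => RingEquiv.refl F) where
  nz _ := one_ne_zero
  pos i t := by rw [MulAut.one_apply, one_mul]; rfl
  neg i t := by rw [MulAut.one_apply, inv_one, one_mul]; rfl

/-- The powers, if there is only one field automorphism. -/
theorem Val.pow {φ : MulAut ↥(D.group F)} {π : Equiv.Perm (Fin D.rank)} {c : Fin D.rank → F} {τ : RingAut F}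
    (h : Val hD φ π c (fun _ => τ)) (n : ℕ) : ∃ c', Val hD (φ ^ n) (π ^ n) c' (fun _ => τ ^ n) := by
  induction n with
  | zero => rw [pow_zero, pow_zero, pow_zero]; exact ⟨_, Val.one⟩
  | succ n ih =>
    obtain ⟨c', h'⟩ := ih
    rw [pow_succ, pow_succ, pow_succ]
    exact ⟨_, h'.mul h⟩

theorem Val.perm {φ : MulAut ↥(D.group F)} {π : Equiv.Perm (Fin D.rank)} {c : Fin D.rank → F}
    {σ : Fin D.rank → (F ≃+* F)} (h : Val hD φ π c σ) : Perm D F φ π := by
  have key : ∀ (r r' : ℕ) (d : F) (τ : F ≃+* F), d ≠ 0 → (∀ t : F, φ (xe hD r t) = xe hD r' (d * τ t)) →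
      φ • XX D F r = XX D F r' := by
    intro r r' d τ hd h
    ext g
    rw [Subgroup.mem_pointwise_smul_iff_inv_smul_mem, mem_XX hD, mem_XX hD]
    constructor
    · rintro ⟨t, ht⟩
      refine ⟨d * τ t, ?_⟩
      rw [← h t, ← ht]
      exact (smul_inv_smul φ g).symm
    · rintro ⟨t, ht⟩
      refine ⟨τ.symm (d⁻¹ * t), ?_⟩
      rw [ht]
      have h3 : xe hD r' t = φ (xe hD r (τ.symm (d⁻¹ * t))) := by
        rw [h, RingEquiv.apply_symm_apply, ← mul_assoc, mul_inv_cancel₀ hd, one_mul]
      rw [h3]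
      exact inv_smul_smul φ _
  exact ⟨fun i => key _ _ _ (σ i) (h.nz i) (h.pos i), fun i => key _ _ _ (σ i) (inv_ne_zero (h.nz i)) (h.neg i)⟩

/-- If a power is inner then the same power of the field automorphism is trivial. -/
theorem Val.tau_pow [Finite F] {φ : MulAut ↥(D.group F)} {π : Equiv.Perm (Fin D.rank)} {c : Fin D.rank → F}
    {τ : RingAut F} (h : Val hD φ π c (fun _ => τ)) {n : ℕ} {y : ↥(D.group F)} (hy : φ ^ n = MulAut.conj y) :
    τ ^ n = 1 := by
  obtain ⟨c', h'⟩ := h.pow n
  have hP := h'.perm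
  rw [hy] at hP
  have hyH : y ∈ HH D F := by
    rw [← normalizer_inf hD, Subgroup.mem_inf, H70.AutFix.mem_normalizer_iff_smul, H70.AutFix.mem_normalizer_iff_smul]
    exact ⟨Perm.smul_UU hD hP, Perm.smul_VN hD hP⟩
  have hrank : 0 < D.rank := (RootComb.good_of_mem hD).rank_pos
  have hP1 : Perm D F (MulAut.conj y) 1 :=
    ⟨fun i => conj_XX hD hyH (S1042.simple_lt hD i.2), fun i => conj_XX hD hyH (neg_simple_lt hD i.2)⟩
  have hπ : π ^ n = 1 := Perm.unique hD hP hP1
  let i : Fin D.rank := ⟨0, hrank⟩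
  obtain ⟨d, hd0, hd⟩ := BNChev.diagonal_conj hD (F := F) (h := (y : GL D.Idx F)) hyH (S1042.simple_lt hD i.2)
  have hd' : ∀ t : F, MulAut.conj y (xe hD (D.simple i) t) = xe hD (D.simple i) (d * t) := fun t => Subtype.ext (hd t)
  have h1 : ∀ t : F, c' i * (τ ^ n) t = d * t := fun t => by
    apply xe_inj hD (S1042.simple_lt hD i.2)
    rw [← hd', ← hy, h'.pos, hπ]
    rfl
  have h2 : c' i = d := by
    have := h1 1
    rwa [map_one, mul_one, mul_one] at this
  ext t
  have h3 := h1 t
  rw [h2] at h3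
  exact mul_left_cancel₀ hd0 h3

end Val

/-! ### The torus -/

section Torus

variable {D : ChevalleyDatum} (hD : InList D) {F : Type u} [Field F]

theorem mat_he (i : Fin D.rank) {t : F} (ht : t ≠ 0) :
    (((he hD (D.simple i) t : ↥(D.group F)) : GL D.Idx F) : Matrix D.Idx D.Idx F) =
      Matrix.diagonal (Sum.elim (fun _ => (1 : F)) (fun s : Fin D.nroots => t ^ (D.cartan i s))) := by
  rw [coe_he, coe_hG]
  exact S1033.result D hD i i.2 t ht

theorem he_mul (i : Fin D.rank) {s t : F} (hs : s ≠ 0) (ht : t ≠ 0) :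
    he hD (D.simple i) (s * t) = he hD (D.simple i) s * he hD (D.simple i) t := by
  apply Subtype.ext
  apply Units.ext
  rw [Subgroup.coe_mul, Units.val_mul, mat_he hD i hs, mat_he hD i ht, mat_he hD i (mul_ne_zero hs ht),
    Matrix.diagonal_mul_diagonal]
  congr 1
  funext c
  rcases c with c | c
  · simp
  · simp [mul_zpow]

theorem he_one (i : Fin D.rank) : he hD (D.simple i) (1 : F) = 1 := by
  have h := he_mul hD i (one_ne_zero (α := F)) one_ne_zero
  rw [mul_one] at h
  exact (mul_eq_left.1 h.symm)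

theorem he_comm (i j : Fin D.rank) {s t : F} (hs : s ≠ 0) (ht : t ≠ 0) :
    he hD (D.simple i) s * he hD (D.simple j) t = he hD (D.simple j) t * he hD (D.simple i) s := by
  apply Subtype.ext
  apply Units.ext
  rw [Subgroup.coe_mul, Units.val_mul, Subgroup.coe_mul, Units.val_mul, mat_he hD i hs, mat_he hD j ht,
    Matrix.diagonal_mul_diagonal, Matrix.diagonal_mul_diagonal]
  congr 1
  funext c
  exact mul_comm _ _

/-- `h_i` as a homomorphism. -/
def hHom (i : Fin D.rank) : Fˣ →* ↥(D.group F) where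
  toFun u := he hD (D.simple i) (u : F)
  map_one' := he_one hD i
  map_mul' u v := he_mul hD i u.ne_zero v.ne_zero

theorem hHom_comm : Pairwise fun i j : Fin D.rank => ∀ x y : Fˣ, Commute (hHom (F := F) hD i x) (hHom hD j y) :=
  fun i j _ u v => he_comm hD i j u.ne_zero v.ne_zero

/-- The torus as a homomorphism. -/
noncomputable def torus (F : Type u) [Field F] : (Fin D.rank → Fˣ) →* ↥(D.group F) :=
  MonoidHom.noncommPiCoprod (hHom (F := F) hD) (hHom_comm hD)

theorem torus_mulSingle (i : Fin D.rank) (u : Fˣ) : torus hD F (Pi.mulSingle i u) = he hD (D.simple i) (u : F) := by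
  unfold torus
  rw [MonoidHom.noncommPiCoprod_mulSingle]
  rfl

theorem torus_conj {s : ℕ} (hs : s < D.nroots) (v : Fin D.rank → Fˣ) (t : F) :
    torus hD F v * xe hD s t * (torus hD F v)⁻¹ = xe hD s (((∏ i, v i ^ D.cartan i s : Fˣ) : F) * t) := by
  revert t
  refine Pi.mulSingle_induction (fun v : Fin D.rank → Fˣ => ∀ t : F,
    torus hD F v * xe hD s t * (torus hD F v)⁻¹ = xe hD s (((∏ i, v i ^ D.cartan i s : Fˣ) : F) * t)) v ?_ ?_ ?_
  · intro t
    simp only [_root_.map_one, _root_.one_mul, _root_.inv_one, _root_.mul_one, _root_.Pi.one_apply, _root_.one_zpow, _root_.Finset.prod_const_one, _root_.Units.val_one]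
  · intro v w hv hw t
    rw [map_mul, mul_inv_rev]
    have h1 : torus hD F v * torus hD F w * xe hD s t * ((torus hD F w)⁻¹ * (torus hD F v)⁻¹) =
        torus hD F v * (torus hD F w * xe hD s t * (torus hD F w)⁻¹) * (torus hD F v)⁻¹ := by group
    rw [h1, hw, hv, ← mul_assoc, ← Units.val_mul, ← Finset.prod_mul_distrib]
    congr 4
    funext i
    rw [Pi.mul_apply, mul_zpow]
  · intro i u t
    rw [torus_mulSingle, he_conj hD i.2 hs u.ne_zero]
    congr 2
    rw [Finset.prod_eq_single i]
    · rw [Pi.mulSingle_eq_same, Units.val_zpow_eq_zpow_val]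
    · intro j _ hj
      rw [Pi.mulSingle_eq_of_ne hj, one_zpow]
    · intro h
      exact absurd (Finset.mem_univ i) h

variable {hD}

theorem Val.map_ne {φ : MulAut ↥(D.group F)} {π : Equiv.Perm (Fin D.rank)} {c : Fin D.rank → F}
    {σ : Fin D.rank → (F ≃+* F)} (h : Val hD φ π c σ) (i : Fin D.rank) (t : F) :
    φ (ne hD (D.simple i) t) = ne hD (D.simple (π i)) (c i * σ i t) := by
  rw [ne_def, ne_def, map_mul, map_mul, h.pos, h.neg, map_neg, map_inv₀, mul_inv, mul_neg]

theorem Val.map_he {φ : MulAut ↥(D.group F)} {π : Equiv.Perm (Fin D.rank)} {c : Fin D.rank → F}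
    {σ : Fin D.rank → (F ≃+* F)} (h : Val hD φ π c σ) (i : Fin D.rank) {t : F} (ht : t ≠ 0) :
    φ (he hD (D.simple i) t) = he hD (D.simple (π i)) (σ i t) := by
  have ht' : σ i t ≠ 0 := by rwa [Ne, EmbeddingLike.map_eq_zero_iff]
  rw [he_eq, map_mul, map_inv, h.map_ne, h.map_ne, map_one, mul_one, ne_eq hD _ (c i * σ i t), ne_eq hD _ (c i),
    mul_inv_rev, mul_comm (c i), he_mul hD _ ht' (h.nz i)]
  group

theorem Val.map_torus {φ : MulAut ↥(D.group F)} {π : Equiv.Perm (Fin D.rank)} {c : Fin D.rank → F}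
    {σ : Fin D.rank → (F ≃+* F)} (h : Val hD φ π c σ) (v w : Fin D.rank → Fˣ)
    (hvw : ∀ i, w (π i) = Units.map (σ i : F →* F) (v i)) : φ (torus hD F v) = torus hD F w := by
  revert w
  refine Pi.mulSingle_induction (fun v : Fin D.rank → Fˣ => ∀ w : Fin D.rank → Fˣ,
    (∀ i, w (π i) = Units.map (σ i : F →* F) (v i)) → φ (torus hD F v) = torus hD F w) v ?_ ?_ ?_
  · intro w hw
    have h1 : w = 1 := by
      funext j
      obtain ⟨i, rfl⟩ := π.surjective j
      rw [hw, Pi.one_apply, map_one, Pi.one_apply]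
    rw [h1, map_one, map_one]
  · intro v v' hv hv' w hw
    let a : Fin D.rank → Fˣ := fun j => Units.map (σ (π.symm j) : F →* F) (v (π.symm j))
    let b : Fin D.rank → Fˣ := fun j => Units.map (σ (π.symm j) : F →* F) (v' (π.symm j))
    have ha : ∀ i, a (π i) = Units.map (σ i : F →* F) (v i) := fun i => by
      simp only [a]
      rw [Equiv.symm_apply_apply]
    have hb : ∀ i, b (π i) = Units.map (σ i : F →* F) (v' i) := fun i => by
      simp only [b]
      rw [Equiv.symm_apply_apply]
    have h1 : w = a * b := by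
      funext j
      obtain ⟨i, rfl⟩ := π.surjective j
      rw [hw, Pi.mul_apply, map_mul, Pi.mul_apply, ha, hb]
    rw [h1, map_mul, map_mul, map_mul, hv a ha, hv' b hb]
  · intro i u w hw
    have h1 : w = Pi.mulSingle (π i) (Units.map (σ i : F →* F) u) := by
      funext j
      obtain ⟨i', rfl⟩ := π.surjective j
      rw [hw]
      by_cases hi : i' = i
      · rw [hi, Pi.mulSingle_eq_same, Pi.mulSingle_eq_same]
      · rw [Pi.mulSingle_eq_of_ne hi, Pi.mulSingle_eq_of_ne (fun e => hi (π.injective e)), map_one]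
    rw [h1, torus_mulSingle, torus_mulSingle, h.map_he i u.ne_zero]
    rfl

end Torus

/-! ### The number of parameters -/

section bound

variable {D : ChevalleyDatum} (hD : InList D) {F : Type u} [Field F]

/-- the faithful representation -/
def rep (D : ChevalleyDatum) (F : Type u) [Field F] : ↥(D.group F) →* Matrix D.Idx D.Idx F :=
  (Units.coeHom _).comp (D.group F).subtype

theorem rep_injective (D : ChevalleyDatum) (F : Type u) [Field F] : Function.Injective (rep D F) := by
  intro g h hgh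
  exact Subtype.ext (Units.ext hgh)

theorem rep_xe (r : ℕ) (t : F) : rep D F (xe hD r t) = D.x F r t := rfl

/-- there is a root `s` with `⟨s, p_i⟩ = 1` for one `i` and `0` for the others -/
def HasPrim (D : ChevalleyDatum) (i s : ℕ) : Prop :=
  i < D.rank ∧ s < D.nroots ∧ ∀ j < D.rank, D.cartan j s = if j = i then 1 else 0

instance decHasPrim (D : ChevalleyDatum) (i s : ℕ) : Decidable (HasPrim D i s) :=
  inferInstanceAs (Decidable (_ ∧ _ ∧ _))

theorem exists_prim (hD : InList D) : ∃ i s, HasPrim D i s := by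
  simp only [InList, List.mem_cons, List.not_mem_nil, or_false] at hD
  rcases hD with rfl | rfl | rfl | rfl | rfl | rfl | rfl
  · exact ⟨0, 9, by decide +kernel⟩
  · exact ⟨1, 6, by decide +kernel⟩
  · exact ⟨1, 23, by decide +kernel⟩
  · exact ⟨0, 44, by decide +kernel⟩
  · exact ⟨1, 71, by decide +kernel⟩
  · exact ⟨0, 125, by decide +kernel⟩
  · exact ⟨7, 239, by decide +kernel⟩

variable {hD}

/-- The powers along the families. -/
theorem Val.pow_apply {φ : MulAut ↥(D.group F)} {π : Equiv.Perm (Fin D.rank)} {c : Fin D.rank → F}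
    {σ : Fin D.rank → (F ≃+* F)} (h : Val hD φ π c σ) {S : Finset F} {E : Fin D.rank → Fin D.rank → ℕ}
    (hE1 : ∀ i, E i i = 1) (hE : ∀ i i', ∀ s ∈ S, σ i' (s ^ E i i') = s ^ E i (π i')) (j : ℕ) (i : Fin D.rank)
    (a : F) :
    (∃ a' : F, ∀ s ∈ S, (φ ^ j) (xe hD (D.simple i) (a * s)) =
      xe hD (D.simple ((π ^ j) i)) (a' * s ^ E i ((π ^ j) i))) ∧
    ∃ a' : F, ∀ s ∈ S, (φ ^ j) (xe hD (D.neg (D.simple i)) (a * s)) =
      xe hD (D.neg (D.simple ((π ^ j) i))) (a' * s ^ E i ((π ^ j) i)) := by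
  induction j with
  | zero =>
    refine ⟨⟨a, fun s _ => ?_⟩, ⟨a, fun s _ => ?_⟩⟩
    · rw [pow_zero, pow_zero, MulAut.one_apply, Equiv.Perm.one_apply, hE1, pow_one]
    · rw [pow_zero, pow_zero, MulAut.one_apply, Equiv.Perm.one_apply, hE1, pow_one]
  | succ j ih =>
    obtain ⟨⟨a1, h1⟩, ⟨a2, h2⟩⟩ := ih
    have hπ : (π ^ (j + 1)) i = π ((π ^ j) i) := by rw [pow_succ', Equiv.Perm.mul_apply]
    refine ⟨⟨c ((π ^ j) i) * σ ((π ^ j) i) a1, fun s hs => ?_⟩, ⟨(c ((π ^ j) i))⁻¹ * σ ((π ^ j) i) a2, fun s hs => ?_⟩⟩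
    · rw [pow_succ', MulAut.mul_apply, h1 s hs, h.pos, map_mul, hE i _ s hs, hπ, mul_assoc]
    · rw [pow_succ', MulAut.mul_apply, h2 s hs, h.neg, map_mul, hE i _ s hs, hπ, mul_assoc]

/-- **The bound for the number of parameters.** -/
theorem card_S_le [Finite F] {α φ : MulAut ↥(D.group F)} {x : ↥(D.group F)} (hα : α = MulAut.conj x * φ)
    {π : Equiv.Perm (Fin D.rank)} {c : Fin D.rank → F} {σ : Fin D.rank → (F ≃+* F)} (h : Val hD φ π c σ)
    {n k : ℕ} (hn : 0 < n) (hαn : α ^ n = 1) (hk : Nat.card {y : ↥(D.group F) // α y = y} ≤ k)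
    (S : Finset F) (h0 : (0 : F) ∈ S) (h1 : (1 : F) ∈ S) {E : Fin D.rank → Fin D.rank → ℕ} {M : ℕ}
    (hE1 : ∀ i, E i i = 1) (hE : ∀ i i', ∀ s ∈ S, σ i' (s ^ E i i') = s ^ E i (π i')) (hM : ∀ i i', E i i' ≤ M)
    (ψ : Fin D.rank → (Fˣ →* Fˣ)) (hψ : ∀ i, Function.Injective (ψ i))
    (hψσ : ∀ i, ∀ u : Fˣ, (u : F) ∈ S → Units.map (σ i : F →* F) (ψ i u) = ψ (π i) u) :
    S.card ≤ n + 1 + k * (((Fintype.card D.Idx * Fintype.card D.Idx) ^ n + 1) * (n * (cB D * M))) := by
  classical
  have hfin : Finite ↥(D.group F) := Finite.of_injective _ (rep_injective D F)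
  let h' : Fˣ →* ↥(D.group F) := (torus hD F).comp (MonoidHom.pi ψ)
  let xx : Fin D.rank × Bool × F → F → ↥(D.group F) := fun i s =>
    xe hD (if i.2.1 then D.simple i.1 else D.neg (D.simple i.1)) (i.2.2 * s)
  refine card_le (rep D F) (rep_injective D F) ?_ hn hαn hk S h0 (h := h') ?_ hα ?_ xx ?_ ?_ ?_
  · intro g hg
    exact _root_.Cfsg.Agent.H70.OutCount.conj_injective hD (hg.trans (map_one _).symm)
  · -- injectivity
    rw [injective_iff_map_eq_one]
    intro u hu
    obtain ⟨i, s, hi, hs, his⟩ := exists_prim hD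
    have h2 := torus_conj hD hs (MonoidHom.pi ψ u) (1 : F)
    have h3 : torus hD F (MonoidHom.pi ψ u) = 1 := hu
    rw [h3, inv_one, one_mul, mul_one, mul_one] at h2
    have h4 := xe_inj hD hs h2
    have h5 : (∏ j : Fin D.rank, (MonoidHom.pi ψ u) j ^ D.cartan j s : Fˣ) = ψ ⟨i, hi⟩ u := by
      rw [Finset.prod_eq_single ⟨i, hi⟩]
      · rw [his _ hi, if_pos rfl, zpow_one]
        rfl
      · intro j _ hj
        rw [his _ j.2, if_neg (fun e => hj (Fin.ext e)), zpow_zero]
      · intro h
        exact absurd (Finset.mem_univ _) h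
    rw [h5] at h4
    apply hψ ⟨i, hi⟩
    rw [map_one]
    exact Units.ext h4.symm
  · intro u hu
    exact h.map_torus (MonoidHom.pi ψ u) (MonoidHom.pi ψ u) fun i => (hψσ i u hu).symm
  · intro i
    show xe hD _ (i.2.2 * 0) = 1
    rw [mul_zero, xe_zero]
  · apply H79.SimpleGen.eq_top_of_simple hD
    · intro i hi t
      refine Subgroup.subset_closure ⟨(⟨i, hi⟩, true, t), 1, h1, ?_⟩
      show xe hD _ (t * 1) = _
      rw [mul_one]
      rfl
    · intro i hi t
      refine Subgroup.subset_closure ⟨(⟨i, hi⟩, false, t), 1, h1, ?_⟩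
      show xe hD _ (t * 1) = _
      rw [mul_one]
      rfl
  · rintro ⟨i, b, a⟩ j _
    have hpow : α ^ j = MulAut.conj (Nm φ j x) * φ ^ j := by
      rw [hα, conj_mul_pow]
    obtain ⟨⟨a1, h3⟩, ⟨a2, h4⟩⟩ := h.pow_apply hE1 hE j i a
    have hp : ∀ a' : F, PolyOn S M (fun s => a' * s ^ E i ((π ^ j) i)) := fun a' => by
      refine PolyOn.smul ?_ a'
      have := (PolyOn.id (S := S) (le_refl 1)).pow (E i ((π ^ j) i))
      rw [mul_one] at this
      exact this.mono (hM _ _)
    have key : ∀ (r : ℕ) (f : F → F), PolyOn S M f →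
        (∀ s ∈ S, (φ ^ j) (xx (i, b, a) s) = xe hD r (f s)) →
        PolyMat S (cB D * M) (fun s => rep D F ((α ^ j) (xx (i, b, a) s))) := by
      intro r f hf hr
      refine (((PolyMat.x D hf r).const_mul (rep D F (Nm φ j x))).mul_const (rep D F (Nm φ j x)⁻¹)).congr ?_
      intro s hs
      rw [hpow, MulAut.mul_apply, MulAut.conj_apply, hr s hs, map_mul, map_mul, rep_xe]
    cases b
    · exact key _ _ (hp a2) h4
    · exact key _ _ (hp a1) h3

end bound

/-! ### The fields -/

section fields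

variable {F : Type u} [Field F] [Finite F] {p : ℕ} [Fact p.Prime] [CharP F p]

omit [Finite F] in
/-- an automorphism of a finite field of characteristic `p` is a power of the Frobenius -/
theorem exists_frob [Finite F] (τ : F ≃+* F) : ∃ j : ℕ, ∀ x : F, τ x = x ^ p ^ j := by
  let _ : Algebra (ZMod p) F := ZMod.algebra F p
  have hcomm : (τ : F →+* F).comp (algebraMap (ZMod p) F) = algebraMap (ZMod p) F := Subsingleton.elim _ _
  let τ' : F →ₐ[ZMod p] F := { (τ : F →+* F) with commutes' := fun r => RingHom.congr_fun hcomm r }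
  have : Fintype F := Fintype.ofFinite F
  obtain ⟨j, hj⟩ := (FiniteField.bijective_frobeniusAlgHom_pow (ZMod p) F).2 τ'
  refine ⟨j, fun x => ?_⟩
  have h1 : ∀ (n : ℕ) (y : F), ((FiniteField.frobeniusAlgHom (ZMod p) F) ^ n) y = y ^ p ^ n := by
    intro n y
    induction n generalizing y with
    | zero => simp
    | succ n ih =>
      rw [pow_succ, AlgHom.mul_apply, ih]
      simp [pow_succ, mul_comm, ← pow_mul]
  have h2 : τ' x = τ x := rfl
  rw [← h2, ← hj]
  exact h1 _ x

omit [Finite F] in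
/-- The field fixed by `t ↦ (τ (τ t)) ^ p` has `p ^ (2 e + 1)` elements, and `τ s = s ^ (p ^ e)` on it. -/
theorem exists_twist [Finite F] (τ ψ : F ≃+* F) (hψ : ∀ t, ψ t = (τ (τ t)) ^ p) :
    ∃ e : ℕ, Nat.card {t : F // ψ t = t} = p ^ (2 * e + 1) ∧ ∀ s : F, ψ s = s → τ s = s ^ (p ^ e) := by
  have hp : p.Prime := Fact.out
  obtain ⟨a, ha⟩ := exists_frob (p := p) τ
  have hψ' : ∀ t, ψ t = t ^ (p ^ (2 * a + 1)) := by
    intro t
    rw [hψ, ha, ha, ← pow_mul, ← pow_mul]
    congr 1
    ring
  have hfin : Finite (F ≃+* F) := Finite.of_injective (fun f : F ≃+* F => (f : F → F)) DFunLike.coe_injective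
  have h0 : 0 < orderOf ψ := orderOf_pos ψ
  have h1 := card_eq_fix_pow ψ
  have : Fintype F := Fintype.ofFinite F
  obtain ⟨f, hpf, hf⟩ := FiniteField.card F p
  rw [Nat.card_eq_fintype_card, hf] at h1
  obtain ⟨d, -, hd⟩ := (Nat.dvd_prime_pow hp).1
    (h1 ▸ dvd_pow_self _ h0.ne' : Nat.card {t : F // ψ t = t} ∣ p ^ (f : ℕ))
  -- `s ^ (p ^ d) = s` on the fixed field
  have h5 : ∀ s, ψ s = s → s ^ (p ^ d) = s := by
    intro s hs
    have hs' : s ∈ Cfsg.Agent.H967.CopMat.Fx ψ := hs
    have : Fintype ↥(Cfsg.Agent.H967.CopMat.Fx ψ) := Fintype.ofFinite _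
    have h6 := FiniteField.pow_card (⟨s, hs'⟩ : ↥(Cfsg.Agent.H967.CopMat.Fx ψ))
    have h7 : Fintype.card ↥(Cfsg.Agent.H967.CopMat.Fx ψ) = p ^ d := by
      rw [← Nat.card_eq_fintype_card, ← hd]
      rfl
    rw [h7] at h6
    exact congrArg Subtype.val h6
  have h6 : ∀ s, ψ s = s → ∀ f : ℕ, s ^ (p ^ (d * f)) = s := by
    intro s hs f
    induction f with
    | zero => rw [Nat.mul_zero, pow_zero, pow_one]
    | succ f ih => rw [Nat.mul_succ, pow_add, pow_mul, ih, h5 s hs]
  -- `d ∣ 2 a + 1`
  have hdN : d ∣ 2 * a + 1 := by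
    rw [Nat.dvd_iff_mod_eq_zero]
    by_contra hg
    set g := (2 * a + 1) % d with hgd
    have hgN : d * ((2 * a + 1) / d) + g = 2 * a + 1 := Nat.div_add_mod _ _
    have hd0 : 0 < d := by
      rcases Nat.eq_zero_or_pos d with h | h
      · exfalso
        rw [h, pow_zero] at hd
        have h8 : ∀ x y : {t : F // ψ t = t}, x = y := by
          have := Nat.card_eq_one_iff_unique.1 hd
          exact fun x y => this.1.elim x y
        have h9 := congrArg Subtype.val (h8 ⟨0, map_zero ψ⟩ ⟨1, map_one ψ⟩)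
        exact zero_ne_one h9
      · exact h
    have hgd' : g < d := Nat.mod_lt _ hd0
    have h8 : ∀ s, ψ s = s → s ^ (p ^ g) = s := by
      intro s hs
      have h9 : s ^ (p ^ (2 * a + 1)) = s := by rw [← hψ', hs]
      rw [← hgN, pow_add, pow_mul, h6 s hs] at h9
      exact h9
    classical
    let S : Finset F := Finset.univ.filter fun t => ψ t = t
    have hS : S.card = p ^ d := by
      rw [← hd, Nat.card_eq_fintype_card, Fintype.card_subtype]
    have h9 : S ⊆ (Polynomial.X ^ (p ^ g) - Polynomial.X : Polynomial F).roots.toFinset := by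
      intro s hs
      rw [Multiset.mem_toFinset, Polynomial.mem_roots (FiniteField.X_pow_card_pow_sub_X_ne_zero F hg hp.one_lt)]
      have := h8 s (Finset.mem_filter.1 hs).2
      simp [this]
    have h10 := Finset.card_le_card h9
    have h11 : (Polynomial.X ^ (p ^ g) - Polynomial.X : Polynomial F).roots.toFinset.card ≤ p ^ g := by
      refine (Multiset.toFinset_card_le _).trans ((Polynomial.card_roots' _).trans (le_of_eq ?_))
      exact FiniteField.X_pow_card_pow_sub_X_natDegree_eq F hg hp.one_lt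
    have h12 : p ^ g < p ^ d := Nat.pow_lt_pow_right hp.one_lt hgd'
    omega
  obtain ⟨m, hm⟩ := hdN
  obtain ⟨e, he⟩ : Odd d := by
    have h3 : Odd (d * m) := ⟨a, hm.symm⟩
    exact (Nat.odd_mul.1 h3).1
  obtain ⟨f', hf'⟩ : Odd m := by
    have h3 : Odd (d * m) := ⟨a, hm.symm⟩
    exact (Nat.odd_mul.1 h3).2
  have haa : a = d * f' + e := by
    rw [hf', he] at hm
    rw [he]
    have : 2 * a = 2 * ((2 * e + 1) * f' + e) := by
      have h4 : (2 * e + 1) * (2 * f' + 1) = 2 * ((2 * e + 1) * f' + e) + 1 := by ring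
      omega
    omega
  refine ⟨e, by rw [hd, he], fun s hs => ?_⟩
  rw [ha, haa, pow_add, pow_mul, h6 s hs]

end fields

/-! ### The cases -/

section cases

open Cfsg.Agent.H79.FieldParam Cfsg.Agent.H79.DiagSymm Cfsg.Agent.H79.EdgeSymm

variable {D : ChevalleyDatum} {F : Type u} [Field F]

theorem char_le_three {s s' : F ≃+* F} {k : ℕ} (hk : k = 2 ∨ k = 3) (h : ∀ a, s a = (s' a) ^ k)
    (hp : (ringChar F).Prime) : ringChar F ≤ 3 := by
  have h1 := h 2
  rw [map_ofNat, map_ofNat] at h1
  have h2 : ((6 : ℕ) : F) = 0 := by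
    rcases hk with rfl | rfl
    · have : (2 : F) = 0 := by linear_combination -h1
      push_cast
      linear_combination 3 * this
    · push_cast
      linear_combination -h1
  have h3 := (ringChar.spec F 6).1 h2
  have h4 : ringChar F ∣ 2 * 3 := h3
  rcases (Nat.Prime.dvd_mul hp).1 h4 with h5 | h5
  · exact (Nat.le_of_dvd (by norm_num) h5).trans (by norm_num)
  · exact Nat.le_of_dvd (by norm_num) h5

/-- All exponents are one, or the permutation exchanges the long and the short roots and the characteristic is at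
most three. -/
theorem cases_exp (hD : InList D) (hp : (ringChar F).Prime) {π : Equiv.Perm (Fin D.rank)} (hπ : EdgePres D π)
    {σ : Fin D.rank → (F ≃+* F)} (h : _root_.Cfsg.Agent.H79.FieldParam.Rel D π σ) :
    (∀ i : Fin D.rank, D.graphExp (ringChar F) i (π i) = 1) ∨
      ((∀ i : Fin D.rank, D.isLong (D.simple (π i)) = !D.isLong (D.simple i)) ∧ ringChar F ≤ 3) := by
  by_cases hl : D ∈ [chevD4, chevE6, chevE7, chevE8]
  · obtain ⟨h1, h2⟩ := laced_of_mem hl
    exact Or.inl fun i => graphExp_of_not_long (h2 _ (π i).isLt)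
  · by_cases h1 : π = 1
    · left
      intro i
      rw [h1, Equiv.Perm.one_apply, graphExp_self]
    · have h5 : imgs π ≠ List.range D.rank := fun h => h1 (eq_of_imgs (h.trans imgs_one.symm))
      have hD' : D = chevG2 ∨ D = chevB2 ∨ D = chevF4 := by
        simp only [InList, List.mem_cons, List.not_mem_nil, or_false] at hD hl
        (clear * - hD hl; tauto)
      right
      rcases hD' with rfl | rfl | rfl
      · -- type G₂
        have h6 := edge_G2 hπ
        have h7 : imgs π = [1, 0] := by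
          simp only [List.mem_cons, List.not_mem_nil, or_false] at h6
          rcases h6 with h6 | h6
          · exact absurd h6 h5
          · exact h6
        have p0 : ((π ⟨0, by decide⟩ : Fin chevG2.rank) : ℕ) = 1 := by rw [← imgs_getD, h7]; rfl
        have p1 : ((π ⟨1, by decide⟩ : Fin chevG2.rank) : ℕ) = 0 := by rw [← imgs_getD, h7]; rfl
        have r01 := h.pow_eq (i := ⟨0, by decide⟩) (j := ⟨1, by decide⟩) (k := 3) (by decide) (by decide +kernel)
          (by rw [p0, p1]; decide +kernel)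
        refine ⟨fun i => ?_, char_le_three (Or.inr rfl) r01 hp⟩
        have hi : i.val < 2 := i.isLt
        obtain ⟨i, hi'⟩ := i
        simp only at hi
        interval_cases i
        · rw [p0]; show _ = !chevG2.isLong (chevG2.simple 0); decide +kernel
        · rw [p1]; show _ = !chevG2.isLong (chevG2.simple 1); decide +kernel
      · -- type B₂
        have h6 := edge_B2 hπ
        have h7 : imgs π = [1, 0] := by
          simp only [List.mem_cons, List.not_mem_nil, or_false] at h6
          rcases h6 with h6 | h6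
          · exact absurd h6 h5
          · exact h6
        have p0 : ((π ⟨0, by decide⟩ : Fin chevB2.rank) : ℕ) = 1 := by rw [← imgs_getD, h7]; rfl
        have p1 : ((π ⟨1, by decide⟩ : Fin chevB2.rank) : ℕ) = 0 := by rw [← imgs_getD, h7]; rfl
        have r01 := h.pow_eq (i := ⟨0, by decide⟩) (j := ⟨1, by decide⟩) (k := 2) (by decide) (by decide +kernel)
          (by rw [p0, p1]; decide +kernel)
        refine ⟨fun i => ?_, char_le_three (Or.inl rfl) r01 hp⟩
        have hi : i.val < 2 := i.isLt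
        obtain ⟨i, hi'⟩ := i
        simp only at hi
        interval_cases i
        · rw [p0]; show _ = !chevB2.isLong (chevB2.simple 0); decide +kernel
        · rw [p1]; show _ = !chevB2.isLong (chevB2.simple 1); decide +kernel
      · -- type F₄
        have h6 := edge_F4 hπ
        have h7 : imgs π = [3, 2, 1, 0] := by
          simp only [List.mem_cons, List.not_mem_nil, or_false] at h6
          rcases h6 with h6 | h6
          · exact absurd h6 h5
          · exact h6
        have p0 : ((π ⟨0, by decide⟩ : Fin chevF4.rank) : ℕ) = 3 := by rw [← imgs_getD, h7]; rfl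
        have p1 : ((π ⟨1, by decide⟩ : Fin chevF4.rank) : ℕ) = 2 := by rw [← imgs_getD, h7]; rfl
        have p2 : ((π ⟨2, by decide⟩ : Fin chevF4.rank) : ℕ) = 1 := by rw [← imgs_getD, h7]; rfl
        have p3 : ((π ⟨3, by decide⟩ : Fin chevF4.rank) : ℕ) = 0 := by rw [← imgs_getD, h7]; rfl
        have r12 := h.pow_eq (i := ⟨1, by decide⟩) (j := ⟨2, by decide⟩) (k := 2) (by decide) (by decide +kernel)
          (by rw [p1, p2]; decide +kernel)
        refine ⟨fun i => ?_, char_le_three (Or.inl rfl) r12 hp⟩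
        have hi : i.val < 4 := i.isLt
        obtain ⟨i, hi'⟩ := i
        simp only at hi
        interval_cases i
        · rw [p0]; show _ = !chevF4.isLong (chevF4.simple 0); decide +kernel
        · rw [p1]; show _ = !chevF4.isLong (chevF4.simple 1); decide +kernel
        · rw [p2]; show _ = !chevF4.isLong (chevF4.simple 2); decide +kernel
        · rw [p3]; show _ = !chevF4.isLong (chevF4.simple 3); decide +kernel

/-- the constants -/
noncomputable def E0 (D : ChevalleyDatum) (n k : ℕ) : ℕ :=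
  n + 1 + k * (((Fintype.card D.Idx * Fintype.card D.Idx) ^ n + 1) * (n * cB D))

/-- the bound -/
noncomputable def B0 (D : ChevalleyDatum) (n k : ℕ) : ℕ :=
  ((3 * E0 D n k ^ 2) ^ n) ^ (Fintype.card D.Idx * Fintype.card D.Idx)

theorem one_le_E0 (D : ChevalleyDatum) (n k : ℕ) : 1 ≤ E0 D n k := by
  unfold E0
  omega

/-- **The bound for one type.** -/
theorem bdd_one (hD : InList D) {n : ℕ} (hn : 0 < n) (k : ℕ) (F : Type u) [Field F] [Finite F] :
    Bdd n k (B0 D n k) ↥(D.group F) := by
  classical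
  intro α hα hk
  have : Fintype F := Fintype.ofFinite F
  have hfin : Finite ↥(D.group F) := Finite.of_injective _ (rep_injective D F)
  obtain ⟨x, π, -, -, h1, h2⟩ := exists_conj_perm (F := F) hD α
  set φ := MulAut.conj x * α with hφd
  have hφ : Perm D F φ π := ⟨h1, h2⟩
  have hαφ : α = MulAut.conj x⁻¹ * φ := by rw [hφd, map_inv, inv_mul_cancel_left]
  obtain ⟨c, σ, hc, hpos, hneg, hrel⟩ := exists_field hD hφ
  have hv : Val hD φ π c σ := ⟨hc, hpos, hneg⟩
  have hedge : EdgePres D π := fun i j hij => cartan_eq_zero_iff hφ hD hij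
  have hr : 0 < D.rank := (RootComb.good_of_mem hD).rank_pos
  obtain ⟨τ, hτ⟩ := exists_tau hD hr hedge hrel
  have hpr : (ringChar F).Prime := CharP.char_is_prime F (ringChar F)
  have hfact : Fact (ringChar F).Prime := ⟨hpr⟩
  -- the power of `φ`
  have hφn : φ ^ n = MulAut.conj (Nm φ n x⁻¹)⁻¹ := by
    have h3 := hα
    rw [hαφ, conj_mul_pow] at h3
    rw [map_inv]
    exact eq_inv_of_mul_eq_one_right h3
  -- the bound from the fixed field
  suffices hmain : ∃ ψ : F ≃+* F, ψ ^ n = 1 ∧ Nat.card {t : F // ψ t = t} ≤ 3 * E0 D n k ^ 2 by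
    obtain ⟨ψ, hψ, hψ'⟩ := hmain
    have h3 : Nat.card F ≤ (3 * E0 D n k ^ 2) ^ n := (card_le_fix_pow ψ hn hψ).trans (Nat.pow_le_pow_left hψ' _)
    exact (card_le_pow (rep D F) (rep_injective D F)).trans (Nat.pow_le_pow_left h3 _)
  rcases cases_exp hD hpr hedge hrel with he | ⟨hlong, hp3⟩
  · -- all exponents one
    have hσ : σ = fun _ => τ := by
      funext i
      ext t
      rw [hτ, he, pow_one]
    subst hσ
    refine ⟨τ, hv.tau_pow hφn, ?_⟩
    have h3 := card_S_le hαφ hv hn hα hk (Finset.univ.filter fun t => τ t = t) (by simp) (by simp only [_root_.Finset.mem_filter, _root_.Finset.mem_univ, _root_.map_one, _root_.and_self])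
      (E := fun _ _ => 1) (M := 1) (fun _ => rfl)
      (fun i i' s hs => by rw [pow_one]; exact (Finset.mem_filter.1 hs).2) (fun _ _ => le_refl _)
      (fun _ => MonoidHom.id _) (fun _ => Function.injective_id)
      (fun i u hu => Units.ext (Finset.mem_filter.1 hu).2)
    rw [mul_one] at h3
    have h4 : Nat.card {t : F // τ t = t} = (Finset.univ.filter fun t => τ t = t).card := by
      rw [Nat.card_eq_fintype_card, Fintype.card_subtype]
    rw [h4]
    refine h3.trans ?_
    have h5 := one_le_E0 D n k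
    show E0 D n k ≤ _
    nlinarith only []
  · -- the exceptional graph automorphisms
    set p := ringChar F with hp
    have hchar : CharP F p := ringChar.charP F
    have hσl : ∀ i : Fin D.rank, D.isLong (D.simple i) = true → ∀ t, σ i t = τ t := by
      intro i hi t
      rw [hτ, graphExp_of_not_long (by rw [hlong, hi]; rfl), pow_one]
    have hσs : ∀ i : Fin D.rank, D.isLong (D.simple i) = false → ∀ t, σ i t = (τ t) ^ p := by
      intro i hi t
      rw [hτ, graphExp_of_long (by rw [hlong, hi]; rfl) hi]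
    let ψ : F ≃+* F := (τ.trans τ).trans (frobeniusEquiv F p)
    have hψ : ∀ t, ψ t = (τ (τ t)) ^ p := fun t => rfl
    obtain ⟨e, he, he'⟩ := exists_twist τ ψ hψ
    have hss : ∀ s, ψ s = s → s ^ (p ^ e * p ^ (e + 1)) = s := by
      intro s hs
      have h3 := hψ s
      rw [hs, he' s hs, map_pow, he' s hs, ← pow_mul, ← pow_mul] at h3
      rw [pow_succ]
      exact h3.symm
    have hψn : ψ ^ n = 1 := by
      have h3 : (fun i => (σ i).trans (σ (π i))) = fun _ => ψ := by
        funext i
        ext t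
        show σ (π i) (σ i t) = ψ t
        rw [hψ]
        cases hi : D.isLong (D.simple i)
        · rw [hσs i hi, hσl (π i) (by rw [hlong, hi]; rfl), map_pow]
        · rw [hσl i hi, hσs (π i) (by rw [hlong, hi]; rfl)]
      have h4 := hv.mul hv
      rw [h3] at h4
      refine h4.tau_pow (n := n) (y := (Nm φ n x⁻¹)⁻¹ * (Nm φ n x⁻¹)⁻¹) ?_
      rw [← pow_two, ← pow_mul, mul_comm, pow_mul, hφn, pow_two, ← map_mul]
    refine ⟨ψ, hψn, ?_⟩
    set S : Finset F := Finset.univ.filter fun t => ψ t = t with hS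
    have hmem : ∀ s, s ∈ S ↔ ψ s = s := fun s => by rw [hS, Finset.mem_filter]; simp
    have hSc : S.card = p ^ (2 * e + 1) := by
      rw [← he, Nat.card_eq_fintype_card, Fintype.card_subtype]
    have h3 := card_S_le hαφ hv hn hα hk S ((hmem 0).2 (map_zero ψ)) ((hmem 1).2 (map_one ψ))
      (E := fun i i' => if D.isLong (D.simple i) = D.isLong (D.simple i') then 1 else
        if D.isLong (D.simple i') = true then p ^ (e + 1) else p ^ e) (M := p ^ (e + 1))
      (fun i => if_pos rfl) ?_ ?_
      (fun i => if D.isLong (D.simple i) = true then Units.map ((τ.trans (frobeniusEquiv F p) : F ≃+* F) : F →* F)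
        else MonoidHom.id _) ?_ ?_
    · set E := E0 D n k with hE
      have h4 : p ^ (2 * e + 1) ≤ E * p ^ (e + 1) := by
        rw [← hSc]
        refine h3.trans ?_
        have h5 : 1 ≤ p ^ (e + 1) := Nat.one_le_pow _ _ hpr.pos
        calc n + 1 + k * (((Fintype.card D.Idx * Fintype.card D.Idx) ^ n + 1) * (n * (cB D * p ^ (e + 1))))
            ≤ (n + 1) * p ^ (e + 1) +
              k * (((Fintype.card D.Idx * Fintype.card D.Idx) ^ n + 1) * (n * (cB D * p ^ (e + 1)))) :=
              Nat.add_le_add_right (Nat.le_mul_of_pos_right _ h5) _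
          _ = E * p ^ (e + 1) := by rw [hE, E0]; ring
      have h6 : p ^ e ≤ E := by
        have h7 : p ^ (2 * e + 1) = p ^ e * p ^ (e + 1) := by rw [← pow_add]; congr 1; omega
        rw [h7] at h4
        exact Nat.le_of_mul_le_mul_right h4 (Nat.pow_pos hpr.pos)
      rw [he, pow_succ, mul_comm 2 e, pow_mul, mul_comm]
      exact Nat.mul_le_mul hp3 (Nat.pow_le_pow_left h6 2)
    · intro i i' s hs
      have hs' := (hmem s).1 hs
      have hf : ∀ b : Bool, ¬ (b = !b) := by decide
      cases hi : D.isLong (D.simple i) <;> cases hi' : D.isLong (D.simple i')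
      · simp only [hlong, hi', if_true, pow_one]
        rw [hσs i' hi', he' s hs', ← pow_mul, ← pow_succ]
        simp
      · simp only [hlong, hi']
        rw [hσl i' hi', map_pow, he' s hs', ← pow_mul]
        simpa using hss s hs'
      · simp only [hlong, hi']
        rw [hσs i' hi', map_pow, he' s hs', ← pow_mul, ← pow_mul]
        have := hss s hs'
        rw [pow_succ] at this
        simpa [mul_assoc] using this
      · simp only [hlong, hi', if_true, pow_one]
        rw [hσl i' hi', he' s hs']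
        simp
    · intro i i'
      have h5 : 1 ≤ p ^ (e + 1) := Nat.one_le_pow _ _ hpr.pos
      split_ifs
      · exact h5
      · exact le_refl _
      · exact Nat.pow_le_pow_right hpr.pos (Nat.le_succ e)
    · intro i
      split_ifs
      · exact Units.map_injective (τ.trans (frobeniusEquiv F p)).injective
      · exact Function.injective_id
    · intro i u hu
      have hu' := (hmem _).1 hu
      cases hi : D.isLong (D.simple i)
      · simp only [hlong, hi]
        apply Units.ext
        simp only [Bool.false_eq_true, if_false, Bool.not_false, if_true]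
        exact hσs i hi _
      · simp only [hlong, hi]
        apply Units.ext
        simp only [Bool.not_true, Bool.false_eq_true, if_false, if_true]
        show σ i ((τ u) ^ p) = u
        rw [hσl i hi, map_pow]
        exact hu'

end cases

/-- **The bound for the seven tabulated types.** -/
theorem bdd_chev (n k : ℕ) (hn : 0 < n) : ∃ B, ∀ D ∈ [chevG2, chevB2, chevD4, chevF4, chevE6, chevE7, chevE8],
    ∀ (F : Type u) [Field F] [Finite F], Bdd n k B ↥(D.group F) := by
  refine ⟨([chevG2, chevB2, chevD4, chevF4, chevE6, chevE7, chevE8].map fun D => B0 D n k).sum, ?_⟩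
  intro D hD F _ _
  refine (bdd_one hD hn k F).mono ?_
  exact List.single_le_sum (by simp) _ (List.mem_map_of_mem hD)

end Cfsg.Agent.H331.BF.Chev

private theorem dce_329e9001c222 : _root_.True := by
  try have : _root_.True := by simp only [_root_.Cfsg.Agent.H331.BF.Chev.torus.congr_simp]
  try have : _root_.True := by simp only [_root_.Cfsg.Agent.H331.BF.Chev.E0.eq_1]
  exact _root_.True.intro
end
end
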