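import Mathlib
import Cfsg.Prelude.Def_Involutions
import Cfsg.Prelude.Def_PLocal
import Cfsg.Prelude.Def_TwoFusion
import Cfsg.Agent.Transfer.PGroupNormal
import Cfsg.Prelude.Def_CaseTheorems
import Cfsg.Agent.H331.SCExc
import Cfsg.Agent.H971.Bender
import Cfsg.Agent.S1225
import Cfsg.Agent.S1250
import Cfsg.Agent.FastGrp
import Cfsg.Agent.Prune
set_option linter.all false
prune_inst 0x7f00000000000000000000000000000000000000000000000000000000000000000000000000000000000000000000000000000000000000000000000000000000000000000000000000000000000000003fffffffffffffffffffffffffffbeffbdffffffff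
open scoped Cfsg.Agent.FastGrp

-- part: H331/SCBasic
section
/-!
# Strongly closed 2-subgroups with a proper subgroup containing the centralizers

`Hyp T S H`: `S ≠ 1` is strongly closed in the Sylow 2-subgroup `T` and `H ≠ G` contains the centralizers of the
elements of `S` and the normalizer of `Ω₁(S)`.

* `Hyp.star` : `S ∩ H^g = 1` for `g ∉ H`.
* `Hyp.strong` : if all involutions of `T ∩ ⟨S^G⟩` lie in `S` then `H ∩ ⟨S^G⟩` is strongly embedded in `⟨S^G⟩`.
-/

set_option autoImplicit false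

namespace Cfsg.Agent.H331.SCBasic

open Cfsg Subgroup

variable {G : Type*} [Group G]

theorem mem_normalizer_of_conj [Finite G] {C : Subgroup G} {b : G} (h : ∀ x ∈ C, b * x * b⁻¹ ∈ C) :
    b ∈ normalizer (C : Set G) := by
  rw [mem_normalizer_iff]
  intro x
  refine ⟨h x, fun hx => ?_⟩
  let f : C → C := fun c => ⟨b * c * b⁻¹, h c c.2⟩
  have hf : Function.Injective f := by
    rintro ⟨c, hc⟩ ⟨d, hd⟩ hcd
    have h1 : b * c * b⁻¹ = b * d * b⁻¹ := congrArg Subtype.val hcd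
    exact Subtype.ext (mul_left_cancel (mul_right_cancel h1))
  obtain ⟨⟨c, hc⟩, hcx⟩ := Finite.surjective_of_injective hf ⟨b * x * b⁻¹, hx⟩
  have h1 : b * c * b⁻¹ = b * x * b⁻¹ := congrArg Subtype.val hcx
  rwa [← mul_left_cancel (mul_right_cancel h1)]

theorem mem_normalizer_omega [Finite G] {S : Subgroup G} {b : G} (h : ∀ x ∈ S, b * x * b⁻¹ ∈ S) :
    b ∈ normalizer ((omegaOne 2 S : Subgroup G) : Set G) := by
  refine mem_normalizer_of_conj fun x hx => ?_
  have h1 : (omegaOne 2 S).map (MulAut.conj b).toMonoidHom ≤ omegaOne 2 S := by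
    rw [omegaOne, MonoidHom.map_closure, closure_le]
    rintro _ ⟨y, ⟨hy, hy2⟩, rfl⟩
    refine subset_closure ⟨h y hy, ?_⟩
    show (b * y * b⁻¹) ^ 2 = 1
    rw [conj_pow, hy2, mul_one, mul_inv_cancel]
  exact h1 ⟨x, hx, rfl⟩

/-- The setting. -/
structure Hyp [Finite G] (T : Sylow 2 G) (S H : Subgroup G) : Prop where
  ne : S ≠ ⊥
  sc : IsStronglyClosed S (T : Subgroup G)
  top : H ≠ ⊤
  cen : ∀ s ∈ S, s ≠ 1 → centralizer ({s} : Set G) ≤ H
  nor : normalizer ((omegaOne 2 S : Subgroup G) : Set G) ≤ H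

variable [Finite G]

/-- A 2-subgroup of `H` is conjugate in `H` to a subgroup of the Sylow 2-subgroup `T ≤ H` of `G`. -/
theorem exists_conj_le {H : Subgroup G} (T : Sylow 2 G) (hT : (T : Subgroup G) ≤ H) {D : Subgroup G}
    (hD : IsPGroup 2 D) (hDH : D ≤ H) : ∃ h ∈ H, ∀ d ∈ D, h * d * h⁻¹ ∈ (T : Subgroup G) := by
  have : Fact (Nat.Prime 2) := ⟨Nat.prime_two⟩
  let TH : Sylow 2 H := T.subtype hT
  have h1 : IsPGroup 2 (D.subgroupOf H) := hD.comap_of_injective H.subtype H.subtype_injective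
  obtain ⟨Q, hQ⟩ := h1.exists_le_sylow
  obtain ⟨h, hh⟩ := MulAction.exists_smul_eq H Q TH
  refine ⟨h, h.2, fun d hd => ?_⟩
  have h3 : h * (⟨d, hDH hd⟩ : H) * h⁻¹ ∈ TH := by
    rw [← hh]
    exact ⟨_, hQ (mem_subgroupOf.2 hd), rfl⟩
  exact h3

/-- The normalizer condition. -/
theorem exists_norm {S D : Subgroup G} (hS : IsPGroup 2 S) (hDS : D ≤ S) (hne : ∃ u ∈ S, u ∉ D) :
    ∃ u ∈ S, u ∉ D ∧ ∀ d, d ∈ D ↔ u * d * u⁻¹ ∈ D := by
  have : Fact (Nat.Prime 2) := ⟨Nat.prime_two⟩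
  have h1 : Group.IsNilpotent S := hS.isNilpotent
  have h2 : NormalizerCondition S := Group.normalizerCondition_of_isNilpotent
  have h3 : D.subgroupOf S < ⊤ := by
    rw [lt_top_iff_ne_top]
    intro h
    obtain ⟨u, hu, huD⟩ := hne
    exact huD (mem_subgroupOf.1 (h ▸ mem_top (⟨u, hu⟩ : S)))
  obtain ⟨u, hu, huD⟩ := SetLike.exists_of_lt (h2 _ h3)
  refine ⟨u, u.2, fun h => huD (mem_subgroupOf.2 h), fun d => ?_⟩
  rw [mem_normalizer_iff] at hu
  constructor
  · intro hd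
    exact mem_subgroupOf.1 ((hu ⟨d, hDS hd⟩).1 (mem_subgroupOf.2 hd))
  · intro hd
    have hdS : d ∈ S := by
      have h4 := S.mul_mem (S.mul_mem (S.inv_mem u.2) (hDS hd)) u.2
      have e : (u : G)⁻¹ * (u * d * (u : G)⁻¹) * u = d := by group
      rwa [e] at h4
    exact mem_subgroupOf.1 ((hu ⟨d, hdS⟩).2 (mem_subgroupOf.2 hd))

/-- A nontrivial normal subgroup of a 2-group contains an involution of the centre. -/
theorem exists_cen {E D : Subgroup G} (hE : IsPGroup 2 E) (hDE : D ≤ E) (hn : ∀ e ∈ E, ∀ d ∈ D, e * d * e⁻¹ ∈ D)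
    (hD : D ≠ ⊥) : ∃ d ∈ D, d ≠ 1 ∧ d * d = 1 ∧ ∀ e ∈ E, e * d = d * e := by
  have : Fact (Nat.Prime 2) := ⟨Nat.prime_two⟩
  have h1 : (D.subgroupOf E).Normal :=
    ⟨fun d hd e => mem_subgroupOf.2 (hn e e.2 d (mem_subgroupOf.1 hd))⟩
  have h2 : D.subgroupOf E ≠ ⊥ := by
    intro h
    apply hD
    rw [eq_bot_iff]
    intro d hd
    have h3 : (⟨d, hDE hd⟩ : E) ∈ D.subgroupOf E := mem_subgroupOf.2 hd
    rw [h, mem_bot] at h3
    exact mem_bot.2 (congrArg Subtype.val h3)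
  obtain ⟨z, hz, hzc, hz2⟩ := Cfsg.Agent.Transfer.PGroupNormal.exists_mem_inf_center_orderOf hE _ h2
  refine ⟨z, mem_subgroupOf.1 hz, ?_, ?_, fun e he => ?_⟩
  · intro h
    have h3 : z = 1 := Subtype.ext h
    rw [h3, orderOf_one] at hz2
    norm_num at hz2
  · have h3 := pow_orderOf_eq_one z
    rw [hz2, pow_two] at h3
    exact congrArg Subtype.val h3
  · exact congrArg Subtype.val (mem_center_iff.1 hzc ⟨e, he⟩)

namespace Hyp

variable {T : Sylow 2 G} {S H : Subgroup G} (h : Hyp T S H)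

include h

theorem isPGroup : IsPGroup 2 S := T.2.to_le h.sc.1

theorem conj_mem {g x : G} (hx : x ∈ S) (hg : g * x * g⁻¹ ∈ (T : Subgroup G)) : g * x * g⁻¹ ∈ S := h.sc.2 x hx g hg

theorem le_H : (T : Subgroup G) ≤ H := by
  intro t ht
  refine h.nor (mem_normalizer_omega fun x hx => h.conj_mem hx ?_)
  exact mul_mem (mul_mem ht (h.sc.1 hx)) (inv_mem ht)

theorem S_le_H : S ≤ H := h.sc.1.trans h.le_H

/-- The key property. -/
theorem star {g : G} (hg : g ∉ H) {x : G} (hx : x ∈ S) (hgx : g * x * g⁻¹ ∈ H) : x = 1 := by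
  by_contra hx1
  -- the subgroup `D = S ∩ H^(g⁻¹)`
  let D : Subgroup G := S ⊓ H.comap (MulAut.conj g).toMonoidHom
  have hmD : ∀ y, y ∈ D ↔ y ∈ S ∧ g * y * g⁻¹ ∈ H := fun y => Iff.rfl
  have hD : D ≠ ⊥ := by
    intro hb
    have h1 : x ∈ D := (hmD x).2 ⟨hx, hgx⟩
    rw [hb, mem_bot] at h1
    exact hx1 h1
  -- replace `g`
  obtain ⟨a, ha, hconj⟩ := exists_conj_le T h.le_H (D := D.map (MulAut.conj g).toMonoidHom)
    ((h.isPGroup.to_le inf_le_left).map _) (by rintro _ ⟨y, hy, rfl⟩; exact hy.2)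
  obtain ⟨k, hk⟩ : ∃ k, k = a * g := ⟨_, rfl⟩
  have hkH : k ∉ H := fun h1 => hg (by
    have h2 := mul_mem (inv_mem ha) h1
    rwa [hk, inv_mul_cancel_left] at h2)
  have hkD : ∀ y ∈ D, k * y * k⁻¹ ∈ S := by
    intro y hy
    refine h.conj_mem hy.1 ?_
    have h1 := hconj _ ⟨y, hy, rfl⟩
    have e : k * y * k⁻¹ = a * (g * y * g⁻¹) * a⁻¹ := by rw [hk]; group
    rw [e]; exact h1
  have hmD' : ∀ y, y ∈ S → k * y * k⁻¹ ∈ H → y ∈ D := by
    intro y hy hyk
    refine (hmD y).2 ⟨hy, ?_⟩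
    have h1 := mul_mem (mul_mem (inv_mem ha) hyk) ha
    have e : a⁻¹ * (k * y * k⁻¹) * a = g * y * g⁻¹ := by rw [hk]; group
    rwa [e] at h1
  by_cases hne : ∃ u ∈ S, u ∉ D
  · obtain ⟨u, hu, huD, hun⟩ := exists_norm h.isPGroup inf_le_left hne
    -- the subgroup normalizing `D` in `S`
    have hEp : IsPGroup 2 (D ⊔ zpowers u : Subgroup G) :=
      h.isPGroup.to_le (sup_le inf_le_left (zpowers_le.2 hu))
    have huN : u ∈ normalizer (D : Set G) := mem_normalizer_iff.2 hun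
    have hEN : D ⊔ zpowers u ≤ normalizer (D : Set G) := sup_le le_normalizer (zpowers_le.2 huN)
    obtain ⟨d, hd, hd1, -, hdc⟩ := exists_cen hEp le_sup_left
      (fun e he d hd => (mem_normalizer_iff.1 (hEN he) d).1 hd) hD
    have h1 : u * d = d * u := hdc u (mem_sup_right (mem_zpowers u))
    have h2 : k * d * k⁻¹ ≠ 1 := by
      intro h3
      rw [conj_eq_one_iff] at h3
      exact hd1 h3
    have h3 : k * u * k⁻¹ ∈ centralizer ({k * d * k⁻¹} : Set G) := by
      rw [mem_centralizer_singleton_iff]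
      calc k * u * k⁻¹ * (k * d * k⁻¹) = k * (u * d) * k⁻¹ := by group
        _ = k * (d * u) * k⁻¹ := by rw [h1]
        _ = k * d * k⁻¹ * (k * u * k⁻¹) := by group
    exact huD (hmD' u hu (h.cen _ (hkD d hd) h2 h3))
  · push Not at hne
    exact hkH (h.nor (mem_normalizer_omega fun y hy => hkD y (hne y hy)))

theorem exists_notMem : ∃ g, g ∉ H := by
  by_contra hcon
  push Not at hcon
  exact h.top (eq_top_iff.2 fun g _ => hcon g)

/-- A normal subgroup containing a nontrivial element of `S` is not contained in `H`. -/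
theorem not_le {M : Subgroup G} (hM : M.Normal) {s : G} (hs : s ∈ S) (hs1 : s ≠ 1) (hsM : s ∈ M) : ¬ M ≤ H := by
  intro hle
  obtain ⟨g, hg⟩ := h.exists_notMem
  exact hs1 (h.star hg hs (hle (hM.conj_mem s hsM g)))

theorem exists_ne_one : ∃ s ∈ S, s ≠ 1 := by
  by_contra hcon
  push Not at hcon
  exact h.ne (eq_bot_iff.2 fun s hs => mem_bot.2 (hcon s hs))

theorem le_X : S ≤ normalClosure (S : Set G) := subset_normalClosure

/-- **Strong embedding.** -/
theorem strong (hO : ∀ t ∈ (T : Subgroup G), t ∈ normalClosure (S : Set G) → t * t = 1 → t ∈ S) :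
    IsStronglyEmbedded ((H ⊓ normalClosure (S : Set G)).subgroupOf (normalClosure (S : Set G))) := by
  have : Fact (Nat.Prime 2) := ⟨Nat.prime_two⟩
  obtain ⟨s, hs, hs1⟩ := h.exists_ne_one
  refine ⟨?_, ?_, ?_⟩
  · intro htop
    refine h.not_le normalClosure_normal hs hs1 (h.le_X hs) ?_
    rw [subgroupOf_eq_top] at htop
    exact htop.trans inf_le_left
  · -- even order
    obtain ⟨z, hz, hz1, hz2, -⟩ := exists_cen h.isPGroup le_rfl
      (fun e he d hd => mul_mem (mul_mem he hd) (inv_mem he)) h.ne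
    have h1 : (⟨z, h.le_X hz⟩ : normalClosure (S : Set G)) ∈
        (H ⊓ normalClosure (S : Set G)).subgroupOf (normalClosure (S : Set G)) :=
      mem_subgroupOf.2 ⟨h.S_le_H hz, h.le_X hz⟩
    have h2 := orderOf_dvd_natCard (⟨_, h1⟩ :
      (H ⊓ normalClosure (S : Set G)).subgroupOf (normalClosure (S : Set G)))
    rw [Subgroup.orderOf_mk, Subgroup.orderOf_mk, orderOf_eq_prime (by rw [pow_two, hz2]) hz1] at h2
    exact even_iff_two_dvd.2 h2
  · intro g hg
    rw [← Nat.not_even_iff_odd]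
    intro hev
    obtain ⟨⟨u, hu⟩, hu2⟩ := exists_prime_orderOf_dvd_card' 2 (even_iff_two_dvd.1 hev)
    rw [Subgroup.orderOf_mk] at hu2
    obtain ⟨hu3, v, hv, hvu⟩ := hu
    have hu4 : (u : G) ∈ H := (mem_subgroupOf.1 hu3).1
    have hv4 : (v : G) ∈ H := (mem_subgroupOf.1 hv).1
    have hgH : (g : G) ∉ H := fun h1 => hg (mem_subgroupOf.2 ⟨h1, g.2⟩)
    have hvu' : (g : G) * v * (g : G)⁻¹ = u := congrArg Subtype.val hvu
    have huu : (u : G) * u = 1 := by
      have h1 := pow_orderOf_eq_one u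
      rw [hu2, pow_two] at h1
      exact congrArg Subtype.val h1
    have hu1 : (u : G) ≠ 1 := by
      intro h1
      have h2 : u = 1 := Subtype.ext h1
      rw [h2, orderOf_one] at hu2
      norm_num at hu2
    have hup : IsPGroup 2 (zpowers (u : G)) := by
      apply IsPGroup.of_card (n := 1)
      rw [Nat.card_zpowers, pow_one]
      exact orderOf_eq_prime (by rw [pow_two, huu]) hu1
    obtain ⟨a, ha, hconj⟩ := exists_conj_le T h.le_H hup (zpowers_le.2 hu4)
    have h1 := hconj u (mem_zpowers _)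
    have h2 : a * u * a⁻¹ ∈ S := by
      refine hO _ h1 (normalClosure_normal.conj_mem _ u.2 a) ?_
      calc a * u * a⁻¹ * (a * u * a⁻¹) = a * (u * u) * a⁻¹ := by group
        _ = 1 := by rw [huu]; group
    have h3 : (a * g)⁻¹ ∉ H := by
      intro h4
      have h5 := mul_mem (inv_mem ha) (inv_mem h4)
      rw [inv_inv, inv_mul_cancel_left] at h5
      exact hgH h5
    have h4 := h.star h3 h2 (by
      have e : (a * g)⁻¹ * (a * u * a⁻¹) * ((a * g)⁻¹)⁻¹ = v := by rw [← hvu']; group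
      rw [e]; exact hv4)
    rw [conj_eq_one_iff] at h4
    exact hu1 h4

end Hyp

end Cfsg.Agent.H331.SCBasic
end

-- part: H331/SCMain
section
/-!
# Strongly closed 2-subgroups: the case of a product of exceptional groups

`Prd A L`: the conclusion of S1252 for the strongly closed subgroup `A`.
-/

set_option autoImplicit false

namespace Cfsg.Agent.H331.SCMain

open Cfsg Subgroup
open Cfsg.Agent.H331.SCBasic Cfsg.Agent.H331.SCExc
open Cfsg.Agent.StrongEmb.TwoRank Cfsg.Agent.StrongEmb.Split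

universe u

/-- The conclusion of S1252. -/
structure Prd {Q : Type u} [Group Q] [Finite Q] (A : Subgroup Q) {r : ℕ} (L : Fin r → Subgroup Q) : Prop where
  comm : ∀ i j, i ≠ j → ∀ a ∈ L i, ∀ b ∈ L j, a * b = b * a
  ind : ∀ i, L i ⊓ (⨆ j ∈ {j | j ≠ i}, L j) = ⊥
  sup : (⨆ i, L i) = normalClosure (A : Set Q)
  simple : ∀ i, IsSimpleGroup (L i)
  sl : ∀ i, ∀ P : Sylow 2 (L i), SL (P : Subgroup (L i))
  cen : ∀ i, ∃ P : Sylow 2 (L i), A ⊓ L i = ((center (P : Subgroup (L i))).map (P : Subgroup (L i)).subtype).map (L i).subtype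

namespace Prd

variable {Q : Type u} [Group Q] [Finite Q] {A : Subgroup Q} {r : ℕ} {L : Fin r → Subgroup Q} (D : Prd A L)

include D

/-- The involutions of `L i` are conjugate into `A`. -/
theorem conj_one (i : Fin r) {l : Q} (hl : l ∈ L i) (hl2 : l * l = 1) : ∃ g ∈ L i, g * l * g⁻¹ ∈ A := by
  have : Fact (Nat.Prime 2) := ⟨Nat.prime_two⟩
  by_cases hl1 : l = 1
  · exact ⟨1, one_mem _, by rw [hl1]; simp⟩
  obtain ⟨P, hP⟩ := D.cen i
  have h1 : IsPGroup 2 (zpowers (⟨l, hl⟩ : L i)) := by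
    apply IsPGroup.of_card (n := 1)
    rw [Nat.card_zpowers, Subgroup.orderOf_mk, pow_one]
    exact orderOf_eq_prime (by rw [pow_two, hl2]) hl1
  obtain ⟨R, hR⟩ := h1.exists_le_sylow
  obtain ⟨g, hg⟩ := MulAction.exists_smul_eq (L i) R P
  have h2 : g * ⟨l, hl⟩ * g⁻¹ ∈ P := by
    rw [← hg]
    exact ⟨_, hR (mem_zpowers _), rfl⟩
  have h3 : (⟨_, h2⟩ : (P : Subgroup (L i))) ∈ center (P : Subgroup (L i)) := by
    apply (D.sl i P).inv
    apply Subtype.ext
    apply Subtype.ext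
    show (g : Q) * l * (g : Q)⁻¹ * ((g : Q) * l * (g : Q)⁻¹) = 1
    calc (g : Q) * l * (g : Q)⁻¹ * ((g : Q) * l * (g : Q)⁻¹) = g * (l * l) * (g : Q)⁻¹ := by group
      _ = 1 := by rw [hl2]; group
  refine ⟨g, g.2, ?_⟩
  have h4 : (g : Q) * l * (g : Q)⁻¹ ∈ A ⊓ L i := by
    rw [hP]
    exact ⟨_, ⟨_, h3, rfl⟩, rfl⟩
  exact h4.1

theorem pairwise : Pairwise fun i j => ∀ x y : Q, x ∈ L i → y ∈ L j → Commute x y :=
  fun i j hij x y hx hy => D.comm i j hij x hx y hy

theorem iSupIndep : iSupIndep L := by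
  intro i
  rw [disjoint_iff]
  exact D.ind i

/-- The involutions of the product are conjugate into `A`. -/
theorem conj_into {y : Q} (hy : y ∈ normalClosure (A : Set Q)) (hy2 : y * y = 1) : ∃ g : Q, g * y * g⁻¹ ∈ A := by
  classical
  have hinj := injective_noncommPiCoprod_of_iSupIndep (hcomm := D.pairwise) D.iSupIndep
  set φ := noncommPiCoprod D.pairwise with hφ
  rw [← D.sup, ← noncommPiCoprod_range (hcomm := D.pairwise)] at hy
  obtain ⟨f, hf⟩ := hy
  rw [← hφ] at hf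
  have hff : f * f = 1 := by
    apply hinj
    rw [map_mul, map_one, hf, hy2]
  have h1 : ∀ i, ∃ g : L i, (g : Q) * f i * (g : Q)⁻¹ ∈ A := by
    intro i
    have h2 : (f i : Q) * f i = 1 := congrArg Subtype.val (congrFun hff i)
    obtain ⟨g, hg, hg'⟩ := D.conj_one i (f i).2 h2
    exact ⟨⟨g, hg⟩, hg'⟩
  choose g hg using h1
  refine ⟨φ g, ?_⟩
  have h3 : φ g * y * (φ g)⁻¹ = φ (g * f * g⁻¹) := by rw [map_mul, map_mul, map_inv, hf]
  rw [h3, hφ, noncommPiCoprod_apply]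
  refine noncommProd_mem _ _ ?_
  intro i _
  exact hg i

theorem le_norm (i : Fin r) : normalClosure (A : Set Q) ≤ normalizer (L i : Set Q) := by
  rw [← D.sup]
  refine iSup_le fun j => ?_
  by_cases hij : j = i
  · subst hij; exact le_normalizer
  · intro x hx
    refine mem_normalizer_of_conj fun y hy => ?_
    rw [D.comm j i hij x hx y hy, mul_inv_cancel_right]
    exact hy

theorem le_sup (i : Fin r) : L i ≤ normalClosure (A : Set Q) := by
  rw [← D.sup]; exact le_iSup L i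

theorem disj {i j : Fin r} (hij : i ≠ j) {x : Q} (hi : x ∈ L i) (hj : x ∈ L j) : x = 1 := by
  have h1 : x ∈ L i ⊓ (⨆ j ∈ {j | j ≠ i}, L j) :=
    ⟨hi, (le_iSup₂ (f := fun j (_ : j ∈ {j | j ≠ i}) => L j) j hij.symm) hj⟩
  rw [D.ind i] at h1
  exact mem_bot.1 h1

/-- Involutions of `A ∩ L i`. -/
theorem exists_two (i : Fin r) : ∃ x ∈ A ⊓ L i, ∃ y ∈ A ⊓ L i, x ≠ y ∧ x ≠ 1 ∧ x * x = 1 ∧ y ≠ 1 ∧ y * y = 1 := by
  obtain ⟨P, hP⟩ := D.cen i
  obtain ⟨x, y, hxy, hx1, hx, hy1, hy⟩ := (D.sl i P).two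
  rw [hP]
  refine ⟨_, ⟨_, ⟨x, (D.sl i P).inv x hx, rfl⟩, rfl⟩, _, ⟨_, ⟨y, (D.sl i P).inv y hy, rfl⟩, rfl⟩, ?_, ?_, ?_, ?_, ?_⟩
  · intro h; exact hxy (Subtype.ext (Subtype.ext h))
  · intro h; exact hx1 (Subtype.ext (Subtype.ext h))
  · exact congrArg Subtype.val (congrArg Subtype.val hx)
  · intro h; exact hy1 (Subtype.ext (Subtype.ext h))
  · exact congrArg Subtype.val (congrArg Subtype.val hy)

theorem exp (i : Fin r) {x : Q} (hx : x ∈ A ⊓ L i) : x * x = 1 := by
  obtain ⟨P, hP⟩ := D.cen i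
  rw [hP] at hx
  obtain ⟨_, ⟨x, hx, rfl⟩, rfl⟩ := hx
  have := (D.sl i P).exp x hx
  exact congrArg Subtype.val (congrArg Subtype.val this)

theorem not_comm (i : Fin r) : ¬ ∀ x y : L i, x * y = y * x := by
  intro hcom
  obtain ⟨P, hP⟩ := D.cen i
  obtain ⟨x, y, hxy⟩ := (D.sl i P).nab
  exact hxy (Subtype.ext (hcom x y))

end Prd

/-- A group with a quotient containing a Suzuki 2-group has two commuting involutions. -/
theorem commPair_of {X K : Type u} [Group X] [Finite X] [Group K] [Finite K] (f : X →* K)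
    (hf : Function.Surjective f) {P : Type*} [Group P] [Finite P] (hP : IsPGroup 2 P) (hSL : SL P) (g : P →* K)
    (hg : Function.Injective g) : CommPair X := by
  have : Fact (Nat.Prime 2) := ⟨Nat.prime_two⟩
  by_contra hno
  have hPr : IsPGroup 2 g.range := by
    intro x
    obtain ⟨_, p, rfl⟩ := x
    obtain ⟨k, hk⟩ := hP p
    exact ⟨k, Subtype.ext (by
      show (g p) ^ 2 ^ k = 1
      rw [← map_pow, hk, map_one])⟩
  obtain ⟨R', hR'⟩ := hPr.exists_le_sylow
  obtain ⟨R, rfl⟩ := Sylow.mapSurjective_surjective hf 2 R'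
  have hcom : ∀ a b : X, a ≠ 1 → a * a = 1 → b ≠ 1 → b * b = 1 → a * b = b * a → a = b := by
    intro a b ha1 ha hb1 hb hab
    by_contra hne
    exact hno ⟨a, b, orderOf_eq_prime (by rw [pow_two, ha]) ha1, orderOf_eq_prime (by rw [pow_two, hb]) hb1, hne, hab⟩
  have hu : ∀ x y : (R : Subgroup X), x ≠ 1 → x * x = 1 → y ≠ 1 → y * y = 1 → x = y := by
    intro x y hx1 hx hy1 hy
    have hRne : (R : Subgroup X) ≠ ⊥ := by
      intro hb
      have h1 : (x : X) ∈ (⊥ : Subgroup X) := hb.le x.2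
      exact hx1 (Subtype.ext (mem_bot.1 h1))
    obtain ⟨z, hz, hz1, hz2, hzc⟩ := exists_cen R.2 le_rfl
      (fun e he d hd => mul_mem (mul_mem he hd) (inv_mem he)) hRne
    have h1 := hcom x z (fun h => hx1 (Subtype.ext h)) (congrArg Subtype.val hx) hz1 hz2 (hzc x x.2)
    have h2 := hcom y z (fun h => hy1 (Subtype.ext h)) (congrArg Subtype.val hy) hz1 hz2 (hzc y y.2)
    exact Subtype.ext (h1.trans h2.symm)
  have h1 : Cy (R : Subgroup X) := cy_of_unique R.2 hu
  have h2 : Cy ((R : Subgroup X).map f) := h1.map (f.subgroupMap _) (f.subgroupMap_surjective _)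
  let g' : P →* (R : Subgroup X).map f :=
    { toFun := fun p => ⟨g p, hR' ⟨p, rfl⟩⟩
      map_one' := Subtype.ext (map_one g)
      map_mul' := fun x y => Subtype.ext (map_mul g x y) }
  have h3 : Cy P := h2.of_injective g' fun x y hxy => hg (congrArg Subtype.val hxy)
  exact hSL.not_cy h3

section main

variable {G : Type u} [Group G] [Finite G] {T : Sylow 2 G} {S H N : Subgroup G} [hNn : N.Normal]
  (h : Hyp T S H) (hN : (T : Subgroup G) ⊓ N ≤ S) {r : ℕ} {L : Fin r → Subgroup (G ⧸ N)}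
  (D : Prd (S.map (QuotientGroup.mk' N)) L)

include h hN

theorem mem_of_image {t : G} (ht : t ∈ (T : Subgroup G)) (hi : QuotientGroup.mk' N t ∈ S.map (QuotientGroup.mk' N)) :
    t ∈ S := by
  obtain ⟨s, hs, hst⟩ := hi
  have h1 : s⁻¹ * t ∈ N := QuotientGroup.eq.1 hst
  have h2 : s⁻¹ * t ∈ S := hN ⟨(T : Subgroup G).mul_mem ((T : Subgroup G).inv_mem (h.sc.1 hs)) ht, h1⟩
  have h3 := mul_mem hs h2
  rwa [mul_inv_cancel_left] at h3

omit h hN [Finite G] in
theorem map_X : (normalClosure (S : Set G)).map (QuotientGroup.mk' N) =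
    normalClosure ((S.map (QuotientGroup.mk' N) : Subgroup (G ⧸ N)) : Set (G ⧸ N)) := by
  rw [map_normalClosure _ _ (QuotientGroup.mk'_surjective N), coe_map]

include D

theorem omega {t : G} (ht : t ∈ (T : Subgroup G)) (htX : t ∈ normalClosure (S : Set G)) (ht2 : t * t = 1) :
    t ∈ S := by
  have : Fact (Nat.Prime 2) := ⟨Nat.prime_two⟩
  have h1 : QuotientGroup.mk' N t ∈ normalClosure ((S.map (QuotientGroup.mk' N) : Subgroup (G ⧸ N)) : Set (G ⧸ N)) := by
    rw [← map_X]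
    exact ⟨t, htX, rfl⟩
  obtain ⟨g, hg⟩ := D.conj_into h1 (by rw [← map_mul, ht2, map_one])
  have hcl := Cfsg.Agent.S1250.result T S h.sc N
  have h2 := hcl.2 _ hg g⁻¹ (by
    have e : g⁻¹ * (g * QuotientGroup.mk' N t * g⁻¹) * g⁻¹⁻¹ = QuotientGroup.mk' N t := by group
    rw [e]
    exact ⟨t, ht, rfl⟩)
  have e : g⁻¹ * (g * QuotientGroup.mk' N t * g⁻¹) * g⁻¹⁻¹ = QuotientGroup.mk' N t := by group
  rw [e] at h2
  exact mem_of_image h hN ht h2

theorem strong : IsStronglyEmbedded ((H ⊓ normalClosure (S : Set G)).subgroupOf (normalClosure (S : Set G))) :=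
  h.strong fun _ ht htX ht2 => omega h hN D ht htX ht2

/-- `S ∩ N = 1`. -/
theorem inf_eq_bot (hB : ∀ (K : Type u) [Group K] [Finite K], BenderHolds K)
    (hodd : ∀ (K : Type u) [Group K] [Finite K], Odd (Nat.card K) → Group.IsSolvable K) (i : Fin r) :
    S ⊓ N = ⊥ := by
  have : Fact (Nat.Prime 2) := ⟨Nat.prime_two⟩
  by_contra hne
  set X := normalClosure (S : Set G) with hX
  have E := strong h hN D
  rw [← hX] at E
  set π := QuotientGroup.mk' N with hπ
  have hXK : X.map π = normalClosure ((S.map π : Subgroup (G ⧸ N)) : Set (G ⧸ N)) := map_X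
  -- two commuting involutions
  have hr : CommPair X := by
    obtain ⟨P, hP⟩ := D.cen i
    have hle : L i ≤ X.map π := by rw [hXK]; exact D.le_sup i
    refine commPair_of (π.subgroupMap X) (π.subgroupMap_surjective X) P.2 (D.sl i P)
      ((inclusion hle).comp (P : Subgroup (L i)).subtype) ?_
    exact (inclusion_injective hle).comp (P : Subgroup (L i)).subtype_injective
  have hsol := Cfsg.Agent.H971.Bender.isSolvable_of_commPair hB hodd E hr
  -- the involutions of `X` lie in `N`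
  obtain ⟨s, hs, hs1, hs2, -⟩ := exists_cen (E := S) (D := S ⊓ N) h.isPGroup inf_le_left
    (fun e he d hd => ⟨S.mul_mem (S.mul_mem he hd.1) (S.inv_mem he), hNn.conj_mem d hd.2 e⟩) hne
  have hall : ∀ t : X, orderOf t = 2 → (t : G) ∈ N := by
    intro t ht
    have hs' : orderOf (⟨s, h.le_X hs.1⟩ : X) = 2 := by
      rw [Subgroup.orderOf_mk]
      exact orderOf_eq_prime (by rw [pow_two, hs2]) hs1
    obtain ⟨g, hg⟩ := isConj_iff.1
      (Cfsg.Agent.TwoFusion.StronglyEmbeddedBasic.isConj_of_involutions E _ t hs' ht)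
    rw [← hg]
    exact hNn.conj_mem s hs.2 g
  have hinv : ∀ n ∈ Cfsg.Agent.SuzukiRankOne.Reduction.invClosure X, (n : G) ∈ N := by
    intro n hn
    have h1 : Cfsg.Agent.SuzukiRankOne.Reduction.invClosure X ≤ N.subgroupOf X := by
      refine (closure_le _).2 ?_
      rintro x ⟨hx1, hx2⟩
      exact mem_subgroupOf.2 (hall x (orderOf_eq_prime (by rw [pow_two, hx2]) hx1))
    exact mem_subgroupOf.1 (h1 hn)
  -- `L i` is a subgroup of the image of `H ∩ X`
  set HX := (H ⊓ X).subgroupOf X with hHX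
  let ψ : HX →* G ⧸ N := π.comp (X.subtype.comp HX.subtype)
  have hle : L i ≤ ψ.range := by
    intro l hl
    have h1 : l ∈ X.map π := by rw [hXK]; exact D.le_sup i hl
    obtain ⟨x, hx, rfl⟩ := h1
    obtain ⟨n, hn, hnx⟩ := exists_invClosure_mul E ⟨x, hx⟩
    refine ⟨⟨_, hnx⟩, ?_⟩
    show π ((n : G)⁻¹ * x) = π x
    have h2 : π (n : G) = 1 := (QuotientGroup.eq_one_iff (n : G)).2 (hinv n hn)
    rw [map_mul, map_inv, h2, inv_one, one_mul]
  have h1 : Group.IsSolvable ψ.range := Group.isSolvable_of_surjective ψ.rangeRestrict_surjective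
  have h2 : Group.IsSolvable (L i) := Group.isSolvable_of_isSolvable_injective (inclusion_injective hle)
  have h3 := D.simple i
  exact D.not_comm i (IsSimpleGroup.comm_iff_isSolvable.2 h2)

/-- There is only one factor. -/
theorem unique (hSN : S ⊓ N = ⊥) (i j : Fin r) : i = j := by
  have : Fact (Nat.Prime 2) := ⟨Nat.prime_two⟩
  by_contra hij
  have E := strong h hN D
  have hex : ∀ k : Fin r, ∃ s ∈ S, orderOf s = 2 ∧ QuotientGroup.mk' N s ≠ 1 ∧ QuotientGroup.mk' N s ∈ L k := by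
    intro k
    obtain ⟨x, hx, -, -, -, hx1, hx2, -⟩ := D.exists_two k
    obtain ⟨⟨s, hs, hsx⟩, hxL⟩ := hx
    refine ⟨s, hs, ?_, by rw [hsx]; exact hx1, by rw [hsx]; exact hxL⟩
    have h1 : s * s ∈ S ⊓ N := by
      refine ⟨S.mul_mem hs hs, (QuotientGroup.eq_one_iff (N := N) (s * s)).1 ?_⟩
      show QuotientGroup.mk' N (s * s) = 1
      rw [map_mul, hsx, hx2]
    rw [hSN, mem_bot] at h1
    refine orderOf_eq_prime (by rw [pow_two, h1]) ?_
    rintro rfl
    exact hx1 (by rw [← hsx, map_one])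
  obtain ⟨s, hs, hs2, hs1, hsL⟩ := hex i
  obtain ⟨t, ht, ht2, ht1, htL⟩ := hex j
  obtain ⟨g, hg⟩ := isConj_iff.1
    (Cfsg.Agent.TwoFusion.StronglyEmbeddedBasic.isConj_of_involutions E ⟨s, h.le_X hs⟩ ⟨t, h.le_X ht⟩
      (by rw [Subgroup.orderOf_mk, hs2]) (by rw [Subgroup.orderOf_mk, ht2]))
  have hg' : (g : G) * s * (g : G)⁻¹ = t := congrArg Subtype.val hg
  have h1 : QuotientGroup.mk' N (g : G) ∈ normalClosure ((S.map (QuotientGroup.mk' N) : Subgroup (G ⧸ N)) : Set (G ⧸ N)) := by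
    rw [← map_X]
    exact ⟨g, g.2, rfl⟩
  have h2 := (mem_normalizer_iff.1 (D.le_norm i h1) _).1 hsL
  rw [← map_inv, ← map_mul, ← map_mul, hg'] at h2
  exact ht1 (D.disj hij h2 htL)

theorem exp_two (hSN : S ⊓ N = ⊥) (i : Fin r) {s : G} (hs : s ∈ S) : s * s = 1 := by
  have h1 : QuotientGroup.mk' N s ∈ S.map (QuotientGroup.mk' N) := ⟨s, hs, rfl⟩
  have h2 : QuotientGroup.mk' N s ∈ L i := by
    have h3 := subset_normalClosure (s := ((S.map (QuotientGroup.mk' N) : Subgroup (G ⧸ N)) : Set (G ⧸ N))) h1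
    rw [← D.sup] at h3
    have h4 : (⨆ j, L j) ≤ L i := iSup_le fun j => by rw [unique h hN D hSN j i]
    exact h4 h3
  have h3 := D.exp i ⟨h1, h2⟩
  have h4 : s * s ∈ S ⊓ N := by
    refine ⟨S.mul_mem hs hs, (QuotientGroup.eq_one_iff (N := N) (s * s)).1 ?_⟩
    show QuotientGroup.mk' N (s * s) = 1
    rw [map_mul, h3]
  rw [hSN, mem_bot] at h4
  exact h4

theorem eq_omega (hSN : S ⊓ N = ⊥) (i : Fin r) :
    S = omegaOne 2 ((T : Subgroup G) ⊓ normalClosure (S : Set G)) := by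
  apply le_antisymm
  · intro s hs
    exact subset_closure ⟨⟨h.sc.1 hs, h.le_X hs⟩, by rw [pow_two]; exact exp_two h hN D hSN i hs⟩
  · rw [omegaOne, closure_le]
    rintro t ⟨⟨ht, htX⟩, ht2⟩
    exact omega h hN D ht htX (by rw [← pow_two, ht2])

theorem not_rank (hSN : S ⊓ N = ⊥) (i : Fin r) : ¬ PRankLE 2 1 S := by
  intro hr
  have hexp : ∀ s : S, s * s = 1 := fun s => Subtype.ext (exp_two h hN D hSN i s.2)
  have hcom : IsMulCommutative (⊤ : Subgroup S) := by
    refine ⟨⟨fun a b => Subtype.ext ?_⟩⟩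
    have h1 := hexp a
    have h2 := hexp b
    have h3 := hexp (a * b)
    calc (a : S) * b = a * 1 * b := by rw [mul_one]
      _ = a * ((a : S) * b * (a * b)) * b := by rw [h3]
      _ = (a * a) * b * a * (b * b) := by group
      _ = b * a := by rw [h1, h2]; simp
  have h1 := hr ⊤ hcom (fun a _ => by rw [pow_two, hexp])
  rw [card_top, pow_one] at h1
  obtain ⟨x, ⟨⟨s, hs, hsx⟩, -⟩, y, ⟨⟨t, ht, hty⟩, -⟩, hxy, hx1, -, hy1, -⟩ := D.exists_two i
  have h2 : ({1, ⟨s, hs⟩, ⟨t, ht⟩} : Set S).ncard = 3 := by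
    rw [Set.ncard_insert_of_notMem, Set.ncard_pair]
    · intro h3
      apply hxy
      rw [← hsx, ← hty, show s = t from congrArg Subtype.val h3]
    · rintro (h3 | h3)
      · apply hx1
        rw [← hsx, show s = 1 from (congrArg Subtype.val h3).symm, map_one]
      · apply hy1
        rw [← hty, show t = 1 from (congrArg Subtype.val h3).symm, map_one]
  have h3 := Set.ncard_le_card ({1, ⟨s, hs⟩, ⟨t, ht⟩} : Set S)
  omega

end main

end Cfsg.Agent.H331.SCMain
end

private theorem dce_7a5ce88c173f : _root_.True := by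
  try have : _root_.True := by simp only [_root_.Cfsg.omegaOne.eq_1]
  exact _root_.True.intro
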